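import Mathlib

/-!
# Functions of bounded degree with values in `ZMod 2`

`DegLe k f` says that the `k + 1`-st derivatives of `f` vanish. A function of degree less than
the dimension has total sum zero; hence a function of degree `< n` on `V ^ ι` that is invariant
under a Singer element of prime order `2 ^ n - 1` is constant.
-/

namespace Cfsg.Agent.TransLinTwo

variable {M N : Type*} [AddCommGroup M] [AddCommGroup N]

/-- The derivative of `f` in direction `a`. -/
def fwd (a : M) (f : M → ZMod 2) : M → ZMod 2 := fun x => f (x + a) + f x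

/-- All derivatives of order `k + 1` vanish. -/
def DegLe : ℕ → (M → ZMod 2) → Prop
  | 0, f => ∀ a x, f (x + a) = f x
  | k + 1, f => ∀ a, DegLe k (fwd a f)

theorem degLe_succ_iff {k : ℕ} {f : M → ZMod 2} :
    DegLe (k + 1) f ↔ ∀ a, DegLe k (fun x => f (x + a) + f x) := Iff.rfl

theorem fwd_apply (a : M) (f : M → ZMod 2) (x : M) : fwd a f x = f (x + a) + f x := rfl

theorem fwd_const (a : M) (c : ZMod 2) : fwd a (fun _ => c) = fun _ => 0 := by
  funext x; exact CharTwo.add_self_eq_zero c

theorem fwd_zero (f : M → ZMod 2) : fwd 0 f = fun _ => 0 := by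
  funext x; rw [fwd_apply, add_zero, CharTwo.add_self_eq_zero]

theorem fwd_fun_add (a : M) (f g : M → ZMod 2) :
    fwd a (fun x => f x + g x) = fun x => fwd a f x + fwd a g x := by
  funext x; simp only [fwd_apply]; abel

theorem fwd_comm (a b : M) (f : M → ZMod 2) : fwd a (fwd b f) = fwd b (fwd a f) := by
  funext x; simp only [fwd_apply]; rw [add_right_comm x a b]; abel

theorem fwd_add_dir (a b : M) (f : M → ZMod 2) :
    fwd (a + b) f = fun x => fwd a f x + fwd b f x + fwd b (fwd a f) x := by
  funext x
  simp only [fwd_apply, show x + b + a = x + (a + b) by abel]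
  ring_nf
  reduce_mod_char

theorem degLe_const (k : ℕ) (c : ZMod 2) : DegLe k (fun _ : M => c) := by
  induction k generalizing c with
  | zero => intro a x; rfl
  | succ k ih => intro a; rw [fwd_const]; exact ih 0

theorem DegLe.succ {k : ℕ} {f : M → ZMod 2} (h : DegLe k f) : DegLe (k + 1) f := by
  induction k generalizing f with
  | zero =>
    intro a b x
    show f (x + b + a) + f (x + b) = f (x + a) + f x
    rw [h a, h a, CharTwo.add_self_eq_zero, CharTwo.add_self_eq_zero]
  | succ k ih => intro a; exact ih (h a)

theorem DegLe.mono {k l : ℕ} {f : M → ZMod 2} (h : DegLe k f) (hkl : k ≤ l) : DegLe l f := by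
  induction hkl with
  | refl => exact h
  | step _ ih => exact ih.succ

theorem DegLe.add {k : ℕ} {f g : M → ZMod 2} (hf : DegLe k f) (hg : DegLe k g) :
    DegLe k (fun x => f x + g x) := by
  induction k generalizing f g with
  | zero => intro a x; simp only [hf a x, hg a x]
  | succ k ih => intro a; rw [fwd_fun_add]; exact ih (hf a) (hg a)

theorem DegLe.sum {κ : Type*} {k : ℕ} (s : Finset κ) {f : κ → M → ZMod 2}
    (hf : ∀ i ∈ s, DegLe k (f i)) : DegLe k (fun x => ∑ i ∈ s, f i x) := by
  classical
  induction s using Finset.induction_on with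
  | empty => simpa using degLe_const k 0
  | insert i s hi ih =>
    simp only [Finset.sum_insert hi]
    exact (hf i (Finset.mem_insert_self i s)).add
      (ih fun j hj => hf j (Finset.mem_insert_of_mem hj))

theorem DegLe.comp_add_right {k : ℕ} {f : M → ZMod 2} (hf : DegLe k f) (c : M) :
    DegLe k (fun x => f (x + c)) := by
  induction k generalizing f with
  | zero =>
    intro a x
    show f (x + a + c) = f (x + c)
    rw [add_right_comm, hf]
  | succ k ih =>
    intro a
    have : fwd a (fun x => f (x + c)) = fun x => fwd a f (x + c) := by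
      funext x; simp only [fwd_apply]; rw [add_right_comm x a c]
    rw [this]
    exact ih (hf a)

theorem DegLe.comp_addMonoidHom {k : ℕ} {f : M → ZMod 2} (hf : DegLe k f) (φ : N →+ M) :
    DegLe k (fun x => f (φ x)) := by
  induction k generalizing f with
  | zero =>
    intro a x
    show f (φ (x + a)) = f (φ x)
    rw [map_add, hf]
  | succ k ih =>
    intro a
    have : fwd a (fun x => f (φ x)) = fun x => fwd (φ a) f (φ x) := by
      funext x; simp only [fwd_apply, map_add]
    rw [this]
    exact ih (hf (φ a))

theorem degLe_of_additive {f : M → ZMod 2} (hf : ∀ x y, f (x + y) = f x + f y) : DegLe 1 f := by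
  intro a b x
  simp only [fwd_apply, hf]
  ring_nf
  reduce_mod_char

theorem degLe_addMonoidHom (φ : M →+ ZMod 2) : DegLe 1 (fun x => φ x) :=
  degLe_of_additive (map_add φ)

private theorem const_mul_degLe {k : ℕ} (c : ZMod 2) {f : M → ZMod 2} (hf : DegLe k f) :
    DegLe k (fun x => c * f x) := by
  rcases (show c = 0 ∨ c = 1 by revert c; decide) with rfl | rfl
  · simpa using degLe_const k 0
  · simpa using hf

theorem DegLe.mul {k l : ℕ} {f g : M → ZMod 2} (hf : DegLe k f) (hg : DegLe l g) :
    DegLe (k + l) (fun x => f x * g x) := by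
  obtain ⟨m, hm⟩ : ∃ m, k + l ≤ m := ⟨_, le_rfl⟩
  induction m generalizing k l f g with
  | zero =>
    obtain ⟨rfl, rfl⟩ : k = 0 ∧ l = 0 := by omega
    intro a x; simp only [hf a x, hg a x]
  | succ m ih =>
    match k, l with
    | 0, l =>
      have hf0 : f = fun _ => f 0 := funext fun x => by simpa using hf x 0
      rw [Nat.zero_add, hf0]
      exact const_mul_degLe _ hg
    | k + 1, 0 =>
      have hg0 : g = fun _ => g 0 := funext fun x => by simpa using hg x 0
      rw [hg0]
      simpa only [mul_comm (g 0), Nat.add_zero] using const_mul_degLe (g 0) hf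
    | k + 1, l + 1 =>
      show DegLe (k + 1 + l + 1) _
      intro a
      have : fwd a (fun x => f x * g x)
          = fun x => fwd a f x * g (x + a) + f x * fwd a g x := by
        funext x; simp only [fwd_apply]; ring_nf; reduce_mod_char
      rw [this]
      have e : k + (l + 1) = k + 1 + l := by omega
      exact ((ih (hf a) (hg.comp_add_right a) (by omega)).mono e.le).add
        (ih hf (hg a) (by omega))

section pi

variable {ι : Type*} [DecidableEq ι]

private theorem add_single_eq_update (x : ι → M) (j : ι) (v : M) :
    x + Pi.single j v = Function.update x j (x j + v) := by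
  funext i
  rcases eq_or_ne i j with rfl | hi
  · simp
  · simp [Pi.single_eq_of_ne hi, Function.update_of_ne hi]

private theorem degLe_pi_aux [Fintype ι] (K : ℕ) :
    ∀ (f : (ι → M) → ZMod 2) (δ : ι → ℕ), ∑ j, δ j ≤ K →
      (∀ j x, DegLe (δ j) fun v => f (Function.update x j v)) → DegLe K f := by
  -- invariance in the `j`-th variable of degree `0`
  have hinv : ∀ (f : (ι → M) → ZMod 2) (j : ι),
      (∀ x, DegLe 0 fun v => f (Function.update x j v)) → ∀ v x, f (x + Pi.single j v) = f x := by
    intro f j h v x
    simpa [add_single_eq_update] using h x v (x j)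
  induction K with
  | zero =>
    intro f δ hδ h a
    rw [← Finset.univ_sum_single a]
    refine Finset.sum_induction _ (fun a => ∀ x, f (x + a) = f x) ?_ (by simp) ?_
    · intro a b ha hb x
      rw [← add_assoc, hb, ha]
    · intro j _
      refine hinv f j (fun x => ?_) _
      have : δ j = 0 := by
        have := Finset.single_le_sum (f := δ) (fun _ _ => Nat.zero_le _) (Finset.mem_univ j)
        omega
      simpa [this] using h j x
  | succ K ih =>
    intro f δ hδ h a
    rw [← Finset.univ_sum_single a]
    refine Finset.sum_induction _ (fun a => DegLe K (fwd a f)) ?_ ?_ ?_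
    · intro a b ha hb
      have : fwd (a + b) f = fun x => fwd a f (x + b) + fwd b f x := by
        funext x
        simp only [fwd_apply, show x + (a + b) = x + b + a by abel]
        ring_nf
        reduce_mod_char
      rw [this]
      exact (ha.comp_add_right b).add hb
    · rw [fwd_zero]; exact degLe_const K 0
    · intro j _
      generalize a j = v
      rcases Nat.eq_zero_or_pos (δ j) with hj | hj
      · have : fwd (Pi.single j v) f = fun _ => 0 := by
          funext x
          rw [fwd_apply, hinv f j (fun x => hj ▸ h j x), CharTwo.add_self_eq_zero]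
        rw [this]; exact degLe_const K 0
      · obtain ⟨d, hd⟩ : ∃ d, δ j = d + 1 := ⟨δ j - 1, by omega⟩
        refine ih _ (Function.update δ j d) ?_ ?_
        · have h1 := Finset.add_sum_erase _ δ (Finset.mem_univ j)
          rw [Finset.sum_update_of_mem (Finset.mem_univ j), Finset.sdiff_singleton_eq_erase]
          omega
        · intro i x
          rcases eq_or_ne i j with rfl | hij
          · rw [Function.update_self]
            have hs : (fun w => fwd (Pi.single i v) f (Function.update x i w))
                = fwd v (fun w => f (Function.update x i w)) := by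
              funext w
              simp only [fwd_apply, add_single_eq_update, Function.update_self,
                Function.update_idem]
            rw [hs]
            have := h i x
            rw [hd] at this
            exact this v
          · rw [Function.update_of_ne hij]
            have hs : (fun w => fwd (Pi.single j v) f (Function.update x i w))
                = fun w => f (Function.update (x + Pi.single j v) i w)
                    + f (Function.update x i w) := by
              funext w
              have : Function.update x i w + Pi.single j v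
                  = Function.update (x + Pi.single j v) i w := by
                funext l
                rcases eq_or_ne l i with rfl | hl
                · simp [Pi.single_eq_of_ne hij]
                · simp [Function.update_of_ne hl]
              rw [fwd_apply, this]
            rw [hs]
            exact (h i _).add (h i x)

/-- A function of several variables, of degree at most `δ j` in the `j`-th one, has degree at
most `∑ j, δ j`. -/
theorem degLe_pi [Fintype ι] (f : (ι → M) → ZMod 2) (δ : ι → ℕ)
    (h : ∀ j x, DegLe (δ j) fun v => f (Function.update x j v)) : DegLe (∑ j, δ j) f :=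
  degLe_pi_aux _ f δ le_rfl h

theorem degLe_pi_const [Fintype ι] (f : (ι → M) → ZMod 2) (δ : ℕ)
    (h : ∀ j x, DegLe δ fun v => f (Function.update x j v)) :
    DegLe (Fintype.card ι * δ) f := by
  simpa using degLe_pi f (fun _ => δ) h

end pi

section Vec

variable {V : Type*} [AddCommGroup V] [Module (ZMod 2) V]

theorem degLe_zmod_two : ∀ f : ZMod 2 → ZMod 2, DegLe 1 f := by
  have : ∀ (f : ZMod 2 → ZMod 2) (a b x : ZMod 2),
      f (x + b + a) + f (x + b) = f (x + a) + f x := by decide
  exact fun f a b x => this f a b x

/-- Every function on an `n`-dimensional space has degree at most `n`. -/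
theorem degLe_finrank [Finite V] (f : V → ZMod 2) :
    DegLe (Module.finrank (ZMod 2) V) f := by
  set n := Module.finrank (ZMod 2) V with hn
  let e : V ≃ₗ[ZMod 2] (Fin n → ZMod 2) := (Module.finBasis (ZMod 2) V).equivFun
  have h : DegLe (Fintype.card (Fin n) * 1) (fun y => f (e.symm y)) :=
    degLe_pi_const _ 1 fun j x => degLe_zmod_two _
  simpa using h.comp_addMonoidHom (e : V →ₗ[ZMod 2] Fin n → ZMod 2).toAddMonoidHom

/-- A function invariant under translations by `S` has degree at most the codimension of `S`. -/
theorem degLe_of_invariant [Finite V] (S : Submodule (ZMod 2) V) (f : V → ZMod 2)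
    (h : ∀ x, ∀ s ∈ S, f (x + s) = f x) : DegLe (Module.finrank (ZMod 2) (V ⧸ S)) f := by
  have : Finite (V ⧸ S) := Finite.of_surjective _ S.mkQ_surjective
  have hd := (degLe_finrank (fun q : V ⧸ S =>
    f (Function.surjInv S.mkQ_surjective q))).comp_addMonoidHom S.mkQ.toAddMonoidHom
  convert hd using 1
  funext x
  have hs : Function.surjInv S.mkQ_surjective (S.mkQ x) - x ∈ S :=
    (Submodule.Quotient.eq S).mp (Function.surjInv_eq S.mkQ_surjective (S.mkQ x))
  have := h x _ hs
  rw [add_sub_cancel] at this
  exact this.symm

private theorem sum_eq_zero_aux (m : ℕ) : ∀ (k : ℕ) (f : (Fin m → ZMod 2) → ZMod 2),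
    DegLe k f → k < m → ∑ y, f y = 0 := by
  induction m with
  | zero => intro k f _ h; omega
  | succ m ih =>
    intro k f hf hkm
    let φ : (Fin m → ZMod 2) →+ (Fin (m + 1) → ZMod 2) :=
      AddMonoidHom.mk' (fun y => Fin.cons 0 y) fun y z => by
        funext i; refine Fin.cases ?_ (fun i => ?_) i <;> simp
    have hsplit : ∑ y, f y
        = ∑ y : Fin m → ZMod 2, (f (φ y + Fin.cons 1 0) + f (φ y)) := by
      have hcons : ∀ y : Fin m → ZMod 2, φ y + Fin.cons 1 0 = Fin.cons 1 y := by
        intro y; funext i; refine Fin.cases ?_ (fun i => ?_) i <;> simp [φ]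
      rw [← Equiv.sum_comp (Fin.consEquiv fun _ => ZMod 2) f, Fintype.sum_prod_type,
        show (Finset.univ : Finset (ZMod 2)) = {0, 1} from rfl,
        Finset.sum_pair (by decide), ← Finset.sum_add_distrib]
      refine Finset.sum_congr rfl fun y _ => ?_
      rw [hcons, add_comm]
      rfl
    rw [hsplit]
    match k with
    | 0 => exact Finset.sum_eq_zero fun y _ => by rw [hf, CharTwo.add_self_eq_zero]
    | k + 1 => exact ih k _ ((hf _).comp_addMonoidHom φ) (by omega)

/-- A function of degree less than the dimension sums to zero. -/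
theorem sum_eq_zero_of_degLe [Fintype V] {k : ℕ} {f : V → ZMod 2} (hf : DegLe k f)
    (hk : k < Module.finrank (ZMod 2) V) : ∑ x, f x = 0 := by
  set n := Module.finrank (ZMod 2) V with hn
  let e : V ≃ₗ[ZMod 2] (Fin n → ZMod 2) := (Module.finBasis (ZMod 2) V).equivFun
  rw [← Equiv.sum_comp e.symm.toEquiv f]
  exact sum_eq_zero_aux n k _
    (hf.comp_addMonoidHom (e.symm : (Fin n → ZMod 2) →ₗ[ZMod 2] V).toAddMonoidHom) hk

/-- A Singer element of prime order is regular on the nonzero vectors. -/
theorem singer_orbit [Finite V] (g : V ≃ₗ[ZMod 2] V)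
    (hp : (2 ^ Module.finrank (ZMod 2) V - 1).Prime)
    (hg : orderOf g = 2 ^ Module.finrank (ZMod 2) V - 1) {v : V} (hv : v ≠ 0) :
    ∀ w : V, w ≠ 0 → ∃ i, i < orderOf g ∧ (g ^ i) v = w := by
  classical
  have := Fintype.ofFinite V
  set p := orderOf g with hpdef
  have hpp : p.Prime := hg ▸ hp
  have hcard : Fintype.card V = p + 1 := by
    rw [Module.card_eq_pow_finrank (K := ZMod 2), ZMod.card, hg]
    have : 1 ≤ 2 ^ Module.finrank (ZMod 2) V := Nat.one_le_two_pow
    omega
  -- an orbit of a moved vector has size `p`
  have hinj : ∀ u : V, g u ≠ u → Set.InjOn (fun i : ℕ => (g ^ i) u) (Finset.range p) := by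
    intro u hu
    have key : ∀ d, 0 < d → d < p → (g ^ d) u ≠ u := by
      intro d hd0 hdp hfix
      have hco : Nat.Coprime d p :=
        ((Nat.Prime.coprime_iff_not_dvd hpp).mpr (Nat.not_dvd_of_pos_of_lt hd0 hdp)).symm
      obtain ⟨j, -, hj⟩ := Nat.exists_mul_mod_eq_one_of_coprime hco hpp.one_lt
      have h1 : (g ^ d) ^ j = g := by
        rw [← pow_mul, ← pow_mod_orderOf, ← hpdef, hj, pow_one]
      have h2 : ∀ j : ℕ, ((g ^ d) ^ j) u = u := by
        intro j
        induction j with
        | zero => rfl
        | succ j ihj => rw [pow_succ, LinearEquiv.mul_apply, hfix, ihj]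
      exact hu (by simpa only [h1] using h2 j)
    intro a ha b hb hab
    simp only [Finset.coe_range, Set.mem_Iio] at ha hb
    dsimp only at hab
    have main : ∀ a b, a < b → b < p → (g ^ a) u ≠ (g ^ b) u := by
      intro a b hlt hb' hab'
      refine key (b - a) (by omega) (by omega) ((g ^ a).injective ?_)
      rw [← LinearEquiv.mul_apply, ← pow_add, Nat.add_sub_cancel' hlt.le]
      exact hab'.symm
    rcases lt_trichotomy a b with h | h | h
    · exact absurd hab (main a b h hb)
    · exact h
    · exact absurd hab.symm (main b a h ha)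
  -- there are no nonzero fixed vectors
  have hfree : ∀ u : V, g u = u → u = 0 := by
    intro u hu
    by_contra hu0
    obtain ⟨v', hv'⟩ : ∃ v' : V, g v' ≠ v' := by
      by_contra hall
      push Not at hall
      have : g = 1 := LinearEquiv.ext hall
      rw [this, orderOf_one] at hpdef
      exact hpp.ne_one hpdef
    have hsub : (Finset.range p).image (fun i => (g ^ i) v') ⊆ ({0, u}ᶜ : Finset V) := by
      intro w hw
      obtain ⟨i, -, rfl⟩ := Finset.mem_image.mp hw
      have hmove : g ((g ^ i) v') ≠ (g ^ i) v' := by
        rw [← LinearEquiv.mul_apply, ← pow_succ', pow_succ, LinearEquiv.mul_apply]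
        exact fun h => hv' ((g ^ i).injective h)
      simp only [Finset.mem_compl, Finset.mem_insert, Finset.mem_singleton, not_or]
      exact ⟨fun h => hmove (by rw [h, map_zero]), fun h => hmove (by rw [h, hu])⟩
    have h1 := Finset.card_le_card hsub
    rw [Finset.card_image_of_injOn (hinj v' hv'), Finset.card_range, Finset.card_compl,
      hcard, Finset.card_pair (Ne.symm hu0)] at h1
    have := hpp.pos
    omega
  intro w hw
  have hsub : (Finset.range p).image (fun i => (g ^ i) v) ⊆ ({0}ᶜ : Finset V) := by
    intro z hz
    obtain ⟨i, -, rfl⟩ := Finset.mem_image.mp hz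
    simp [hv]
  have heq := Finset.eq_of_subset_of_card_le hsub (by
    rw [Finset.card_image_of_injOn (hinj v fun h => hv (hfree v h)), Finset.card_range,
      Finset.card_compl, hcard, Finset.card_singleton]
    omega)
  have hwmem : w ∈ (Finset.range p).image (fun i => (g ^ i) v) := by
    rw [heq]; simpa using hw
  obtain ⟨i, hi, rfl⟩ := Finset.mem_image.mp hwmem
  exact ⟨i, Finset.mem_range.mp hi, rfl⟩

/-- The additive family `c ↦ T c` of endomorphisms whose nonzero members are powers of `g`. -/
theorem singer_family [Finite V] (g : V ≃ₗ[ZMod 2] V)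
    (hp : (2 ^ Module.finrank (ZMod 2) V - 1).Prime)
    (hg : orderOf g = 2 ^ Module.finrank (ZMod 2) V - 1) {v₀ : V} (hv : v₀ ≠ 0) :
    ∃ T : V →+ Module.End (ZMod 2) V,
      ∀ c, c ≠ 0 → ∃ i : ℕ, ∀ x, T c x = (g ^ i) x := by
  classical
  have horb := singer_orbit g hp hg hv
  have hex : ∀ c : V, ∃ S : Module.End (ZMod 2) V, S v₀ = c ∧ (∀ x, S (g x) = g (S x)) ∧
      (c ≠ 0 → ∃ i : ℕ, ∀ x, S x = (g ^ i) x) := by
    intro c
    rcases eq_or_ne c 0 with rfl | hc
    · exact ⟨0, by simp, by simp, fun h => absurd rfl h⟩
    obtain ⟨i, -, hi⟩ := horb c hc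
    refine ⟨((g ^ i : V ≃ₗ[ZMod 2] V) : V →ₗ[ZMod 2] V), hi, fun x => ?_, fun _ => ⟨i, fun x => rfl⟩⟩
    simp only [LinearEquiv.coe_coe, ← LinearEquiv.mul_apply, ← pow_succ, ← pow_succ']
  choose S hSv hScomm hSpow using hex
  refine ⟨AddMonoidHom.mk' S fun c d => ?_, hSpow⟩
  have hzero : ∀ D : Module.End (ZMod 2) V, D v₀ = 0 → (∀ x, D (g x) = g (D x)) → D = 0 := by
    intro D h0 hc
    refine LinearMap.ext fun x => ?_
    rcases eq_or_ne x 0 with rfl | hx
    · simp
    obtain ⟨i, -, rfl⟩ := horb x hx
    clear hx
    induction i with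
    | zero => simpa using h0
    | succ i ihi =>
      rw [pow_succ', LinearEquiv.mul_apply, hc, ihi]
      simp
  refine sub_eq_zero.mp (hzero _ ?_ fun x => ?_)
  · simp [hSv]
  · simp [hScomm, map_sub, map_add]

/-- An invariant of a Singer element of degree less than the dimension is constant. -/
theorem const_of_singer_invariant [Finite V] (g : V ≃ₗ[ZMod 2] V)
    (hp : (2 ^ Module.finrank (ZMod 2) V - 1).Prime)
    (hg : orderOf g = 2 ^ Module.finrank (ZMod 2) V - 1) {ι : Type*} {k : ℕ}
    (F : (ι → V) → ZMod 2) (hk : DegLe k F) (hkn : k < Module.finrank (ZMod 2) V)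
    (hinv : ∀ x, F (fun j => g (x j)) = F x) : ∀ x, F x = F 0 := by
  classical
  have := Fintype.ofFinite V
  have : Nontrivial V := Module.finrank_pos_iff.mp (by omega : 0 < Module.finrank (ZMod 2) V)
  obtain ⟨v₀, hv⟩ := exists_ne (0 : V)
  obtain ⟨T, hT⟩ := singer_family g hp hg hv
  have hinvpow : ∀ (i : ℕ) (x : ι → V), F (fun j => (g ^ i) (x j)) = F x := by
    intro i
    induction i with
    | zero => intro x; rfl
    | succ i ihi =>
      intro x
      simp only [pow_succ, LinearEquiv.mul_apply]
      rw [ihi (fun j => g (x j)), hinv]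
  intro x
  let φ : V →+ (ι → V) := AddMonoidHom.mk' (fun c j => T c (x j)) fun c d => by
    funext j; simp
  have hsum := sum_eq_zero_of_degLe (hk.comp_addMonoidHom φ) hkn
  have hne : ∀ c ∈ (Finset.univ : Finset V).erase 0, F (φ c) = F x := by
    intro c hc
    obtain ⟨i, hi⟩ := hT c (Finset.ne_of_mem_erase hc)
    rw [← hinvpow i x]
    exact congrArg F (funext fun j => hi _)
  have hcard : ((Fintype.card V - 1 : ℕ) : ZMod 2) = 1 := by
    rw [Module.card_eq_pow_finrank (K := ZMod 2), ZMod.card]
    have h1 : 2 ^ Module.finrank (ZMod 2) V - 1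
        = 2 * (2 ^ (Module.finrank (ZMod 2) V - 1) - 1) + 1 := by
      have := Nat.one_le_two_pow (n := Module.finrank (ZMod 2) V - 1)
      have h2 : 2 ^ Module.finrank (ZMod 2) V = 2 * 2 ^ (Module.finrank (ZMod 2) V - 1) := by
        rw [← pow_succ']; congr 1; omega
      omega
    rw [h1, Nat.cast_add, Nat.cast_mul]
    simp [CharTwo.two_eq_zero]
  rw [← Finset.add_sum_erase _ _ (Finset.mem_univ (0 : V)), Finset.sum_congr rfl hne,
    Finset.sum_const, Finset.card_erase_of_mem (Finset.mem_univ _), Finset.card_univ,
    nsmul_eq_mul, hcard, one_mul, map_zero, CharTwo.add_eq_zero] at hsum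
  exact hsum.symm

end Vec

/-- If `M` is additive in its second argument and `M (a + b) b = M a b + M b a`, then it has
degree at most three in its first argument. -/
theorem deg_three_of_identity {V : Type*} [AddCommGroup V] (M : V → V → ZMod 2)
    (hadd : ∀ a b b', M a (b + b') = M a b + M a b')
    (hid : ∀ a b, M (a + b) b = M a b + M b a) : ∀ b, DegLe 3 fun a => M a b := by
  set f : V → V → ZMod 2 := fun b a => M a b with hf
  have hdiag : ∀ b, fwd b (f b) = fun a => M b a := by
    intro b; funext a
    simp only [hf, fwd_apply, hid]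
    rw [add_comm (M a b), add_assoc, CharTwo.add_self_eq_zero, add_zero]
  have hdiag2 : ∀ b x, fwd x (fwd b (f b)) = fun _ => M b x := by
    intro b x; funext a
    rw [hdiag, fwd_apply, hadd, add_comm (M b a), add_assoc, CharTwo.add_self_eq_zero, add_zero]
  have hsplit : ∀ b x, f (b + x) = fun a => f b a + f x a := fun b x => funext fun a => hadd a b x
  -- `fwd x (f b) + fwd b (f x)` is affine
  have hD : ∀ b x, DegLe 1 (fun a => fwd x (f b) a + fwd b (f x) a) := by
    intro b x
    have h1 : DegLe 1 (fwd (b + x) (f (b + x))) := by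
      rw [hdiag]; exact degLe_of_additive (hadd _)
    have h2 : ∀ b, DegLe 1 (fwd b (f b)) := fun b => by
      rw [hdiag]; exact degLe_of_additive (hadd _)
    have h3 : DegLe 1 (fwd x (fwd b (f b))) := by rw [hdiag2]; exact degLe_const 1 _
    have h4 : DegLe 1 (fwd x (fwd b (f x))) := by
      rw [fwd_comm, hdiag2]; exact degLe_const 1 _
    have := ((((h1.add (h2 b)).add (h2 x)).add h3).add h4)
    convert this using 1
    funext a
    rw [hsplit, fwd_fun_add, fwd_add_dir, fwd_add_dir]
    ring_nf
    reduce_mod_char
  have hsymm : ∀ b x y w a,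
      fwd w (fwd y (fwd x (f b))) a = fwd w (fwd y (fwd b (f x))) a := by
    intro b x y w a
    have h := hD b x y w a
    simp only [fwd_apply] at h ⊢
    linear_combination (norm := (ring_nf; reduce_mod_char)) h
  intro b x x' y w a
  have hsum : ∀ x x', fwd w (fwd y (fwd (x + x') (f b))) a
      = fwd w (fwd y (fwd x (f b))) a + fwd w (fwd y (fwd x' (f b))) a := by
    intro x x'
    rw [hsymm, hsymm b x, hsymm b x', hsplit, fwd_fun_add, fwd_fun_add, fwd_fun_add]
  have h := hsum x x'
  rw [fwd_add_dir, fwd_fun_add, fwd_fun_add, fwd_fun_add, fwd_fun_add] at h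
  have h0 : fwd w (fwd y (fwd x' (fwd x (f b)))) a = 0 := by
    linear_combination (norm := ring_nf) h
  exact CharTwo.add_eq_zero.mp h0

end Cfsg.Agent.TransLinTwo
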