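import Cfsg.Agent.Lib.Perm.TransLinTwo.Duality

/-!
# The inductive step for transitive linear groups over two elements

If `H` is transitive on independent `i`-tuples and, for every flag `A < B` of dimensions `i-1, i`,
the stabiliser of the flag is transitive on the nonzero vectors of `V ⧸ B`, then `H` is transitive on
independent `(i+1)`-tuples.
-/

set_option autoImplicit false
set_option linter.unusedSectionVars false
set_option linter.style.haveILetI false

open Module

namespace Cfsg.Agent.TransLinTwo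

variable {V : Type*} [AddCommGroup V] [Module (ZMod 2) V] [Finite V]

/-- The flag stabilisers of an `(i-1,i)`-flag are transitive on the quotient. -/
def FlagTrans (H : Subgroup (V ≃ₗ[ZMod 2] V)) (i : ℕ) : Prop :=
  ∀ A B : Submodule (ZMod 2) V, finrank (ZMod 2) A + 1 = i → finrank (ZMod 2) B = i → A ≤ B →
    ∀ u w : V, u ∉ B → w ∉ B →
      ∃ h ∈ H, A.map h.toLinearMap = A ∧ B.map h.toLinearMap = B ∧ h u + w ∈ B

theorem apply_mem_iff {B : Submodule (ZMod 2) V} {g : V ≃ₗ[ZMod 2] V}
    (hg : B.map g.toLinearMap = B) {v : V} : g v ∈ B ↔ v ∈ B := by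
  constructor
  · intro h
    rw [← hg] at h
    obtain ⟨w, hw, e⟩ := h
    exact g.injective e ▸ hw
  · intro h
    rw [← hg]; exact ⟨v, h, rfl⟩

theorem map_eq_of_le {B : Submodule (ZMod 2) V} {g : V ≃ₗ[ZMod 2] V}
    (h : ∀ b ∈ B, g b ∈ B) : B.map g.toLinearMap = B :=
  Submodule.eq_of_le_of_finrank_eq (by rintro _ ⟨b, hb, rfl⟩; exact h b hb)
    (LinearEquiv.finrank_map_eq _ _)

theorem finrank_sup_singleton {A : Submodule (ZMod 2) V} {v : V} (hv : v ∉ A) :
    finrank (ZMod 2) ↥(A ⊔ Submodule.span (ZMod 2) {v}) = finrank (ZMod 2) A + 1 := by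
  have hdis : A ⊓ Submodule.span (ZMod 2) {v} = ⊥ := by
    rw [eq_bot_iff]
    rintro x ⟨hxA, hx⟩
    obtain ⟨c, rfl⟩ := Submodule.mem_span_singleton.1 hx
    rcases zmod2_cases c with rfl | rfl
    · simp
    · exact absurd (by simpa using hxA) hv
  have := Submodule.finrank_sup_add_finrank_inf_eq A (Submodule.span (ZMod 2) {v})
  rw [hdis, finrank_bot, finrank_span_singleton (fun h : v = 0 => hv (h ▸ A.zero_mem))] at this
  omega

theorem finrank_inf_ker {B : Submodule (ZMod 2) V} {f : Module.Dual (ZMod 2) V} {z : V}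
    (hz : z ∈ B) (hf : f z = 1) :
    finrank (ZMod 2) ↥(B ⊓ LinearMap.ker f) + 1 = finrank (ZMod 2) B := by
  have hz' : z ∉ B ⊓ LinearMap.ker f := fun h => one_ne_zero (hf.symm.trans h.2)
  rw [← finrank_sup_singleton hz']
  suffices h : (B ⊓ LinearMap.ker f) ⊔ Submodule.span (ZMod 2) {z} = B by rw [h]
  refine le_antisymm (sup_le inf_le_left ((Submodule.span_singleton_le_iff_mem ..).2 hz)) ?_
  intro b hb
  rcases zmod2_cases (f b) with h | h
  · exact Submodule.mem_sup_left ⟨hb, h⟩
  · refine Submodule.mem_sup.2 ⟨b + z, ⟨B.add_mem hb hz, ?_⟩, z,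
      Submodule.mem_span_singleton_self z, by rw [add_assoc, add_self, add_zero]⟩
    rw [SetLike.mem_coe, LinearMap.mem_ker, map_add, h, hf]; rfl

variable {H : Subgroup (V ≃ₗ[ZMod 2] V)} {i : ℕ}

/-- An element of `H` fixing `B` pointwise moves `u` into `w + B`. -/
def Linked (H : Subgroup (V ≃ₗ[ZMod 2] V)) (B : Submodule (ZMod 2) V) (u w : V) : Prop :=
  ∃ h ∈ pointFix H B, h u + w ∈ B

theorem linked_symm {B : Submodule (ZMod 2) V} {u w : V} (h : Linked H B u w) :
    Linked H B w u := by
  obtain ⟨g, hg, e⟩ := h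
  refine ⟨g⁻¹, inv_mem hg, ?_⟩
  have := (inv_mem hg).2 _ e
  rw [map_add, ← LinearEquiv.mul_apply, inv_mul_cancel] at this
  rw [add_comm]
  exact (show (1 : V ≃ₗ[ZMod 2] V) u = u from rfl) ▸ this ▸ e

theorem linked_trans {B : Submodule (ZMod 2) V} {u v w : V} (h₁ : Linked H B u v)
    (h₂ : Linked H B v w) : Linked H B u w := by
  obtain ⟨g, hg, e⟩ := h₁
  obtain ⟨g', hg', e'⟩ := h₂
  refine ⟨g' * g, mul_mem hg' hg, ?_⟩
  have := B.add_mem e e'
  rw [← hg'.2 _ e, map_add] at this
  rw [LinearEquiv.mul_apply]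
  convert this using 1
  rw [add_assoc, ← add_assoc (g' v) (g' v) w, add_self, zero_add]

theorem linked_refl (B : Submodule (ZMod 2) V) (u : V) : Linked H B u u :=
  ⟨1, one_mem _, by show u + u ∈ B; rw [add_self]; exact B.zero_mem⟩

theorem pointFix_map {B : Submodule (ZMod 2) V} {h : V ≃ₗ[ZMod 2] V} (hh : h ∈ pointFix H B) :
    B.map h.toLinearMap = B :=
  map_eq_of_le fun b hb => (hh.2 b hb).symm ▸ hb

theorem conj_mem_pointFix {B : Submodule (ZMod 2) V} {n h : V ≃ₗ[ZMod 2] V} (hn : n ∈ H)
    (hh : h ∈ pointFix H B) : n * h * n⁻¹ ∈ pointFix H (B.map n.toLinearMap) := by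
  refine ⟨mul_mem (mul_mem hn hh.1) (inv_mem hn), ?_⟩
  rintro _ ⟨b, hb, rfl⟩
  show n (h (n.symm (n b))) = n b
  rw [n.symm_apply_apply, hh.2 b hb]

/-- Elements fixing a hyperplane of `B` pointwise preserve every linkage class. -/
theorem linked_of_fix_hyperplane (hF : FlagTrans H i) (hin : i < finrank (ZMod 2) V)
    {A B : Submodule (ZMod 2) V} (hA : finrank (ZMod 2) A + 1 = i)
    (hB : finrank (ZMod 2) B = i) (hAB : A ≤ B) {q : V ≃ₗ[ZMod 2] V} (hqH : q ∈ H)
    (hqA : ∀ a ∈ A, q a = a) (hqB : B.map q.toLinearMap = B) {u : V} (hu : u ∉ B) :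
    Linked H B u (q u) := by
  classical
  let N : Subgroup (V ≃ₗ[ZMod 2] V) :=
    { carrier := {h | h ∈ H ∧ A.map h.toLinearMap = A ∧ B.map h.toLinearMap = B}
      one_mem' := ⟨one_mem _, Submodule.map_id _, Submodule.map_id _⟩
      mul_mem' := fun {g h} hg hh => ⟨mul_mem hg.1 hh.1,
        map_eq_of_le fun b hb => (apply_mem_iff hg.2.1).2 ((apply_mem_iff hh.2.1).2 hb),
        map_eq_of_le fun b hb => (apply_mem_iff hg.2.2).2 ((apply_mem_iff hh.2.2).2 hb)⟩
      inv_mem' := fun {g} hg => ⟨inv_mem hg.1,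
        map_eq_of_le fun b hb => (apply_mem_iff hg.2.1).1 (by
          show g (g.symm b) ∈ A; rwa [g.apply_symm_apply]),
        map_eq_of_le fun b hb => (apply_mem_iff hg.2.2).1 (by
          show g (g.symm b) ∈ B; rwa [g.apply_symm_apply])⟩ }
  have hPN : ∀ h ∈ pointFix H B, h ∈ N := fun h hh =>
    ⟨hh.1, map_eq_of_le fun a ha => (hh.2 a (hAB ha)).symm ▸ ha, pointFix_map hh⟩
  let Q : Subgroup N :=
    { carrier := {n | ∀ a ∈ A, n.1 a = a}
      one_mem' := fun _ _ => rfl
      mul_mem' := fun {g h} hg hh a ha => by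
        show g.1 (h.1 a) = a
        rw [hh a ha, hg a ha]
      inv_mem' := fun {g} hg a ha => g.1.symm_apply_eq.2 (hg a ha).symm }
  haveI hQn : Q.Normal := ⟨fun q hq g a ha => by
    show g.1 (q.1 (g.1.symm a)) = a
    rw [hq _ ((apply_mem_iff g.2.2.1).1 (by rwa [g.1.apply_symm_apply])), g.1.apply_symm_apply]⟩
  let P : Subgroup N := (pointFix H B).subgroupOf N
  haveI hPn : P.Normal := ⟨fun p hp g => by
    show g.1 * p.1 * g.1⁻¹ ∈ pointFix H B
    have := conj_mem_pointFix g.2.1 (show p.1 ∈ pointFix H B from hp)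
    rwa [g.2.2.2] at this⟩
  let M : Subgroup N :=
    { carrier := {n | Linked H B u (n.1 u)}
      one_mem' := linked_refl B u
      mul_mem' := fun {g h} hg hh => by
        obtain ⟨k, hk, e⟩ := hh
        refine linked_trans hg ⟨g.1 * k * g.1⁻¹,
          by simpa [g.2.2.2] using conj_mem_pointFix g.2.1 hk, ?_⟩
        show g.1 (k (g.1.symm (g.1 u))) + g.1 (h.1 u) ∈ B
        rw [g.1.symm_apply_apply, ← map_add]
        exact (apply_mem_iff g.2.2.2).2 e
      inv_mem' := fun {g} hg => by
        obtain ⟨k, hk, e⟩ := linked_symm hg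
        refine ⟨g.1⁻¹ * k * g.1, ?_, ?_⟩
        · have := conj_mem_pointFix (inv_mem g.2.1) hk
          rw [inv_inv, show B.map (g.1⁻¹ : V ≃ₗ[ZMod 2] V).toLinearMap = B from (g⁻¹).2.2.2] at this
          exact this
        · show g.1.symm (k (g.1 u)) + g.1.symm u ∈ B
          rw [← map_add]
          exact (apply_mem_iff (g⁻¹).2.2.2).2 e }
  have hPM : P ≤ M := fun p hp => ⟨p.1, hp, by rw [add_self]; exact B.zero_mem⟩
  let S : Subgroup N :=
    { carrier := {n | B.mkQ (n.1 u) = B.mkQ u}
      one_mem' := rfl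
      mul_mem' := fun {g h} hg hh => by
        simp only [Set.mem_ofPred_eq, Submodule.mkQ_apply, Submodule.Quotient.eq] at hg hh ⊢
        have := B.add_mem ((apply_mem_iff g.2.2.2).2 hh) hg
        rw [map_sub, sub_add_sub_cancel] at this
        exact this
      inv_mem' := fun {g} hg => by
        simp only [Set.mem_ofPred_eq, Submodule.mkQ_apply, Submodule.Quotient.eq] at hg ⊢
        refine (apply_mem_iff g.2.2.2).1 ?_
        rw [map_sub, show g.1 ((g⁻¹ : N).1 u) = u from g.1.apply_symm_apply u, ← neg_sub]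
        exact B.neg_mem hg }
  have hSM : S ≤ M := fun s hs => ⟨1, one_mem _, by
    show u + s.1 u ∈ B
    rw [← sub_eq_add', ← neg_sub]
    exact B.neg_mem ((Submodule.Quotient.eq B).1 hs)⟩
  haveI : Finite (V ⧸ B) := Finite.of_surjective _ B.mkQ_surjective
  have hS : Odd S.index := by
    rw [index_eq_card_range S (fun n => B.mkQ (n.1 u)) fun a b => ?_]
    · have hr : Set.range (fun n : N => B.mkQ (n.1 u)) = {0}ᶜ := by
        ext x
        obtain ⟨w, rfl⟩ := B.mkQ_surjective x
        simp only [Set.mem_range, Set.mem_compl_iff, Set.mem_singleton_iff, Submodule.mkQ_apply,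
          Submodule.Quotient.mk_eq_zero]
        constructor
        · rintro ⟨n, hn⟩ hw
          have hm : n.1 u ∈ B := by
            simpa [sub_add_cancel] using B.add_mem ((Submodule.Quotient.eq B).1 hn) hw
          exact hu ((apply_mem_iff n.2.2.2).1 hm)
        · intro hw
          obtain ⟨h, hh, hhA, hhB, hhu⟩ := hF A B hA hB hAB u w hu hw
          exact ⟨⟨h, hh, hhA, hhB⟩, (Submodule.Quotient.eq B).2 (by rwa [sub_eq_add'])⟩
      rw [hr, Nat.card_coe_set_eq, Set.ncard_compl _ (Set.toFinite _) (@Set.toFinite _ _ Subtype.finite),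
        Set.ncard_singleton, Module.natCard_eq_pow_finrank (K := ZMod 2), Nat.card_zmod]
      have hpos : finrank (ZMod 2) (V ⧸ B) ≠ 0 := by
        have := Submodule.finrank_quotient_add_finrank B
        omega
      exact Nat.Even.sub_odd Nat.one_le_two_pow ((Nat.even_pow' hpos).2 even_two) odd_one
    · show B.mkQ (a.1 u) = B.mkQ (b.1 u) ↔ B.mkQ ((a⁻¹ * b : N).1 u) = B.mkQ u
      simp only [Submodule.mkQ_apply, Submodule.Quotient.eq, sub_eq_add']
      rw [← apply_mem_iff a.2.2.2 (v := (a⁻¹ * b : N).1 u + u), map_add, add_comm]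
      rw [show a.1 ((a⁻¹ * b : N).1 u) = b.1 u from a.1.apply_symm_apply _]
  have hodd : Odd (M.relIndex Q) := by
    obtain ⟨t, ht⟩ : Q.relIndex M ∣ Q.index := Subgroup.relIndex_dvd_index_of_normal Q M
    have e₁ : M.relIndex Q * Q.index = Q.relIndex M * M.index := by
      rw [← Subgroup.inf_relIndex_right M Q, Subgroup.relIndex_mul_index inf_le_right,
        ← Subgroup.inf_relIndex_right Q M, Subgroup.relIndex_mul_index inf_le_right, inf_comm]
    have hpos : 0 < Q.relIndex M := Nat.pos_of_ne_zero fun h => by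
      have := Subgroup.index_ne_zero_of_finite (H := Q)
      rw [ht, h, zero_mul] at this
      exact this rfl
    have e₂ : M.relIndex Q * t = M.index := by
      refine Nat.eq_of_mul_eq_mul_left hpos ?_
      rw [← e₁, ht]; ring
    exact (hS.of_dvd_nat ((Dvd.intro _ e₂).trans (Subgroup.index_dvd_of_le hSM)))
  have hpow : ∃ k, M.relIndex Q ∣ 2 ^ k := by
    have h2 : IsPGroup 2 (Q ⧸ P.subgroupOf Q) := by
      intro x
      induction x using QuotientGroup.induction_on with
      | _ x =>
        refine ⟨1, ?_⟩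
        rw [← QuotientGroup.mk_pow, QuotientGroup.eq_one_iff, pow_one]
        refine ⟨mul_mem (mul_mem (one_mem _) x.1.2.1) x.1.2.1, fun b hb => ?_⟩
        show x.1.1 (x.1.1 b) = b
        have hxA := x.2
        obtain ⟨z, hz, hzA⟩ : ∃ z ∈ B, z ∉ A := SetLike.exists_of_lt
          (lt_of_le_of_ne hAB (fun e => by rw [e] at hA; omega))
        have hBe : B = A ⊔ Submodule.span (ZMod 2) {z} := by
          refine (Submodule.eq_of_le_of_finrank_eq (sup_le hAB
            ((Submodule.span_singleton_le_iff_mem ..).2 hz)) ?_).symm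
          rw [finrank_sup_singleton hzA, hA, hB]
        have hzz : x.1.1 z ∈ B := (apply_mem_iff x.1.2.2.2).2 hz
        rw [hBe] at hb hzz
        obtain ⟨a, ha, c, hc, rfl⟩ := Submodule.mem_sup.1 hb
        obtain ⟨c, rfl⟩ := Submodule.mem_span_singleton.1 hc
        obtain ⟨a', ha', c', hc', e⟩ := Submodule.mem_sup.1 hzz
        obtain ⟨c', rfl⟩ := Submodule.mem_span_singleton.1 hc'
        rcases zmod2_cases c' with rfl | rfl
        · rw [zero_smul, add_zero] at e
          exact absurd ((apply_mem_iff x.1.2.2.1).1 (e ▸ ha')) hzA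
        · rw [one_smul] at e
          rw [map_add, map_smul, hxA a ha, map_add, map_smul, hxA a ha, ← e, map_add, hxA a' ha',
            ← e, ← add_assoc a' a' z, add_self, zero_add]
    obtain ⟨k, hk⟩ := IsPGroup.iff_card.1 h2
    refine ⟨k, hk ▸ ?_⟩
    rw [← Subgroup.index_eq_card]
    exact Subgroup.relIndex_dvd_of_le_left Q hPM
  obtain ⟨k, hk⟩ := hpow
  have h1 : M.relIndex Q = 1 :=
    Nat.eq_one_of_dvd_coprimes ((hodd.coprime_two_right).pow_right k) dvd_rfl hk
  exact Subgroup.relIndex_eq_one.1 h1 (show (⟨q, hqH,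
    map_eq_of_le fun a ha => (hqA a ha).symm ▸ ha, hqB⟩ : N) ∈ Q from hqA)

/-- Setwise stabilisers preserve every linkage class. -/
theorem linked_of_map_eq (hT : TupleTrans H i) (hF : FlagTrans H i)
    (hin : i < finrank (ZMod 2) V) {B : Submodule (ZMod 2) V} (hB : finrank (ZMod 2) B = i)
    {n : V ≃ₗ[ZMod 2] V} (hn : n ∈ H) (hnB : B.map n.toLinearMap = B) {u : V} (hu : u ∉ B) :
    Linked H B u (n u) := by
  let b := Module.finBasisOfFinrankEq (ZMod 2) B hB
  suffices ∀ k ≤ i, ∃ m ∈ H, B.map m.toLinearMap = B ∧ (∀ v, v ∉ B → Linked H B v (m v)) ∧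
      ∀ j : Fin i, (j : ℕ) < k → m (b j) = n (b j) by
    obtain ⟨m, hm, hmB, hml, hmn⟩ := this i le_rfl
    refine linked_trans (hml u hu) ⟨n * m⁻¹, ⟨mul_mem hn (inv_mem hm), fun x hx => ?_⟩, ?_⟩
    · have heq : n.toLinearMap.comp B.subtype = m.toLinearMap.comp B.subtype :=
        b.ext fun j => (hmn j j.2).symm
      have hx' : m.symm x ∈ B := (apply_mem_iff hmB).1 (by rwa [m.apply_symm_apply])
      exact (LinearMap.congr_fun heq ⟨_, hx'⟩).trans (m.apply_symm_apply x)
    · show n (m.symm (m u)) + n u ∈ B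
      rw [m.symm_apply_apply, add_self]; exact B.zero_mem
  intro k hk
  induction k with
  | zero =>
    exact ⟨1, one_mem _, Submodule.map_id _, fun v _ => linked_refl B v,
      fun _ h => absurd h (Nat.not_lt_zero _)⟩
  | succ k ih =>
    obtain ⟨m, hm, hmB, hml, hmn⟩ := ih (Nat.le_of_succ_le hk)
    let kf : Fin i := ⟨k, hk⟩
    set S := Submodule.span (ZMod 2) ((fun j : Fin i => n (b j)) '' {j | (j : ℕ) < k})
    have hli : LinearIndependent (ZMod 2) fun j : Fin i => n (b j) :=
      (b.linearIndependent.map' _ (Submodule.ker_subtype B)).map' n.toLinearMap n.ker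
    have hli' : LinearIndependent (ZMod 2) fun j : Fin i => m (b j) :=
      (b.linearIndependent.map' _ (Submodule.ker_subtype B)).map' m.toLinearMap m.ker
    have hw : n (b kf) ∉ S := hli.notMem_span_image (by simp [kf])
    have hz : m (b kf) ∉ S := by
      have : S = Submodule.span (ZMod 2) ((fun j : Fin i => m (b j)) '' {j | (j : ℕ) < k}) :=
        congrArg (Submodule.span (ZMod 2)) (Set.image_congr fun j hj => (hmn j hj).symm)
      rw [this]; exact hli'.notMem_span_image (by simp [kf])
    set z := m (b kf)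
    set w := n (b kf)
    have hzB : z ∈ B := (apply_mem_iff hmB).2 (b kf).2
    have hwB : w ∈ B := (apply_mem_iff hnB).2 (b kf).2
    have hz' : z ∉ S ⊔ Submodule.span (ZMod 2) {z + w} := by
      intro hc
      obtain ⟨s, hs, t, ht, e⟩ := Submodule.mem_sup.1 hc
      obtain ⟨c, rfl⟩ := Submodule.mem_span_singleton.1 ht
      rcases zmod2_cases c with rfl | rfl
      · rw [zero_smul, add_zero] at e; exact hz (e ▸ hs)
      · rw [one_smul] at e
        have : w = s := by
          have := congrArg (fun x => x + z + s) e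
          simp only [add_self, zero_add] at this
          rw [← this]
          abel_nf
          simp [two_smul, add_self]
        exact hw (this ▸ hs)
    obtain ⟨f, hf, hfS⟩ := Submodule.exists_le_ker_of_notMem hz'
    have hfz : f z = 1 := (zmod2_cases _).resolve_left hf
    have hfa : f (z + w) = 0 := hfS (Submodule.mem_sup_right (Submodule.mem_span_singleton_self _))
    set g := LinearEquiv.transvection (f := f) (v := z + w) hfa
    have hga : ∀ x, g x = x + f x • (z + w) := LinearEquiv.transvection.apply hfa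
    obtain ⟨q, hq, hqg⟩ := hT.agree hin.le g B hB.le
    have hqB : B.map q.toLinearMap = B := map_eq_of_le fun x hx => by
      rw [hqg x hx, hga]; exact B.add_mem hx (B.smul_mem _ (B.add_mem hzB hwB))
    have hqA : ∀ a ∈ B ⊓ LinearMap.ker f, q a = a := fun a ha => by
      rw [hqg a ha.1, hga, show f a = 0 from ha.2, zero_smul, add_zero]
    refine ⟨q * m, mul_mem hq hm,
      map_eq_of_le fun x hx => (apply_mem_iff hqB).2 ((apply_mem_iff hmB).2 hx),
      fun v hv => linked_trans (hml v hv) ?_, fun j hj => ?_⟩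
    · exact linked_of_fix_hyperplane hF hin ((finrank_inf_ker hzB hfz).trans hB) hB inf_le_left hq
        hqA hqB fun h => hv ((apply_mem_iff hmB).1 h)
    · rw [LinearEquiv.mul_apply]
      rcases Nat.lt_succ_iff_lt_or_eq.1 hj with hj | hj
      · rw [hmn j hj, hqg _ ((apply_mem_iff hnB).2 (b j).2), hga,
          show f (n (b j)) = 0 from hfS (Submodule.mem_sup_left (Submodule.subset_span ⟨j, hj, rfl⟩)),
          zero_smul, add_zero]
      · obtain rfl : j = kf := Fin.ext hj
        rw [hqg _ hzB, hga, hfz, one_smul, ← add_assoc, add_self, zero_add]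

/-- One class outside an `i`-space. -/
theorem linked_all (hT : TupleTrans H i) (hF : FlagTrans H i) (hi1 : 1 ≤ i)
    (hin : i < finrank (ZMod 2) V) {B : Submodule (ZMod 2) V} (hB : finrank (ZMod 2) B = i)
    {u w : V} (hu : u ∉ B) (hw : w ∉ B) : Linked H B u w := by
  obtain ⟨z, hz, hz0⟩ := B.exists_mem_ne_zero_of_ne_bot
    (fun h => by rw [h, finrank_bot] at hB; omega)
  obtain ⟨f, hf, -⟩ := Submodule.exists_le_ker_of_notMem (K := ZMod 2) (p := (⊥ : Submodule (ZMod 2) V))
    (v := z) (by simpa using hz0)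
  have hA : finrank (ZMod 2) ↥(B ⊓ LinearMap.ker f) + 1 = i :=
    (finrank_inf_ker hz ((zmod2_cases _).resolve_left hf)).trans hB
  obtain ⟨n, hn, -, hnB, hnu⟩ := hF _ B hA hB inf_le_left u w hu hw
  exact linked_trans (linked_of_map_eq hT hF hin hB hn hnB hu) ⟨1, one_mem _, hnu⟩

/-- The pointwise stabiliser of `B` fixes every coset of `B` it leaves invariant pointwise. -/
def NoShift (H : Subgroup (V ≃ₗ[ZMod 2] V)) (B : Submodule (ZMod 2) V) : Prop :=
  ∀ h ∈ pointFix H B, ∀ u, h u + u ∈ B → h u = u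

/-- Either a shift-free subspace, or transitivity outside. -/
theorem shift_dichotomy (hT : TupleTrans H i) (hF : FlagTrans H i) (hi1 : 1 ≤ i)
    (hin : i < finrank (ZMod 2) V) {B : Submodule (ZMod 2) V} (hB : finrank (ZMod 2) B = i) :
    NoShift H B ∨ ∀ u w, u ∉ B → w ∉ B → ∃ h ∈ pointFix H B, h u = w := by
  by_cases hK : NoShift H B
  · exact Or.inl hK
  refine Or.inr fun u w hu hw => ?_
  simp only [NoShift, not_forall] at hK
  obtain ⟨h, hh, v, hv, hne⟩ := hK
  have hvB : v ∉ B := fun hvB => hne (hh.2 v hvB)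
  have move : ∀ {x x' k : V}, Linked H B x x' → k ∈ B → (∃ g ∈ pointFix H B, g x = x + k) →
      ∃ g ∈ pointFix H B, g x' = x' + k := by
    rintro x x' k ⟨r, hr, e⟩ hk ⟨g, hg, hgx⟩
    refine ⟨r * g * r⁻¹, mul_mem (mul_mem hr hg) (inv_mem hr), ?_⟩
    have hx' : r.symm x' = x + (r x + x') := by
      rw [LinearEquiv.symm_apply_eq, map_add, hr.2 _ e, ← add_assoc, add_self, zero_add]
    show r (g (r.symm x')) = x' + k
    rw [hx', map_add g, hgx, hg.2 _ e, map_add, map_add, hr.2 k hk, hr.2 _ e]
    calc r x + k + (r x + x') = r x + r x + (x' + k) := by abel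
      _ = x' + k := by rw [add_self, zero_add]
  have hk0 : h v + v ≠ 0 := fun e => hne ((eq_neg_of_add_eq_zero_left e).trans (neg_eq v))
  have all : ∀ k ∈ B, ∀ x, x ∉ B → ∃ g ∈ pointFix H B, g x = x + k := by
    intro k hk x hx
    by_cases hk00 : k = 0
    · exact ⟨1, one_mem _, by rw [hk00, add_zero]; rfl⟩
    obtain ⟨g₀, -, hg₀⟩ := exists_fix_map ⊥ (by simpa using hk0) (by simpa using hk00 :
      k ∉ (⊥ : Submodule (ZMod 2) V))
    obtain ⟨y, hy, e⟩ : ∃ n ∈ H, B.map n.toLinearMap = B ∧ n (h v + v) = k := by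
      set z := h v + v
      have hz' : z ∉ Submodule.span (ZMod 2) {z + k} := by
        intro hc
        obtain ⟨c, hc⟩ := Submodule.mem_span_singleton.1 hc
        rcases zmod2_cases c with rfl | rfl
        · exact hk0 (by rw [← hc, zero_smul])
        · rw [one_smul, add_eq_left] at hc
          exact hk00 hc
      obtain ⟨f, hf, hfS⟩ := Submodule.exists_le_ker_of_notMem hz'
      have hfa : f (z + k) = 0 := hfS (Submodule.mem_span_singleton_self _)
      set g := LinearEquiv.transvection (f := f) (v := z + k) hfa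
      have hga : ∀ x, g x = x + f x • (z + k) := LinearEquiv.transvection.apply hfa
      obtain ⟨n, hn, hng⟩ := hT.agree hin.le g B hB.le
      refine ⟨n, hn, map_eq_of_le fun x hx => ?_, ?_⟩
      · rw [hng x hx, hga]; exact B.add_mem hx (B.smul_mem _ (B.add_mem hv hk))
      · rw [hng z hv, hga, (zmod2_cases (f z)).resolve_left hf, one_smul, ← add_assoc,
          add_self, zero_add]
    refine move (linked_all hT hF hi1 hin hB (fun hm => hvB ((apply_mem_iff e.1).1 hm)) hx) hk
      ⟨y * h * y⁻¹, by simpa [e.1] using conj_mem_pointFix hy hh, ?_⟩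
    show y (h (y.symm (y v))) = y v + k
    rw [y.symm_apply_apply, ← e.2, ← map_add, ← add_assoc, add_comm v (h v), add_assoc, add_self,
      add_zero]
  obtain ⟨r, hr, e⟩ := linked_all hT hF hi1 hin hB hu hw
  obtain ⟨g, hg, hgw⟩ := all _ e w hw
  refine ⟨g⁻¹ * r, mul_mem (inv_mem hg) hr, ?_⟩
  show g.symm (r u) = w
  rw [LinearEquiv.symm_apply_eq, hgw, ← add_assoc, add_comm w (r u), add_assoc, add_self, add_zero]

theorem noShift_map {B : Submodule (ZMod 2) V} (hB : NoShift H B) {g : V ≃ₗ[ZMod 2] V}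
    (hg : g ∈ H) : NoShift H (B.map g.toLinearMap) := by
  intro h hh u hu
  have hc : g⁻¹ * h * g ∈ pointFix H B :=
    ⟨mul_mem (mul_mem (inv_mem hg) hh.1) hg, fun b hb => by
      show g.symm (h (g b)) = b
      have e := hh.2 (g b) ⟨b, hb, rfl⟩
      exact (congrArg g.symm e).trans (g.symm_apply_apply b)⟩
  obtain ⟨b, hb, e⟩ := hu
  have := hB _ hc (g.symm u) (by
    show g.symm (h (g (g.symm u))) + g.symm u ∈ B
    rw [g.apply_symm_apply, ← map_add, ← e]
    simpa using hb)
  change g.symm (h (g (g.symm u))) = g.symm u at this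
  rw [g.apply_symm_apply] at this
  exact g.symm.injective this

/-- Two involutory transvection lifts contradict shift-freeness once `i ≥ 4`. -/
theorem noShift_false_of_four (hT : TupleTrans H i) (hF : FlagTrans H i) (h4 : 4 ≤ i)
    (hin : i < finrank (ZMod 2) V)
    (hK : ∀ B : Submodule (ZMod 2) V, finrank (ZMod 2) B = i → NoShift H B) : False := by
  obtain ⟨x, hx, -⟩ := exists_tuple_ge i hin.le ⊥ (by simp)
  set B := Submodule.span (ZMod 2) (Set.range x)
  have hB : finrank (ZMod 2) B = i := by rw [finrank_span_eq_card hx, Fintype.card_fin]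
  obtain ⟨u, -, hu⟩ := SetLike.exists_of_lt (show B < ⊤ from lt_top_iff_ne_top.2 fun h => by
    rw [h, finrank_top] at hB; omega)
  let b := Basis.span hx
  have hcoord : ∀ l : Fin i, ∃ f : Module.Dual (ZMod 2) V, ∀ j, f (x j) = if j = l then 1 else 0 := by
    intro l
    obtain ⟨f, hf⟩ := LinearMap.exists_extend (b.coord l)
    refine ⟨f, fun j => ?_⟩
    have := LinearMap.congr_fun hf (b j)
    simp only [LinearMap.comp_apply, Submodule.subtype_apply, Basis.coord_apply, Basis.repr_self,
      Finsupp.single_apply] at this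
    rwa [show ((b j : B) : V) = x j from congrArg Subtype.val (Basis.span_apply hx j)] at this
  choose φ hφ using hcoord
  have hxB : ∀ j, x j ∈ B := fun j => Submodule.subset_span ⟨j, rfl⟩
  have tv : ∀ p q : Fin i, p ≠ q → ∃ h ∈ H, B.map h.toLinearMap = B ∧
      (∀ v ∈ B, h v = v + φ p v • x q) ∧ h u + u ∈ B := by
    intro p q hpq
    have h0 : φ p (x q) = 0 := by rw [hφ, if_neg (Ne.symm hpq)]
    obtain ⟨m, hm, hmg⟩ := hT.agree hin.le (LinearEquiv.transvection h0) B hB.le
    have hmB : B.map m.toLinearMap = B := map_eq_of_le fun v hv => by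
      rw [hmg v hv, LinearEquiv.transvection.apply]
      exact B.add_mem hv (B.smul_mem _ (hxB q))
    obtain ⟨r, hr, e⟩ := linked_all hT hF (by omega) hin hB
      (fun h => hu ((apply_mem_iff hmB).1 h)) hu
    refine ⟨r * m, mul_mem hr.1 hm,
      map_eq_of_le fun v hv => (apply_mem_iff (pointFix_map hr)).2 ((apply_mem_iff hmB).2 hv),
      fun v hv => ?_, e⟩
    rw [LinearEquiv.mul_apply, hr.2 _ ((apply_mem_iff hmB).2 hv), hmg v hv,
      LinearEquiv.transvection.apply]
  let i0 : Fin i := ⟨0, by omega⟩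
  let i1 : Fin i := ⟨1, by omega⟩
  have h01 : i0 ≠ i1 := fun h => absurd (congrArg Fin.val h) (by simp [i0, i1])
  obtain ⟨t, ht, htB, htv, htu⟩ := tv i1 i0 h01.symm
  set κ := t u + u
  have htκ : t u = u + κ := by
    rw [show κ = t u + u from rfl, ← add_assoc, add_comm u (t u), add_assoc, add_self, add_zero]
  have h11 : φ i1 κ = 0 := by
    have htt : ∀ v ∈ B, t (t v) = v := fun v hv => by
      rw [htv v hv, map_add, map_smul, htv v hv, htv _ (hxB i0), hφ, if_neg h01, zero_smul,
        add_zero, add_assoc, add_self, add_zero]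
    have := hK B hB (t * t) ⟨mul_mem ht ht, htt⟩ u (by
      show t (t u) + u ∈ B
      rw [htκ, map_add, htκ]
      rw [show u + κ + t κ + u = (u + u) + (κ + t κ) by abel, add_self, zero_add]
      exact B.add_mem htu ((apply_mem_iff htB).2 htu))
    change t (t u) = u at this
    rw [htκ, map_add, htκ, htv κ htu,
      show u + κ + (κ + φ i1 κ • x i0) = u + ((κ + κ) + φ i1 κ • x i0) by abel, add_self,
      zero_add, add_eq_left] at this
    rcases zmod2_cases (φ i1 κ) with h | h
    · exact h
    · rw [h, one_smul] at this; exact absurd this (hx.ne_zero i0)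
  have hj : ∀ j, j ≠ i0 → φ j κ = 0 := by
    intro j hj0
    by_cases hj1 : j = i1
    · exact hj1 ▸ h11
    obtain ⟨l, hl0, hl1, hlj⟩ : ∃ l : Fin i, l ≠ i0 ∧ l ≠ i1 ∧ l ≠ j := by
      by_cases h : (j : ℕ) = 2
      · exact ⟨⟨3, by omega⟩, fun e => absurd (congrArg Fin.val e) (by simp [i0]),
          fun e => absurd (congrArg Fin.val e) (by simp [i1]),
          fun e => absurd (congrArg Fin.val e) (by simp [h])⟩
      · exact ⟨⟨2, by omega⟩, fun e => absurd (congrArg Fin.val e) (by simp [i0]),
          fun e => absurd (congrArg Fin.val e) (by simp [i1]),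
          fun e => h (congrArg Fin.val e).symm⟩
    obtain ⟨s, hs, hsB, hsv, hsu⟩ := tv j l (Ne.symm hlj)
    set μ := s u + u
    have hsμ : s u = u + μ := by
      rw [show μ = s u + u from rfl, ← add_assoc, add_comm u (s u), add_assoc, add_self, add_zero]
    have hcomm : ∀ v ∈ B, s (t v) = t (s v) := fun v hv => by
      rw [htv v hv, hsv v hv, map_add, map_smul, map_add, map_smul, hsv v hv, htv v hv,
        hsv _ (hxB i0), htv _ (hxB l), hφ, hφ, if_neg (Ne.symm hj0), if_neg hl1, zero_smul,
        zero_smul, add_zero, add_zero]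
      abel
    have e1 : s (t u) = u + μ + κ + φ j κ • x l := by
      rw [htκ, map_add, hsμ, hsv κ htu]; abel
    have e2 : t (s u) = u + κ + μ + φ i1 μ • x i0 := by
      rw [hsμ, map_add, htκ, htv μ hsu]; abel
    have hmem : (t * s)⁻¹ * (s * t) ∈ pointFix H B :=
      ⟨mul_mem (inv_mem (mul_mem ht hs)) (mul_mem hs ht), fun v hv => by
        show (t * s).symm ((s * t) v) = v
        rw [LinearEquiv.symm_apply_eq]; exact hcomm v hv⟩
    have := hK B hB _ hmem u (by
      have hts : B.map (t * s).toLinearMap = B :=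
        map_eq_of_le fun v hv => (apply_mem_iff htB).2 ((apply_mem_iff hsB).2 hv)
      show (t * s).symm (s (t u)) + u ∈ B
      rw [← apply_mem_iff hts, map_add, LinearEquiv.apply_symm_apply, LinearEquiv.mul_apply,
        e1, e2,
        show u + μ + κ + φ j κ • x l + (u + κ + μ + φ i1 μ • x i0) =
          (u + u) + (μ + μ) + (κ + κ) + (φ j κ • x l + φ i1 μ • x i0) by abel,
        add_self u, add_self μ, add_self κ, zero_add, zero_add, zero_add]
      exact B.add_mem (B.smul_mem _ (hxB l)) (B.smul_mem _ (hxB i0)))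
    have h := (LinearEquiv.symm_apply_eq _).1 (this : (t * s).symm (s (t u)) = u)
    replace h : s (t u) = t (s u) := h
    rw [e1, e2, add_right_comm u κ μ] at h
    have := congrArg (φ l) (add_left_cancel h)
    rw [map_smul, map_smul, hφ, hφ, if_pos rfl, if_neg (Ne.symm hl0), smul_eq_mul, smul_eq_mul,
      mul_one, mul_zero] at this
    exact this
  have hκ : κ = φ i0 κ • x i0 := by
    have hkey : ∀ v ∈ B, v = ∑ l, φ l v • x l := by
      intro v hv
      refine Submodule.span_induction ?_ ?_ ?_ ?_ hv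
      · rintro _ ⟨j, rfl⟩
        simp [hφ]
      · simp
      · intro a b _ _ ha hb
        simp only [map_add, add_smul, Finset.sum_add_distrib, ← ha, ← hb]
      · intro c a _ ha
        simp only [map_smul, smul_assoc, ← Finset.smul_sum, ← ha]
    conv_lhs => rw [hkey κ htu]
    exact Finset.sum_eq_single i0 (fun l _ hl => by rw [hj l hl, zero_smul]) (by simp)
  set c := φ i0 κ
  set u' := u + c • x i1
  have hu' : u' ∉ B := fun h => hu (by simpa [u'] using B.sub_mem h (B.smul_mem c (hxB i1)))
  set C := B ⊓ LinearMap.ker (φ i1)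
  have hC : finrank (ZMod 2) C + 1 = i :=
    (finrank_inf_ker (hxB i1) (by rw [hφ, if_pos rfl])).trans hB
  set B' := C ⊔ Submodule.span (ZMod 2) {u'}
  have hB' : finrank (ZMod 2) B' = i := by
    rw [finrank_sup_singleton (fun h : u' ∈ C => hu' h.1)]; exact hC
  have hfix : ∀ v ∈ B', t v = v := by
    have h0 : B' ≤ LinearMap.ker (t.toLinearMap - LinearMap.id) := by
      refine sup_le (fun v hv => ?_) ((Submodule.span_singleton_le_iff_mem ..).2 ?_)
      · simp [htv v hv.1, show φ i1 v = 0 from hv.2]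
      · show t u' - u' = 0
        rw [sub_eq_zero, show u' = u + c • x i1 from rfl, map_add, map_smul, htκ,
          htv _ (hxB i1), hφ, if_pos rfl, one_smul, hκ, smul_add,
          show u + c • x i0 + (c • x i1 + c • x i0) = u + c • x i1 + (c • x i0 + c • x i0) by abel,
          add_self, add_zero]
    exact fun v hv => sub_eq_zero.1 (h0 hv)
  have hx0 : x i0 ∈ C := ⟨hxB i0, by
    show φ i1 (x i0) = 0
    rw [hφ, if_neg h01]⟩
  have := hK B' hB' t ⟨ht, hfix⟩ (x i1) (by
    rw [htv _ (hxB i1), hφ, if_pos rfl, one_smul, add_comm (x i1) (x i0), add_assoc, add_self,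
      add_zero]
    exact Submodule.mem_sup_left hx0)
  rw [htv _ (hxB i1), hφ, if_pos rfl, one_smul, add_eq_left] at this
  exact hx.ne_zero i0 this

/-- Shift-freeness makes the stabiliser of an `(i-1)`-space too small when `n ≥ 2i-1`. -/
theorem noShift_false_of_small (hT : TupleTrans H i) (hi2 : 2 ≤ i)
    (hsm : 2 * i ≤ finrank (ZMod 2) V + 1)
    (hK : ∀ B : Submodule (ZMod 2) V, finrank (ZMod 2) B = i → NoShift H B) : False := by
  classical
  haveI : Fact (Nat.Prime 2) := ⟨Nat.prime_two⟩
  obtain ⟨x, hx, -⟩ := exists_tuple_ge (i - 1) (by omega : i - 1 ≤ finrank (ZMod 2) V) ⊥ (by simp)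
  set A := Submodule.span (ZMod 2) (Set.range x)
  have hA : finrank (ZMod 2) A + 1 = i := by
    rw [finrank_span_eq_card hx, Fintype.card_fin]; omega
  set K := pointFix H A
  obtain ⟨a₀, ha₀, ha₀0⟩ := A.exists_mem_ne_zero_of_ne_bot
    (fun h => by rw [h, finrank_bot] at hA; omega)
  obtain ⟨φ, hφ, -⟩ := Submodule.exists_le_ker_of_notMem (K := ZMod 2) (p := (⊥ : Submodule (ZMod 2) V))
    (v := a₀) (by simpa using ha₀0)
  have key : ∀ q ∈ K, (∀ w, q (q w) + w ∈ A) → ∀ w, q w + w ∈ A := by
    intro q hq h2 u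
    by_contra hu
    set w := q u + u
    have hw : q w + w ∈ A := by
      rw [show q w = q (q u) + q u from map_add q _ _,
        show q (q u) + q u + (q u + u) = (q (q u) + u) + (q u + q u) by abel, add_self, add_zero]
      exact h2 u
    set B := A ⊔ Submodule.span (ZMod 2) {w}
    have hB : finrank (ZMod 2) B = i := by rw [finrank_sup_singleton hu, hA]
    have hwB : w ∈ B := Submodule.mem_sup_right (Submodule.mem_span_singleton_self w)
    have hqq : q (q w) = w := by
      have h := hq.2 _ hw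
      rw [map_add, add_comm (q w) w, add_right_cancel_iff] at h
      exact h
    have hq2 : q * q ∈ pointFix H B := by
      refine ⟨mul_mem hq.1 hq.1, fun b hb => ?_⟩
      obtain ⟨a, ha, c, hc, rfl⟩ := Submodule.mem_sup.1 hb
      obtain ⟨c, rfl⟩ := Submodule.mem_span_singleton.1 hc
      show q (q (a + c • w)) = a + c • w
      rw [map_add, map_smul, map_add, map_smul, hq.2 a ha, hq.2 a ha, hqq]
    have huu : q (q u) = u := hK B hB _ hq2 u (Submodule.mem_sup_left (h2 u))
    have hqw : q w = w := by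
      rw [show q w = q (q u) + q u from map_add q _ _, huu, add_comm]
    have hqB : q ∈ pointFix H B := by
      refine ⟨hq.1, fun b hb => ?_⟩
      obtain ⟨a, ha, c, hc, rfl⟩ := Submodule.mem_sup.1 hb
      obtain ⟨c, rfl⟩ := Submodule.mem_span_singleton.1 hc
      rw [map_add, map_smul, hq.2 a ha, hqw]
    have := hK B hB q hqB u hwB
    exact hu (by rw [show w = q u + u from rfl, this, add_self]; exact A.zero_mem)
  let P : Sylow 2 K := default
  have hP : ∀ p : (P : Subgroup K), ∀ w, p.1.1 w + w ∈ A := by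
    intro p
    obtain ⟨k, hk⟩ := P.2 p
    have hk' : ((p.1.1) ^ 2 ^ k : V ≃ₗ[ZMod 2] V) = 1 := by
      simpa using congrArg (fun z : (P : Subgroup K) => z.1.1) hk
    suffices ∀ k, ∀ q ∈ K, q ^ 2 ^ k = 1 → ∀ w, q w + w ∈ A from this k p.1.1 p.1.2 hk'
    intro k
    induction k with
    | zero =>
      intro q _ h w
      rw [pow_zero, pow_one] at h
      rw [h]; show w + w ∈ A; rw [add_self]; exact A.zero_mem
    | succ k ih =>
      intro q hq h
      refine key q hq fun w => ?_
      have := ih (q * q) (mul_mem hq hq) (by rw [← pow_two, ← pow_mul, ← pow_succ']; exact h) w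
      exact this
  obtain ⟨b, -, hb⟩ := SetLike.exists_of_lt (show A < ⊤ from lt_top_iff_ne_top.2 fun h => by
    rw [h, finrank_top] at hA; omega)
  have hinj : Function.Injective (fun p : (P : Subgroup K) => (⟨p.1.1 b + b, hP p b⟩ : A)) := by
    intro p q hpq
    have hpq' : p.1.1 b = q.1.1 b := add_right_cancel (congrArg Subtype.val hpq)
    set r := (q⁻¹ * p : (P : Subgroup K))
    set B := A ⊔ Submodule.span (ZMod 2) {b}
    have hrb : r.1.1 b = b := by
      show q.1.1.symm (p.1.1 b) = b
      rw [hpq', LinearEquiv.symm_apply_apply]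
    have hrB : r.1.1 ∈ pointFix H B := by
      refine ⟨r.1.2.1, fun v hv => ?_⟩
      obtain ⟨a, ha, c, hc, rfl⟩ := Submodule.mem_sup.1 hv
      obtain ⟨c, rfl⟩ := Submodule.mem_span_singleton.1 hc
      rw [map_add, map_smul, r.1.2.2 a ha, hrb]
    have hr1 : r.1.1 = 1 := LinearEquiv.ext fun v =>
      hK B (by rw [finrank_sup_singleton hb, hA]) _ hrB v (Submodule.mem_sup_left (hP r v))
    have : r = 1 := Subtype.ext (Subtype.ext hr1)
    exact (inv_mul_eq_one.1 this).symm
  have hdvd : 2 ^ (finrank (ZMod 2) V - finrank (ZMod 2) A) ∣ Nat.card K := by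
    let S : Subgroup K :=
      { carrier := {k | ∀ w, φ (k.1 w) = φ w}
        one_mem' := fun _ => rfl
        mul_mem' := fun {p q} hp hq w => (hp _).trans (hq w)
        inv_mem' := fun {p} hp w => by
          conv_rhs => rw [← p.1.apply_symm_apply w]
          exact (hp _).symm }
    rw [← card_agree A φ]
    refine (dvd_of_eq ?_).trans S.index_dvd_card
    rw [index_eq_card_range S (fun k => φ.comp k.1.symm.toLinearMap) fun p q => ?_]
    · congr 2
      ext ψ
      constructor
      · intro hψ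
        obtain ⟨h, hh, hfix, hhv⟩ := hT.dual_trans (by omega) A hA.le φ ψ hψ ⟨a₀, ha₀, hφ⟩
        refine ⟨⟨h, hh, hfix⟩, LinearMap.ext fun w => ?_⟩
        show φ (h.symm w) = ψ w
        rw [← hhv, h.apply_symm_apply]
      · rintro ⟨k, rfl⟩ a ha
        show φ a = φ (k.1.symm a)
        rw [(k.1.symm_apply_eq.2 (k.2.2 a ha).symm)]
    · constructor
      · intro h w
        have := LinearMap.congr_fun h (q.1 w)
        simpa using this
      · intro h
        refine LinearMap.ext fun w => ?_
        have := h (q.1.symm w)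
        simpa using this
  have h1 : Nat.card (P : Subgroup K) ≤ Nat.card A := Nat.card_le_card_of_injective _ hinj
  have h2 := P.pow_dvd_card_of_pow_dvd_card hdvd
  have h3 := (Nat.le_of_dvd Nat.card_pos h2).trans h1
  rw [Module.natCard_eq_pow_finrank (K := ZMod 2) (V := A), Nat.card_zmod] at h3
  have := (Nat.pow_le_pow_iff_right (by norm_num)).1 h3
  omega

/-- The inductive step. -/
theorem tupleTrans_succ (hi2 : 2 ≤ i) (hn5 : 5 ≤ finrank (ZMod 2) V)
    (hin : i < finrank (ZMod 2) V) (hT : TupleTrans H i) (hF : FlagTrans H i) :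
    TupleTrans H (i + 1) := by
  have hoff : ∀ B : Submodule (ZMod 2) V, finrank (ZMod 2) B = i →
      ∀ u w, u ∉ B → w ∉ B → ∃ h ∈ pointFix H B, h u = w := by
    intro B hB
    refine (shift_dichotomy hT hF (by omega) hin hB).resolve_left fun hK => ?_
    have hall : ∀ B' : Submodule (ZMod 2) V, finrank (ZMod 2) B' = i → NoShift H B' := by
      intro B' hB'
      let b := Module.finBasisOfFinrankEq (ZMod 2) B hB
      let b' := Module.finBasisOfFinrankEq (ZMod 2) B' hB'
      obtain ⟨g, hg, e⟩ := hT (B.subtype ∘ b) (B'.subtype ∘ b')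
        (b.linearIndependent.map' _ (Submodule.ker_subtype B))
        (b'.linearIndependent.map' _ (Submodule.ker_subtype B'))
      have hle : B.map g.toLinearMap ≤ B' := by
        rw [← Submodule.range_subtype B, LinearMap.range_eq_map, ← b.span_eq,
          Submodule.map_span, Submodule.map_span, Submodule.span_le]
        rintro _ ⟨_, ⟨_, ⟨k, rfl⟩, rfl⟩, rfl⟩
        have := e k
        simp only [Function.comp_apply, Submodule.subtype_apply] at this
        show g (b k : V) ∈ B'
        rw [this]; exact (b' k).2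
      rw [← Submodule.eq_of_le_of_finrank_eq hle (by rw [LinearEquiv.finrank_map_eq, hB, hB'])]
      exact noShift_map hK hg
    rcases Nat.lt_or_ge i 4 with h | h
    · exact noShift_false_of_small hT hi2 (by omega) hall
    · exact noShift_false_of_four hT hF h hin hall
  intro x y hx hy
  rw [linearIndependent_finSucc'] at hx hy
  obtain ⟨g, hg, e⟩ := hT _ _ hx.1 hy.1
  set B := Submodule.span (ZMod 2) (Set.range (Fin.init y))
  have hB : finrank (ZMod 2) B = i := by rw [finrank_span_eq_card hy.1, Fintype.card_fin]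
  have hgx : g (x (Fin.last i)) ∉ B := by
    intro hm
    have hmap : B = (Submodule.span (ZMod 2) (Set.range (Fin.init x))).map g.toLinearMap := by
      rw [Submodule.map_span, ← Set.range_comp]
      exact congrArg (Submodule.span (ZMod 2)) (congrArg Set.range (funext fun k => (e k).symm))
    rw [hmap] at hm
    obtain ⟨z, hz, hze⟩ := hm
    exact hx.2 (g.injective hze ▸ hz)
  obtain ⟨h, hh, hh'⟩ := hoff B hB _ _ hgx hy.2
  refine ⟨h * g, mul_mem hh.1 hg, fun k => ?_⟩
  induction k using Fin.lastCases with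
  | last => exact hh'
  | cast k =>
    show h (g (x k.castSucc)) = y k.castSucc
    rw [show g (x k.castSucc) = y k.castSucc from e k]
    exact hh.2 _ (Submodule.subset_span ⟨k, rfl⟩)

/-- The flag hypothesis from transitivity of the point stabilisers in the quotients. -/
theorem flagTrans_of_quot
    (h : ∀ A : Submodule (ZMod 2) V, finrank (ZMod 2) A + 1 = i → ∀ v u w : V ⧸ A,
      v ≠ 0 → u ≠ 0 → u ≠ v → w ≠ 0 → w ≠ v → ∃ g ∈ quotStab H A, g v = v ∧ g u = w) :
    FlagTrans H i := by
  intro A B hA hB hAB u w hu hw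
  obtain ⟨v, hv, hvA⟩ : ∃ v ∈ B, v ∉ A := SetLike.exists_of_lt
    (lt_of_le_of_ne hAB (fun e => by rw [e] at hA; omega))
  have hne : ∀ x, x ∉ B → A.mkQ x ≠ 0 ∧ A.mkQ x ≠ A.mkQ v := fun x hx =>
    ⟨fun e => hx (hAB ((Submodule.Quotient.mk_eq_zero A).1 e)),
     fun e => hx (by simpa using B.add_mem (hAB ((Submodule.Quotient.eq A).1 e)) hv)⟩
  obtain ⟨g, ⟨k, hk, hkA, hkx⟩, hgv, hgu⟩ := h A hA (A.mkQ v) (A.mkQ u) (A.mkQ w)
    (fun e => hvA ((Submodule.Quotient.mk_eq_zero A).1 e)) (hne u hu).1 (hne u hu).2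
    (hne w hw).1 (hne w hw).2
  rw [hkx] at hgv hgu
  refine ⟨k, hk, hkA, ?_, ?_⟩
  · have hBe : B = A ⊔ Submodule.span (ZMod 2) {v} := by
      refine (Submodule.eq_of_le_of_finrank_eq (sup_le hAB
        ((Submodule.span_singleton_le_iff_mem ..).2 hv)) ?_).symm
      rw [finrank_sup_singleton hvA, hA, hB]
    refine map_eq_of_le fun b hb => ?_
    rw [hBe] at hb
    obtain ⟨a, ha, c, hc, rfl⟩ := Submodule.mem_sup.1 hb
    obtain ⟨c, rfl⟩ := Submodule.mem_span_singleton.1 hc
    rw [map_add, map_smul]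
    refine B.add_mem (hAB ((apply_mem_iff hkA).2 ha)) (B.smul_mem _ ?_)
    simpa using B.add_mem (hAB ((Submodule.Quotient.eq A).1 hgv)) hv
  · rw [← sub_eq_add']
    exact hAB ((Submodule.Quotient.eq A).1 hgu)

end Cfsg.Agent.TransLinTwo
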