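import Cfsg.Agent.Lib.Perm.TransLinTwo.Level
import Cfsg.Agent.Lib.Perm.TransLinTwo.Step
import Cfsg.Agent.Lib.Perm.TransLinTwo.Degree

/-!
# The global step

If the special space above a flag does not depend on the hyperplane, "special" is a property of
`(i+1)`-spaces.  The indicator of the generic bases then is invariant under a Singer element and
has degree at most `(i+1)e`, which forces `finrank V ≤ (i+1)e`; for `e ≤ 2` this is impossible.
-/

set_option autoImplicit false
set_option linter.unusedSectionVars false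
set_option linter.style.haveILetI false

namespace Cfsg.Agent.TransLinTwo

open Module MulAction

variable {V : Type*} [AddCommGroup V] [Module (ZMod 2) V] [Finite V]

/-- A transitive group contains a Singer element. -/
theorem exists_singer {H : Subgroup (V ≃ₗ[ZMod 2] V)} {i : ℕ} (hT : TupleTrans H i) (hi1 : 1 ≤ i)
    (hile : i ≤ finrank (ZMod 2) V) (hn : 1 ≤ finrank (ZMod 2) V) (hp : (2 ^ finrank (ZMod 2) V - 1).Prime) :
    ∃ g ∈ H, orderOf g = 2 ^ finrank (ZMod 2) V - 1 := by
  classical
  haveI : Fintype V := Fintype.ofFinite V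
  haveI := Fact.mk hp
  haveI : Nontrivial V := finrank_pos_iff.mp (by omega : 0 < finrank (ZMod 2) V)
  obtain ⟨v, hv⟩ := exists_ne (0 : V)
  have hT1 : TupleTrans H 1 := hT.mono hile hi1
  have horb : orbit H v = {x : V | x ≠ 0} := by
    ext x
    constructor
    · rintro ⟨g, rfl⟩
      exact fun h => hv ((g : V ≃ₗ[ZMod 2] V).map_eq_zero_iff.1 h)
    · intro hx
      obtain ⟨g, hg, hgk⟩ := hT1 (fun _ => v) (fun _ => x)
        (linearIndependent_unique_iff.2 hv) (linearIndependent_unique_iff.2 hx)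
      exact ⟨⟨g, hg⟩, hgk 0⟩
  have hc : Nat.card (orbit H v) = 2 ^ finrank (ZMod 2) V - 1 := by
    rw [horb, show ({x : V | x ≠ 0} : Set V) = ({0} : Set V)ᶜ from rfl, Nat.card_coe_set_eq,
      Set.ncard_compl, Set.ncard_singleton, natCard_eq_pow_finrank (K := ZMod 2), Nat.card_zmod]
  have hd : 2 ^ finrank (ZMod 2) V - 1 ∣ Nat.card H := by
    rw [← hc, Nat.card_coe_set_eq, ← index_stabilizer H v]
    exact Subgroup.index_dvd_card _
  obtain ⟨⟨g, hg⟩, hgo⟩ := exists_prime_orderOf_dvd_card' _ hd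
  exact ⟨g, hg, by rw [← hgo, Subgroup.orderOf_mk]⟩

/-- Transitivity on independent tuples of functionals. -/
theorem dual_tuple_trans {H : Subgroup (V ≃ₗ[ZMod 2] V)} {i : ℕ} (hT : TupleTrans H i)
    (hi : i ≤ finrank (ZMod 2) V) {j : ℕ} (hj : j ≤ i) (φ ψ : Fin j → Dual (ZMod 2) V)
    (hφ : LinearIndependent (ZMod 2) φ) (hψ : LinearIndependent (ZMod 2) ψ) :
    ∃ h ∈ H, ∀ k v, ψ k (h v) = φ k v := by
  classical
  letI := dualAction V
  let G := (⊤ : Subgroup (V ≃ₗ[ZMod 2] V))
  have hfix : ∀ K : Subgroup (V ≃ₗ[ZMod 2] V),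
      Nat.card (orbitRel.Quotient K (Fin j → Dual (ZMod 2) V)) =
        Nat.card (orbitRel.Quotient K (Fin j → V)) := by
    intro K
    refine card_orbits_eq fun g => ?_
    have e1 : ∀ (Y : Type _) [MulAction K Y],
        Nat.card (fixedBy (Fin j → Y) g) = Nat.card (fixedBy Y g) ^ j := by
      intro Y _
      rw [show Nat.card (fixedBy Y g) ^ j = Nat.card (Fin j → fixedBy Y g) by
        rw [Nat.card_fun, Nat.card_fin]]
      exact Nat.card_congr
        { toFun := fun p k => ⟨p.1 k, congrFun p.2 k⟩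
          invFun := fun p => ⟨fun k => (p k).1, funext fun k => (p k).2⟩
          left_inv := fun _ => rfl
          right_inv := fun _ => rfl }
    rw [e1, e1]
    exact congrArg (· ^ j) (card_fixed_dual g.1)
  have hV : Nat.card (orbitRel.Quotient H (Fin j → V)) =
      Nat.card (orbitRel.Quotient G (Fin j → V)) := by
    refine Nat.card_congr (Quotient.congrRight fun p q => ?_)
    constructor
    · rintro ⟨k, hk⟩
      exact ⟨⟨k.1, trivial⟩, hk⟩
    · rintro ⟨k, hk⟩
      have hz : finrank (ZMod 2) (Submodule.span (ZMod 2) (Set.range q)) ≤ i :=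
        ((finrank_range_le_card q).trans (Fintype.card_fin _).le).trans hj
      obtain ⟨h, hh, hv⟩ := hT.agree hi k.1 _ hz
      exact ⟨⟨h, hh⟩, Eq.trans (funext fun l => hv _ (Submodule.subset_span ⟨l, rfl⟩)) hk⟩
  let toTop : orbitRel.Quotient H (Fin j → Dual (ZMod 2) V) →
      orbitRel.Quotient G (Fin j → Dual (ZMod 2) V) :=
    Quotient.map id fun p q hpq => by
      obtain ⟨k, hk⟩ := hpq
      exact ⟨⟨k.1, trivial⟩, hk⟩
  have hsurj : Function.Surjective toTop := fun q => Quotient.inductionOn q fun p => ⟨⟦p⟧, rfl⟩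
  have hinj : Function.Injective toTop :=
    ((Nat.bijective_iff_surjective_and_card toTop).2
      ⟨hsurj, by rw [hfix H, hfix G, hV]⟩).1
  -- a linear map carrying one tuple to the other
  obtain ⟨u, hu⟩ := exists_map_tuple hψ hφ
  haveI : FiniteDimensional (ZMod 2) V := inferInstance
  let g : V ≃ₗ[ZMod 2] V :=
    (Module.evalEquiv (ZMod 2) V).trans (u.dualMap.trans (Module.evalEquiv (ZMod 2) V).symm)
  have hg : ∀ k v, ψ k (g v) = φ k v := by
    intro k v
    have e : Dual.eval (ZMod 2) V (g v) = u.dualMap (Dual.eval (ZMod 2) V v) :=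
      (Module.evalEquiv (ZMod 2) V).apply_symm_apply _
    have e' := LinearMap.congr_fun e (ψ k)
    rw [Dual.eval_apply, LinearEquiv.dualMap_apply, Dual.eval_apply, hu] at e'
    exact e'
  have heq : (⟦φ⟧ : orbitRel.Quotient H (Fin j → Dual (ZMod 2) V)) = ⟦ψ⟧ :=
    hinj (Quotient.sound ⟨⟨g⁻¹, trivial⟩, funext fun k => LinearMap.ext fun v => hg k v⟩)
  obtain ⟨k, hk⟩ := Quotient.exact heq
  refine ⟨(k : V ≃ₗ[ZMod 2] V)⁻¹, H.inv_mem k.2, fun l v => ?_⟩
  rw [← LinearMap.congr_fun (congrFun hk l) v]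
  rfl

section Level

variable {H : Subgroup (V ≃ₗ[ZMod 2] V)} {i : ℕ} (hT : TupleTrans H i) (hi2 : 2 ≤ i)
  (hi : i < finrank (ZMod 2) V)

include hT hi2 hi

/-- All flags are alike. -/
theorem exists_flag_map {A A' : Submodule (ZMod 2) V} {b b' : V}
    (hA : finrank (ZMod 2) A + 1 = i) (hA' : finrank (ZMod 2) A' + 1 = i) (hb : b ∉ A)
    (hb' : b' ∉ A') : ∃ g ∈ H, A.map g.toLinearMap = A' ∧ g b = b' := by
  obtain ⟨a, rfl⟩ : ∃ a, i = a + 1 := ⟨i - 1, by omega⟩
  let c := Module.finBasisOfFinrankEq (ZMod 2) A (show finrank (ZMod 2) A = a by omega)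
  let c' := Module.finBasisOfFinrankEq (ZMod 2) A' (show finrank (ZMod 2) A' = a by omega)
  have hli : ∀ {A : Submodule (ZMod 2) V} (c : Basis (Fin a) (ZMod 2) A) {b : V}, b ∉ A →
      LinearIndependent (ZMod 2) (Fin.snoc (fun k => (c k : V)) b) := by
    intro A c b hb
    refine linearIndependent_finSnoc.2 ⟨c.linearIndependent.map' _ A.ker_subtype, fun h => hb ?_⟩
    refine Submodule.span_le.2 ?_ h
    rintro _ ⟨k, rfl⟩
    exact (c k).2
  obtain ⟨g, hg, hk⟩ := hT _ _ (hli c hb) (hli c' hb')
  refine ⟨g, hg, ?_, by simpa using hk (Fin.last a)⟩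
  refine Submodule.eq_of_le_of_finrank_eq ?_ (by rw [LinearEquiv.finrank_map_eq]; omega)
  rintro _ ⟨x, hx, rfl⟩
  have hx' : x ∈ Submodule.span (ZMod 2) (Set.range fun k => (c k : V)) := by
    rw [show (fun k => (c k : V)) = A.subtype ∘ c from rfl, Set.range_comp, Submodule.span_image,
      c.span_eq, Submodule.map_top, Submodule.range_subtype]
    exact hx
  have hmap : g x ∈ (Submodule.span (ZMod 2) (Set.range fun k => (c k : V))).map g.toLinearMap :=
    Submodule.mem_map_of_mem hx'
  rw [Submodule.map_span] at hmap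
  refine Submodule.span_le.2 ?_ hmap
  rintro _ ⟨_, ⟨k, rfl⟩, rfl⟩
  have := hk k.castSucc
  simp only [Fin.snoc_castSucc] at this
  show g (c k : V) ∈ A'
  rw [this]
  exact (c' k).2

/-- The lifted subspaces all have the same dimension. -/
theorem finrank_liftS_eq {A A' : Submodule (ZMod 2) V} {b b' : V}
    (hA : finrank (ZMod 2) A + 1 = i) (hA' : finrank (ZMod 2) A' + 1 = i) (hb : b ∉ A)
    (hb' : b' ∉ A') : finrank (ZMod 2) (liftS H A b) = finrank (ZMod 2) (liftS H A' b') := by
  obtain ⟨g, hg, hgA, hgb⟩ := exists_flag_map hT hi2 hi hA hA' hb hb'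
  rw [← hgA, ← hgb, ← liftS_map hg, LinearEquiv.finrank_map_eq]

/-- All the `E` have one dimension. -/
theorem finrank_E_level_eq {A A' : Submodule (ZMod 2) V} {b b' : V}
    (hA : finrank (ZMod 2) A + 1 = i) (hA' : finrank (ZMod 2) A' + 1 = i) (hb : b ∉ A)
    (hb' : b' ∉ A') :
    finrank (ZMod 2) ((levelAF hT hi2 hi A hA).E (A.mkQ b)) =
      finrank (ZMod 2) ((levelAF hT hi2 hi A' hA').E (A'.mkQ b')) := by
  have h1 := finrank_liftS_add hT hi2 hi hA hb
  have h2 := finrank_liftS_add hT hi2 hi hA' hb'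
  have h3 := finrank_liftS_eq hT hi2 hi hA hA' hb hb'
  omega

/-- If every stabiliser is transitive off a line, flags and points off them form one orbit. -/
theorem flagTrans_of_line {A₀ : Submodule (ZMod 2) V} {b₀ : V}
    (hA₀ : finrank (ZMod 2) A₀ + 1 = i) (hb₀ : b₀ ∉ A₀)
    (h1 : finrank (ZMod 2) ((levelAF hT hi2 hi A₀ hA₀).S (A₀.mkQ b₀)) = 1) : FlagTrans H i := by
  refine flagTrans_of_quot fun A hA v u w hv hu huv hw hwv => ?_
  obtain ⟨b, rfl⟩ := A.mkQ_surjective v
  have hb : b ∉ A := fun h => hv ((Submodule.Quotient.mk_eq_zero A).2 h)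
  have h2 := (levelAF hT hi2 hi A hA).finrank_S_add_E (A.mkQ b)
  have h3 := (levelAF hT hi2 hi A₀ hA₀).finrank_S_add_E (A₀.mkQ b₀)
  have h4 := finrank_E_level_eq hT hi2 hi hA hA₀ hb hb₀
  have h5 := finrank_quot_level hT hi2 hi hA
  have h6 := finrank_quot_level hT hi2 hi hA₀
  set F := levelAF hT hi2 hi A hA
  have hS : F.S (A.mkQ b) = Submodule.span (ZMod 2) {A.mkQ b} := by
    refine (Submodule.eq_of_le_of_finrank_eq ((Submodule.span_singleton_le_iff_mem _ _).2
      (F.self_mem_S _)) ?_).symm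
    rw [finrank_span_singleton hv]
    omega
  have hout : ∀ x : V ⧸ A, x ≠ 0 → x ≠ A.mkQ b → x ∉ F.S (A.mkQ b) := by
    intro x hx hxb hxS
    rw [hS, Submodule.mem_span_singleton] at hxS
    obtain ⟨c, rfl⟩ := hxS
    rcases zmod2_cases c with rfl | rfl
    · exact hx (zero_smul _ _)
    · exact hxb (one_smul _ _)
  obtain ⟨g, hgv, hgu⟩ := F.off_S_trans (hout u hu huv) (hout w hw hwv)
  exact ⟨(g : (V ⧸ A) ≃ₗ[ZMod 2] (V ⧸ A)), g.2, hgv, hgu⟩

variable (hind : LiftIndep H i)
include hind

/-- Special is a property of the `(i+1)`-space. -/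
theorem special_swap {A : Submodule (ZMod 2) V} (hA : finrank (ZMod 2) A + 1 = i) {b c : V}
    (hb : b ∉ A) (hc : c ∉ A ⊔ Submodule.span (ZMod 2) {b}) :
    ∀ A' B' : Submodule (ZMod 2) V, finrank (ZMod 2) A' + 1 = i → finrank (ZMod 2) B' = i →
      A' ≤ B' → B' ≤ A ⊔ Submodule.span (ZMod 2) {b} ⊔ Submodule.span (ZMod 2) {c} →
      ∀ b' ∈ B', b' ∉ A' → c ∈ liftS H A b →
        A ⊔ Submodule.span (ZMod 2) {b} ⊔ Submodule.span (ZMod 2) {c} ≤ liftS H A' b' := by
  intro A' B' hA' hB' hAB' hB'C b' hb'B hb' hspec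
  set B := A ⊔ Submodule.span (ZMod 2) {b} with hBdef
  set C := B ⊔ Submodule.span (ZMod 2) {c} with hCdef
  have hb0 : b ≠ 0 := fun h => hb (h ▸ A.zero_mem)
  have hc0 : c ≠ 0 := fun h => hc (h ▸ Submodule.zero_mem _)
  have hdj : ∀ (U : Submodule (ZMod 2) V) (z : V), z ∉ U →
      finrank (ZMod 2) ↥(U ⊔ Submodule.span (ZMod 2) {z}) = finrank (ZMod 2) U + 1 := by
    intro U z hz
    have hz0 : z ≠ 0 := fun h => hz (h ▸ U.zero_mem)
    have h1 := Submodule.finrank_sup_add_finrank_inf_eq U (Submodule.span (ZMod 2) {z})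
    rw [finrank_span_singleton hz0, ((Submodule.disjoint_span_singleton' hz0).2 hz).eq_bot,
      finrank_bot] at h1
    omega
  have hBdim : finrank (ZMod 2) B = i := by rw [hBdef, hdj A b hb]; exact hA
  have hCdim : finrank (ZMod 2) C = i + 1 := by rw [hCdef, hdj B c hc, hBdim]
  have hCle : C ≤ liftS H A b :=
    sup_le (sup_le (le_liftS hT hi2 hi hA hb)
      ((Submodule.span_singleton_le_iff_mem _ _).2 (self_mem_liftS hT hi2 hi hA hb)))
      ((Submodule.span_singleton_le_iff_mem _ _).2 hspec)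
  have hbB : b ∈ B := Submodule.mem_sup_right (Submodule.mem_span_singleton_self b)
  by_cases hBB : B' = B
  · subst hBB
    rw [← hind A A' B hA hA' hBdim le_sup_left hAB' b b' hbB hb hb'B hb']
    exact hCle
  -- the common hyperplane
  have hA₁ : finrank (ZMod 2) ↥(B ⊓ B') + 1 = i := by
    have h1 := Submodule.finrank_sup_add_finrank_inf_eq B B'
    have h2 := Submodule.finrank_mono (sup_le le_sup_left hB'C : B ⊔ B' ≤ C)
    have h3 : B < B ⊔ B' := lt_of_le_of_ne le_sup_left fun h => hBB
      (Submodule.eq_of_le_of_finrank_eq (h ▸ le_sup_right) (hB'.trans hBdim.symm))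
    have h4 := Submodule.finrank_lt_finrank_of_lt h3
    omega
  obtain ⟨b₁, hb₁B, hb₁⟩ : ∃ x ∈ B, x ∉ B ⊓ B' := by
    by_contra hno
    push Not at hno
    have := Submodule.finrank_mono (show B ≤ B ⊓ B' from hno)
    omega
  obtain ⟨b₂, hb₂B, hb₂⟩ : ∃ x ∈ B', x ∉ B ⊓ B' := by
    by_contra hno
    push Not at hno
    have := Submodule.finrank_mono (show B' ≤ B ⊓ B' from hno)
    omega
  have e1 := hind A (B ⊓ B') B hA hA₁ hBdim le_sup_left inf_le_left b b₁ hbB hb hb₁B hb₁
  have e2 := hind (B ⊓ B') A' B' hA₁ hA' hB' inf_le_right hAB' b₂ b' hb₂B hb₂ hb'B hb'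
  rw [← e2]
  have h1 : b₂ ∈ liftS H (B ⊓ B') b₁ := e1 ▸ hCle (hB'C hb₂B)
  have h2 := mem_liftS_symm hT hi2 hi hA₁ hb₁ hb₂ h1
  -- C is spanned by the hyperplane and the two points
  have hC' : C = (B ⊓ B') ⊔ Submodule.span (ZMod 2) {b₁} ⊔ Submodule.span (ZMod 2) {b₂} := by
    have hle : (B ⊓ B') ⊔ Submodule.span (ZMod 2) {b₁} ⊔ Submodule.span (ZMod 2) {b₂} ≤ C :=
      sup_le (sup_le (inf_le_left.trans le_sup_left)
        ((Submodule.span_singleton_le_iff_mem _ _).2 (Submodule.mem_sup_left hb₁B)))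
        ((Submodule.span_singleton_le_iff_mem _ _).2 (hB'C hb₂B))
    refine (Submodule.eq_of_le_of_finrank_eq hle ?_).symm
    rw [hdj, hdj _ _ hb₁, hCdim]
    · omega
    · intro h
      refine hb₂ ⟨?_, hb₂B⟩
      exact (sup_le inf_le_left ((Submodule.span_singleton_le_iff_mem _ _).2 hb₁B) :
        (B ⊓ B') ⊔ Submodule.span (ZMod 2) {b₁} ≤ B) h
  rw [hC']
  exact sup_le (sup_le (le_liftS hT hi2 hi hA₁ hb₂) ((Submodule.span_singleton_le_iff_mem _ _).2 h2))
    ((Submodule.span_singleton_le_iff_mem _ _).2 (self_mem_liftS hT hi2 hi hA₁ hb₂))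

omit hind in
theorem finrank_lt_of_generic {A : Submodule (ZMod 2) V} (hA : finrank (ZMod 2) A + 1 = i) {b : V}
    (hb : b ∉ A) : ∃ c : V, c ∉ liftS H A b := by
  by_contra hno
  push Not at hno
  exact liftS_ne_top hT hi2 hi hA hb (eq_top_iff.2 fun z _ => hno z)

/-- With two kinds of `(i+1)`-spaces the dimension is at least `2i+3`. -/
theorem two_kinds_bound {A : Submodule (ZMod 2) V} (hA : finrank (ZMod 2) A + 1 = i) {b : V}
    (hb : b ∉ A) (hf : i + 1 ≤ finrank (ZMod 2) (liftS H A b))
    (hodd : Odd (finrank (ZMod 2) V)) : 2 * i + 3 ≤ finrank (ZMod 2) V := by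
  by_contra hlt
  have hn2 : finrank (ZMod 2) V ≤ 2 * i + 1 := by
    obtain ⟨m, hm⟩ := hodd
    omega
  set B := A ⊔ Submodule.span (ZMod 2) {b} with hBdef
  have hb0 : b ≠ 0 := fun h => hb (h ▸ A.zero_mem)
  have hdj : ∀ (U : Submodule (ZMod 2) V) (z : V), z ∉ U →
      finrank (ZMod 2) ↥(U ⊔ Submodule.span (ZMod 2) {z}) = finrank (ZMod 2) U + 1 := by
    intro U z hz
    have hz0 : z ≠ 0 := fun h => hz (h ▸ U.zero_mem)
    have h1 := Submodule.finrank_sup_add_finrank_inf_eq U (Submodule.span (ZMod 2) {z})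
    rw [finrank_span_singleton hz0, ((Submodule.disjoint_span_singleton' hz0).2 hz).eq_bot,
      finrank_bot] at h1
    omega
  have hBdim : finrank (ZMod 2) B = i := by rw [hBdef, hdj A b hb]; exact hA
  have hBle : B ≤ liftS H A b := sup_le (le_liftS hT hi2 hi hA hb)
    ((Submodule.span_singleton_le_iff_mem _ _).2 (self_mem_liftS hT hi2 hi hA hb))
  obtain ⟨c, hc, hcB⟩ : ∃ c ∈ liftS H A b, c ∉ B := by
    by_contra hno
    push Not at hno
    have := Submodule.finrank_mono (show liftS H A b ≤ B from hno)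
    omega
  obtain ⟨d, hd⟩ := finrank_lt_of_generic hT hi2 hi hA hb
  have hdB : d ∉ B := fun h => hd (hBle h)
  set C₁ := B ⊔ Submodule.span (ZMod 2) {c}
  set C₂ := B ⊔ Submodule.span (ZMod 2) {d}
  obtain ⟨j, hj⟩ : ∃ j, finrank (ZMod 2) V = i + 1 + j := ⟨finrank (ZMod 2) V - (i + 1), by omega⟩
  have hann : ∀ C : Submodule (ZMod 2) V, finrank (ZMod 2) C = i + 1 →
      finrank (ZMod 2) C.dualAnnihilator = j := fun C hC => by
    have := Subspace.finrank_add_finrank_dualAnnihilator_eq C
    omega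
  let β₁ := finBasisOfFinrankEq (ZMod 2) _ (hann C₁ (by rw [hdj B c hcB, hBdim]))
  let β₂ := finBasisOfFinrankEq (ZMod 2) _ (hann C₂ (by rw [hdj B d hdB, hBdim]))
  obtain ⟨g, hg, hgk⟩ := dual_tuple_trans hT hi.le (show j ≤ i by omega)
    (Submodule.subtype _ ∘ β₂) (Submodule.subtype _ ∘ β₁)
    (β₂.linearIndependent.map' _ (Submodule.ker_subtype _))
    (β₁.linearIndependent.map' _ (Submodule.ker_subtype _))
  -- g carries C₂ into C₁
  have hmap : C₂.map g.toLinearMap ≤ C₁ := by
    rintro _ ⟨x, hx, rfl⟩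
    rw [← Subspace.dualAnnihilator_dualCoannihilator_eq (W := C₁), Submodule.mem_dualCoannihilator]
    intro φ hφ
    have hφ' : φ ∈ Submodule.span (ZMod 2) (Set.range (Submodule.subtype _ ∘ β₁)) := by
      rw [Set.range_comp, Submodule.span_image, β₁.span_eq, Submodule.map_top,
        Submodule.range_subtype]
      exact hφ
    clear hφ
    induction hφ' using Submodule.span_induction with
    | mem ψ hψ =>
      obtain ⟨k, rfl⟩ := hψ
      show (β₁ k : Dual (ZMod 2) V) (g x) = 0
      rw [show (β₁ k : Dual (ZMod 2) V) (g x) = (β₂ k : Dual (ZMod 2) V) x from hgk k x]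
      exact (Submodule.mem_dualAnnihilator _).1 (β₂ k).2 x hx
    | zero => simp
    | add p q _ _ hp hq => rw [LinearMap.add_apply, hp, hq, add_zero]
    | smul r p _ hp => rw [LinearMap.smul_apply, hp, smul_zero]
  -- transport
  have hAg : finrank (ZMod 2) (A.map g.toLinearMap) + 1 = i := by
    rw [LinearEquiv.finrank_map_eq]; exact hA
  have hbg : g b ∉ A.map g.toLinearMap := by
    rintro ⟨x, hx, hxb⟩
    exact hb (g.injective hxb ▸ hx)
  have hBg : finrank (ZMod 2) (B.map g.toLinearMap) = i := by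
    rw [LinearEquiv.finrank_map_eq]; exact hBdim
  have h3 := special_swap hT hi2 hi hind hA hb hcB (A.map g.toLinearMap) (B.map g.toLinearMap) hAg hBg
    (Submodule.map_mono le_sup_left) ((Submodule.map_mono le_sup_left).trans hmap) (g b)
    (Submodule.mem_map_of_mem (Submodule.mem_sup_right (Submodule.mem_span_singleton_self b))) hbg hc
  have h4 : g d ∈ (liftS H A b).map g.toLinearMap := by
    rw [liftS_map hg]
    exact h3 (hmap (Submodule.mem_map_of_mem
      (Submodule.mem_sup_right (Submodule.mem_span_singleton_self d))))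
  obtain ⟨x, hx, hxd⟩ := h4
  exact hd (g.injective hxd ▸ hx)

set_option maxHeartbeats 1000000 in
/-- The degree bound. -/
theorem dim_le_mul (hp : (2 ^ finrank (ZMod 2) V - 1).Prime) {A₀ : Submodule (ZMod 2) V} {b₀ : V}
    (hA₀ : finrank (ZMod 2) A₀ + 1 = i) (hb₀ : b₀ ∉ A₀) :
    finrank (ZMod 2) V ≤
      (i + 1) * finrank (ZMod 2) ((levelAF hT hi2 hi A₀ hA₀).E (A₀.mkQ b₀)) := by
  classical
  obtain ⟨a, rfl⟩ : ∃ a, i = a + 1 := ⟨i - 1, by omega⟩
  set e := finrank (ZMod 2) ((levelAF hT hi2 hi A₀ hA₀).E (A₀.mkQ b₀))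
  by_contra hlt
  push Not at hlt
  -- the base and the flag of a tuple
  let baseA : (Fin (a + 2) → V) → Submodule (ZMod 2) V := fun x =>
    Submodule.span (ZMod 2) (Set.range fun k : Fin a => x k.castSucc.castSucc)
  let Gen : (Fin (a + 2) → V) → Prop := fun x => LinearIndependent (ZMod 2) x ∧
    x (Fin.last (a + 1)) ∉ liftS H (baseA x) (x (Fin.last a).castSucc)
  let F : (Fin (a + 2) → V) → ZMod 2 := fun x => if Gen x then 1 else 0
  have hflag : ∀ x : Fin (a + 2) → V, LinearIndependent (ZMod 2) x →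
      finrank (ZMod 2) (baseA x) + 1 = a + 1 ∧ x (Fin.last a).castSucc ∉ baseA x ∧
      x (Fin.last (a + 1)) ∉ baseA x ⊔ Submodule.span (ZMod 2) {x (Fin.last a).castSucc} ∧
      baseA x ⊔ Submodule.span (ZMod 2) {x (Fin.last a).castSucc} ⊔
          Submodule.span (ZMod 2) {x (Fin.last (a + 1))} =
        Submodule.span (ZMod 2) (Set.range x) := by
    intro x hx
    have h1 : LinearIndependent (ZMod 2) (fun k : Fin a => x k.castSucc.castSucc) :=
      hx.comp _ ((Fin.castSucc_injective _).comp (Fin.castSucc_injective _))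
    have e1 : (fun k : Fin a => x k.castSucc.castSucc) = Fin.init (Fin.init x) := rfl
    have hin : Fin.snoc (Fin.init (Fin.init x)) (x (Fin.last a).castSucc) = Fin.init x :=
      Fin.snoc_init_self (Fin.init x)
    have hout : Fin.snoc (Fin.init x) (x (Fin.last (a + 1))) = x := Fin.snoc_init_self x
    have hi1 : LinearIndependent (ZMod 2) (Fin.init x) := hx.comp _ (Fin.castSucc_injective _)
    have hspan : Submodule.span (ZMod 2) (Set.range (Fin.init x)) =
        baseA x ⊔ Submodule.span (ZMod 2) {x (Fin.last a).castSucc} := by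
      conv_lhs => rw [← hin, Fin.range_snoc, Submodule.span_insert, sup_comm]
      rfl
    refine ⟨?_, ?_, ?_, ?_⟩
    · show finrank (ZMod 2) (Submodule.span (ZMod 2) _) + 1 = a + 1
      rw [finrank_span_eq_card h1, Fintype.card_fin]
    · rw [← hin] at hi1
      exact (linearIndependent_finSnoc.1 hi1).2
    · rw [← hspan]
      rw [← hout] at hx
      exact (linearIndependent_finSnoc.1 hx).2
    · conv_rhs => rw [← hout, Fin.range_snoc, Submodule.span_insert, sup_comm]
      rw [hspan]
  have hdegree : DegLe ((a + 2) * e) F := by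
    have hd := degLe_pi_const F e (fun j x => ?_)
    · rwa [Fintype.card_fin] at hd
    -- the other entries
    by_cases hind' : LinearIndependent (ZMod 2) (x ∘ j.succAbove)
    swap
    · have h0 : (fun v => F (Function.update x j v)) = fun _ => 0 := by
        funext v
        refine if_neg fun hg => hind' ?_
        have := hg.1.comp _ (Fin.succAbove_right_injective (p := j))
        convert this using 1
        funext k
        simp [Function.update_of_ne (Fin.succAbove_ne j k)]
      rw [h0]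
      exact degLe_const _ _
    -- a flag of the other entries
    set Bj := Submodule.span (ZMod 2) (Set.range (x ∘ j.succAbove)) with hBj
    let Aj := Submodule.span (ZMod 2) (Set.range fun k : Fin a => x (j.succAbove k.castSucc))
    let bj := x (j.succAbove (Fin.last a))
    have hBjd : finrank (ZMod 2) Bj = a + 1 := by
      rw [hBj, finrank_span_eq_card hind', Fintype.card_fin]
    have hAjd : finrank (ZMod 2) Aj + 1 = a + 1 := by
      show finrank (ZMod 2) (Submodule.span (ZMod 2)
        (Set.range ((x ∘ j.succAbove) ∘ Fin.castSucc))) + 1 = _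
      rw [finrank_span_eq_card (hind'.comp _ (Fin.castSucc_injective _)), Fintype.card_fin]
    have hbj : bj ∉ Aj := by
      have h' := hind'
      rw [← Fin.snoc_init_self (x ∘ j.succAbove)] at h'
      exact (linearIndependent_finSnoc.1 h').2
    have hAjle : Aj ≤ Bj := Submodule.span_mono (by
      rintro _ ⟨k, rfl⟩
      exact ⟨k.castSucc, rfl⟩)
    have hbjB : bj ∈ Bj := Submodule.subset_span ⟨Fin.last a, rfl⟩
    have hBsplit : Aj ⊔ Submodule.span (ZMod 2) {bj} = Bj := by
      conv_rhs => rw [hBj, ← Fin.snoc_init_self (x ∘ j.succAbove), Fin.range_snoc,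
        Submodule.span_insert, sup_comm]
      rfl
    have hBjle : Bj ≤ liftS H Aj bj := by
      rw [← hBsplit]
      exact sup_le (le_liftS hT hi2 hi hAjd hbj)
        ((Submodule.span_singleton_le_iff_mem _ _).2 (self_mem_liftS hT hi2 hi hAjd hbj))
    have hFeq : ∀ v, F (Function.update x j v) = if v ∉ liftS H Aj bj then 1 else 0 := by
      intro v
      refine if_congr ?_ rfl rfl
      set y := Function.update x j v
      have hyj : y ∘ j.succAbove = x ∘ j.succAbove :=
        funext fun k => Function.update_of_ne (Fin.succAbove_ne j k) _ _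
      have hyspan : Submodule.span (ZMod 2) (Set.range y) = Bj ⊔ Submodule.span (ZMod 2) {v} := by
        have hr : Set.range y = insert v (Set.range (x ∘ j.succAbove)) := by
          ext z
          constructor
          · rintro ⟨k, rfl⟩
            rcases eq_or_ne k j with rfl | hk
            · exact Or.inl (Function.update_self _ _ _)
            · obtain ⟨l, rfl⟩ := Fin.exists_succAbove_eq hk
              exact Or.inr ⟨l, (congrFun hyj l).symm⟩
          · rintro (rfl | ⟨l, rfl⟩)
            · exact ⟨j, Function.update_self _ _ _⟩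
            · exact ⟨j.succAbove l, congrFun hyj l⟩
        rw [hr, Submodule.span_insert, sup_comm]
      constructor
      · rintro ⟨hy, hgen⟩ hv
        obtain ⟨h1, h2, h3, h4⟩ := hflag y hy
        refine hgen ?_
        have hvB : v ∉ Bj := by
          intro hvB
          have h5 : finrank (ZMod 2) (Submodule.span (ZMod 2) (Set.range y)) = a + 2 := by
            rw [finrank_span_eq_card hy, Fintype.card_fin]
          rw [hyspan, sup_eq_left.2 ((Submodule.span_singleton_le_iff_mem _ _).2 hvB)] at h5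
          omega
        have hBdim : finrank (ZMod 2)
            ↥(baseA y ⊔ Submodule.span (ZMod 2) {y (Fin.last a).castSucc}) = a + 1 := by
          have hh := Submodule.finrank_sup_add_finrank_inf_eq (baseA y)
            (Submodule.span (ZMod 2) {y (Fin.last a).castSucc})
          have hy0 : y (Fin.last a).castSucc ≠ 0 := hy.ne_zero _
          rw [finrank_span_singleton hy0, ((Submodule.disjoint_span_singleton' hy0).2 h2).eq_bot,
            finrank_bot] at hh
          omega
        have h6 := special_swap hT hi2 hi hind hAjd hbj (c := v) (hBsplit ▸ hvB) (baseA y)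
          (baseA y ⊔ Submodule.span (ZMod 2) {y (Fin.last a).castSucc}) h1 hBdim le_sup_left
          (by rw [hBsplit, ← hyspan, ← h4]; exact le_sup_left)
          _ (Submodule.mem_sup_right (Submodule.mem_span_singleton_self _)) h2 hv
        refine h6 ?_
        rw [hBsplit, ← hyspan]
        exact Submodule.subset_span ⟨_, rfl⟩
      · intro hv
        have hvB : v ∉ Bj := fun h => hv (hBjle h)
        have hy : LinearIndependent (ZMod 2) y := by
          have hv0 : v ≠ 0 := fun h => hvB (h ▸ Submodule.zero_mem _)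
          rw [linearIndependent_iff_card_le_finrank_span, Fintype.card_fin, Set.finrank, hyspan]
          have hh := Submodule.finrank_sup_add_finrank_inf_eq Bj (Submodule.span (ZMod 2) {v})
          rw [finrank_span_singleton hv0, ((Submodule.disjoint_span_singleton' hv0).2 hvB).eq_bot,
            finrank_bot] at hh
          omega
        refine ⟨hy, fun hspec => hv ?_⟩
        obtain ⟨h1, h2, h3, h4⟩ := hflag y hy
        have h6 := special_swap hT hi2 hi hind h1 h2 h3 Aj Bj hAjd hBjd hAjle
          (by rw [h4, hyspan]; exact le_sup_left) bj hbjB hbj hspec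
        refine h6 ?_
        rw [h4, hyspan]
        exact Submodule.mem_sup_right (Submodule.mem_span_singleton_self v)
    have hinv := degLe_of_invariant (liftS H Aj bj) (fun v => F (Function.update x j v))
      (fun v s hs => by rw [hFeq, hFeq, Submodule.add_mem_iff_left _ hs])
    refine hinv.mono ?_
    have h7 := (liftS H Aj bj).finrank_quotient_add_finrank
    have h8 := finrank_liftS_add hT hi2 hi hAjd hbj
    have h9 := finrank_E_level_eq hT hi2 hi hAjd hA₀ hbj hb₀
    omega
  obtain ⟨g, hg, hgo⟩ := exists_singer hT (by omega) hi.le (by omega) hp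
  have hinvF : ∀ x, F (fun k => g (x k)) = F x := by
    intro x
    have hb : baseA (fun k => g (x k)) = (baseA x).map g.toLinearMap := by
      show Submodule.span (ZMod 2) _ = (Submodule.span (ZMod 2) _).map g.toLinearMap
      rw [Submodule.map_span, ← Set.range_comp]
      rfl
    refine if_congr ?_ rfl rfl
    show _ ∧ _ ↔ _ ∧ _
    rw [show (fun k => g (x k)) = g.toLinearMap ∘ x from rfl,
      LinearMap.linearIndependent_iff g.toLinearMap g.ker]
    refine and_congr_right fun _ => not_congr ?_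
    show g (x _) ∈ liftS H (baseA (fun k => g (x k))) (g (x _)) ↔ _
    rw [hb, ← liftS_map hg]
    exact ⟨fun ⟨z, hz, hzx⟩ => g.injective hzx ▸ hz, fun h => Submodule.mem_map_of_mem h⟩
  have hconst := const_of_singer_invariant g hp hgo F hdegree hlt hinvF
  -- a generic tuple
  obtain ⟨c, hc⟩ := finrank_lt_of_generic hT hi2 hi hA₀ hb₀
  let β := finBasisOfFinrankEq (ZMod 2) A₀ (show finrank (ZMod 2) A₀ = a by omega)
  let x : Fin (a + 2) → V := Fin.snoc (Fin.snoc (fun k => (β k : V)) b₀) c
  have hbase : baseA x = A₀ := by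
    show Submodule.span (ZMod 2) (Set.range fun k : Fin a => x k.castSucc.castSucc) = A₀
    simp only [x, Fin.snoc_castSucc]
    rw [show (fun k => (β k : V)) = A₀.subtype ∘ β from rfl, Set.range_comp, Submodule.span_image,
      β.span_eq, Submodule.map_top, Submodule.range_subtype]
  have hspanA : Submodule.span (ZMod 2) (Set.range fun k => (β k : V)) = A₀ := by
    rw [show (fun k => (β k : V)) = A₀.subtype ∘ β from rfl, Set.range_comp, Submodule.span_image,
      β.span_eq, Submodule.map_top, Submodule.range_subtype]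
  have hx1 : F x = 1 := by
    refine if_pos ⟨?_, ?_⟩
    · refine linearIndependent_finSnoc.2 ⟨linearIndependent_finSnoc.2
        ⟨β.linearIndependent.map' _ A₀.ker_subtype, by rw [hspanA]; exact hb₀⟩, ?_⟩
      rw [Fin.range_snoc, Submodule.span_insert, hspanA]
      intro h
      exact hc ((sup_le ((Submodule.span_singleton_le_iff_mem _ _).2
        (self_mem_liftS hT hi2 hi hA₀ hb₀)) (le_liftS hT hi2 hi hA₀ hb₀)) h)
    · rw [hbase]
      simpa [x] using hc
  have hx0 : F 0 = 0 := if_neg fun h => h.1.ne_zero 0 rfl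
  have := hconst x
  rw [hx1, hx0] at this
  exact one_ne_zero this

/-- Codimension at most two is impossible. -/
theorem small_codim_false (hp : (2 ^ finrank (ZMod 2) V - 1).Prime)
    (hodd : Odd (finrank (ZMod 2) V)) {A : Submodule (ZMod 2) V} {b : V}
    (hA : finrank (ZMod 2) A + 1 = i) (hb : b ∉ A)
    (hE : finrank (ZMod 2) ((levelAF hT hi2 hi A hA).E (A.mkQ b)) ≤ 2)
    (hS : 2 ≤ finrank (ZMod 2) ((levelAF hT hi2 hi A hA).S (A.mkQ b))) : False := by
  have h1 := dim_le_mul hT hi2 hi hind hp hA hb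
  have h2 := finrank_liftS_add hT hi2 hi hA hb
  have h3 := (levelAF hT hi2 hi A hA).finrank_S_add_E (A.mkQ b)
  have h4 := finrank_quot_level hT hi2 hi hA
  have h5 := two_kinds_bound hT hi2 hi hind hA hb (by omega) hodd
  have h6 := Nat.mul_le_mul_left (i + 1) hE
  omega

end Level

end Cfsg.Agent.TransLinTwo
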