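import Cfsg.Agent.Lib.Perm.TransLinTwo.AsymCount
import Cfsg.Agent.Lib.Perm.TransLinTwo.Block

/-!
# The smallest asymmetric case

For `i = 2` and dimension five the group would have order `31 * 120 * k` with `k` a divisor of six,
and Sylow's theorem forbids this.
-/

set_option autoImplicit false
set_option linter.unusedSectionVars false
set_option linter.style.haveILetI false

namespace Cfsg.Agent.TransLinTwo

open Module

variable {V : Type*} [AddCommGroup V] [Module (ZMod 2) V] [Finite V]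

theorem mem_span_point {a z : V} :
    z ∈ Submodule.span (ZMod 2) {a} ↔ z = 0 ∨ z = a := by
  rw [Submodule.mem_span_singleton]
  constructor
  · rintro ⟨k, rfl⟩
    rcases zmod2_cases k with rfl | rfl
    · exact Or.inl (zero_smul _ _)
    · exact Or.inr (one_smul _ _)
  · rintro (rfl | rfl)
    · exact ⟨0, zero_smul _ _⟩
    · exact ⟨1, one_smul _ _⟩

theorem map_span_point {h : V ≃ₗ[ZMod 2] V} {a : V} (ha : h a = a) :
    (Submodule.span (ZMod 2) {a}).map h.toLinearMap = Submodule.span (ZMod 2) {a} := by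
  rw [Submodule.map_span, Set.image_singleton, LinearEquiv.coe_coe, ha]

theorem add_mem_of_hyp {L : Submodule (ZMod 2) V}
    (hL : finrank (ZMod 2) L + 1 = finrank (ZMod 2) V) {w x : V} (hw : w ∉ L) (hx : x ∉ L) :
    x + w ∈ L := by
  have hxm : x ∈ L ⊔ Submodule.span (ZMod 2) {w} := by
    rw [Submodule.eq_top_of_finrank_eq (show finrank (ZMod 2) ↥(L ⊔ Submodule.span (ZMod 2) {w}) =
      finrank (ZMod 2) V by rw [finrank_sup_singleton hw, hL])]
    trivial
  obtain ⟨l, hl, v, hv, rfl⟩ := Submodule.mem_sup.1 hxm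
  rcases mem_span_point.1 hv with rfl | rfl
  · exact absurd (by rwa [add_zero]) hx
  · rwa [add_assoc, add_self, add_zero]

variable {H : Subgroup (V ≃ₗ[ZMod 2] V)} (S : Setup H 2) (hn : finrank (ZMod 2) V = 5)

include S hn

theorem Setup.finrank_sf_four {A B : Submodule (ZMod 2) V} (hB : finrank (ZMod 2) B = 2)
    (hA : A ∈ hyps B) : finrank (ZMod 2) (sf H A B) = 4 := by
  have h1 := S.finrank_rad hB
  rcases S.dichotomy hB hA with h2 | ⟨-, h3⟩
  · omega
  · omega

theorem Setup.finrank_liftS_four {a u : V} (ha : a ≠ 0)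
    (hu : u ∉ Submodule.span (ZMod 2) {a}) :
    finrank (ZMod 2) (liftS H (Submodule.span (ZMod 2) {a}) u) = 4 := by
  have hd := finrank_sup_singleton hu
  have hB : finrank (ZMod 2) ↥(Submodule.span (ZMod 2) {a} ⊔ Submodule.span (ZMod 2) {u}) = 2 := by
    rw [hd, finrank_span_singleton ha]
  have hA : Submodule.span (ZMod 2) {a} ∈
      hyps (Submodule.span (ZMod 2) {a} ⊔ Submodule.span (ZMod 2) {u}) := ⟨le_sup_left, hd.symm⟩
  rw [← sf_eq_liftS S.trans S.two_le S.lt hA hB
    (Submodule.mem_sup_right (Submodule.mem_span_singleton_self u)) hu]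
  exact S.finrank_sf_four hn hB hA

/-- An element fixing a generic frame moves every vector modulo the frame's space by a multiple of
its first point only. -/
theorem Setup.moved_mem {a u v : V} (ha : a ≠ 0) (hu : u ∉ Submodule.span (ZMod 2) {a})
    (hv : v ∉ liftS H (Submodule.span (ZMod 2) {a}) u) {h : V ≃ₗ[ZMod 2] V} (hh : h ∈ H)
    (ha' : h a = a) (hu' : h u = u) (hv' : h v = v)
    (hc : ∀ x, h x + x ∈ Submodule.span (ZMod 2) {a} ⊔ Submodule.span (ZMod 2) {u} ⊔
      Submodule.span (ZMod 2) {v}) (x : V) : h x + x ∈ Submodule.span (ZMod 2) {a} := by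
  set A := Submodule.span (ZMod 2) {a} with hAdef
  have hA1 : finrank (ZMod 2) A + 1 = 2 := by rw [hAdef, finrank_span_singleton ha]
  have hvA : v ∉ A := fun hm => hv (le_liftS S.trans S.two_le S.lt hA1 hu hm)
  have h1 : finrank (ZMod 2) (liftS H A u) + 1 = finrank (ZMod 2) V := by
    rw [S.finrank_liftS_four hn ha hu, hn]
  have h2 : finrank (ZMod 2) (liftS H A v) + 1 = finrank (ZMod 2) V := by
    rw [S.finrank_liftS_four hn ha hvA, hn]
  have hu2 : u ∉ liftS H A v :=
    fun hm => hv (mem_liftS_symm S.trans S.two_le S.lt hA1 hvA hu hm)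
  have huu : u ∈ liftS H A u := self_mem_liftS S.trans S.two_le S.lt hA1 hu
  have hinv : ∀ w, h w = w → ∀ z ∈ liftS H A w, h z ∈ liftS H A w := by
    intro w hw z hz
    have := Submodule.mem_map_of_mem (f := h.toLinearMap) hz
    rwa [liftS_map hh, map_span_point ha', hw] at this
  obtain ⟨y, hy, hye⟩ : ∃ y ∈ liftS H A u, h y + y = h x + x := by
    by_cases hx : x ∈ liftS H A u
    · exact ⟨x, hx, rfl⟩
    · refine ⟨x + v, add_mem_of_hyp h1 hv hx, ?_⟩
      rw [map_add, hv', add_add_add_comm, add_self, add_zero]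
  obtain ⟨z, hz1, hz2, hze⟩ :
      ∃ z, z ∈ liftS H A u ∧ z ∈ liftS H A v ∧ h z + z = h x + x := by
    by_cases hy2 : y ∈ liftS H A v
    · exact ⟨y, hy, hy2, hye⟩
    · refine ⟨y + u, Submodule.add_mem _ hy huu, add_mem_of_hyp h2 hu2 hy2, ?_⟩
      rw [map_add, hu', add_add_add_comm, add_self, add_zero, hye]
  rw [← hze]
  have d1 := Submodule.add_mem _ (hinv u hu' z hz1) hz1
  have d2 := Submodule.add_mem _ (hinv v hv' z hz2) hz2
  obtain ⟨p, hp, s, hs, hd⟩ := Submodule.mem_sup.1 (hc z)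
  obtain ⟨q, hq, r, hr, hp'⟩ := Submodule.mem_sup.1 hp
  rw [← hd, ← hp'] at d1 d2 ⊢
  have hq1 := le_liftS S.trans S.two_le S.lt hA1 hu hq
  have hq2 := le_liftS S.trans S.two_le S.lt hA1 hvA hq
  rcases mem_span_point.1 hr with rfl | rfl <;> rcases mem_span_point.1 hs with rfl | rfl
  · simpa using hq
  · exact absurd ((Submodule.add_mem_iff_right _ (by simpa using hq1)).1 d1) hv
  · exact absurd ((Submodule.add_mem_iff_right _ hq2).1 (by simpa using d2)) hu2
  · exact absurd ((Submodule.add_mem_iff_right _ (Submodule.add_mem _ hq1 huu)).1 d1) hv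

/-- The Sylow 31-subgroup would be normal, with a faithful complement of order at least 120. -/
theorem Setup.false_two_five : False := by
  classical
  haveI : Fintype V := Fintype.ofFinite V
  haveI : Fact (Nat.Prime 31) := ⟨by norm_num⟩
  obtain ⟨g, hg, hgo⟩ := exists_singer S.trans (by omega : 1 ≤ 2) (by omega) (by omega)
    (by rw [hn]; norm_num)
  rw [hn, show (2 : ℕ) ^ 5 - 1 = 31 by norm_num] at hgo
  obtain ⟨a, hga⟩ : ∃ a, g a ≠ a := by
    by_contra hall
    push Not at hall
    rw [show g = 1 from LinearEquiv.ext hall, orderOf_one] at hgo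
    omega
  have ha : a ≠ 0 := fun h0 => hga (by rw [h0, map_zero])
  let gH : H := ⟨g, hg⟩
  let P : Subgroup H := Subgroup.zpowers gH
  have hPcard : Nat.card P = 31 := by rw [Nat.card_zpowers, Subgroup.orderOf_mk, hgo]
  have hV : Nat.card V = 32 := by
    rw [Module.natCard_eq_pow_finrank (K := ZMod 2), hn, Nat.card_zmod]; norm_num
  -- the cyclic group is regular on the nonzero vectors
  have hreg : ∀ z : V, z ≠ 0 → ∃ p : P, (p : H).1 a = z := by
    have : Fact (Nat.card P).Prime := ⟨by rw [hPcard]; norm_num⟩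
    let Q : Subgroup P := (MulAction.stabilizer H a).subgroupOf P
    have hQ : Q = ⊥ := (Subgroup.eq_bot_or_eq_top_of_prime_card Q).resolve_right fun htop => hga (by
      have hm : (⟨gH, Subgroup.mem_zpowers gH⟩ : P) ∈ Q := htop ▸ Subgroup.mem_top _
      exact hm)
    let f : P → {z : V // z ≠ 0} := fun p =>
      ⟨(p : H).1 a, fun h0 => ha ((p : H).1.map_eq_zero_iff.1 h0)⟩
    have hinj : Function.Injective f := fun p q hpq => by
      have hm : q⁻¹ * p ∈ Q := by
        show ((q⁻¹ * p : P) : H) • a = a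
        rw [Subgroup.coe_mul, Subgroup.coe_inv, mul_smul, inv_smul_eq_iff]
        exact congrArg Subtype.val hpq
      rw [hQ, Subgroup.mem_bot, inv_mul_eq_one] at hm
      exact hm.symm
    have hbij := (Nat.bijective_iff_injective_and_card f).2 ⟨hinj, by
      rw [hPcard, Nat.card_eq_fintype_card, Fintype.card_subtype_compl, Fintype.card_subtype_eq,
        ← Nat.card_eq_fintype_card, hV]⟩
    intro z hz
    obtain ⟨p, hp⟩ := hbij.2 ⟨z, hz⟩
    exact ⟨p, congrArg Subtype.val hp⟩
  let K : Subgroup H := MulAction.stabilizer H a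
  have hmemK : ∀ k : H, k ∈ K ↔ k.1 a = a := fun k => Iff.rfl
  have hcardH : Nat.card H = 31 * Nat.card K := by
    rw [← K.index_mul_card]
    congr 1
    rw [MulAction.index_stabilizer, show MulAction.orbit H a = ({0}ᶜ : Set V) from ?_,
      Set.ncard_compl, Set.ncard_singleton, hV]
    ext z
    constructor
    · rintro ⟨k, rfl⟩ h0
      exact ha (k.1.map_eq_zero_iff.1 h0)
    · intro hz
      obtain ⟨p, hp⟩ := hreg z hz
      exact ⟨p.1, hp⟩
  -- a generic frame at `a`
  set A := Submodule.span (ZMod 2) {a} with hAdef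
  have hA1 : finrank (ZMod 2) A + 1 = 2 := by rw [hAdef, finrank_span_singleton ha]
  have haA : a ∈ A := Submodule.mem_span_singleton_self a
  obtain ⟨b₁, -, hb₁A⟩ := exists_mem_not_mem (A := A) (B := ⊤) (by rw [finrank_top]; omega)
  set B := A ⊔ Submodule.span (ZMod 2) {b₁} with hBdef
  have hdB := finrank_sup_singleton hb₁A
  have hB : finrank (ZMod 2) B = 2 := by rw [hBdef]; omega
  have hAB : A ∈ hyps B := ⟨le_sup_left, hdB.symm⟩
  obtain ⟨c₁, -, hc₁⟩ := exists_mem_not_mem (A := sf H A B) (B := ⊤)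
    (by rw [S.finrank_sf_four hn hB hAB, finrank_top]; omega)
  obtain ⟨hc₁B, hBC, hreg', hnr⟩ :=
    S.reg_sup hB (fun hm => hc₁ (S.rad_le_sf hB hAB hm))
  set C := B ⊔ Submodule.span (ZMod 2) {c₁} with hCdef
  obtain ⟨B₀, hB₀⟩ := S.exists_radical hreg'
  obtain ⟨hBB₀, hdeg⟩ := S.inter_deg hreg'.1 hBC hnr hB₀
  have hc₁C : c₁ ∈ C := Submodule.mem_sup_right (Submodule.mem_span_singleton_self c₁)
  have hAne : A ≠ B ⊓ B₀ := fun he => hc₁ (he ▸ hdeg hc₁C)
  have haB₀ : a ∉ B₀ := by
    intro hm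
    refine hAne (Submodule.eq_of_le_of_finrank_eq (le_inf le_sup_left
      ((Submodule.span_singleton_le_iff_mem ..).2 hm)) ?_)
    have := hBB₀.2
    omega
  have haB : a ∈ B := hAB.1 haA
  have haC : a ∈ C := hBC.1 haB
  have hadd : ∀ {x y : V}, x ∈ C → y ∈ C → x ∉ B₀ → y ∉ B₀ → x + y ∈ B₀ := by
    intro x y hx hy hxn hyn
    have hm : x ∈ B₀ ⊔ Submodule.span (ZMod 2) {y} := eq_sup_of_hyp hB₀.1 hy hyn ▸ hx
    obtain ⟨l, hl, w, hw, rfl⟩ := Submodule.mem_sup.1 hm
    rcases mem_span_point.1 hw with rfl | rfl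
    · exact absurd (by rwa [add_zero]) hxn
    · rwa [add_assoc, add_self, add_zero]
  have hb₁B : b₁ ∈ B := Submodule.mem_sup_right (Submodule.mem_span_singleton_self b₁)
  obtain ⟨b, hbB, hbA, hbB₀⟩ : ∃ b ∈ B, b ∉ A ∧ b ∉ B₀ := by
    by_cases hm : b₁ ∈ B₀
    · exact ⟨b₁ + a, B.add_mem hb₁B haB, fun h => hb₁A ((A.add_mem_iff_left haA).1 h),
        fun h => haB₀ ((B₀.add_mem_iff_right hm).1 h)⟩
    · exact ⟨b₁, hb₁B, hb₁A, hm⟩
  obtain ⟨c, hcC, hc, hcB₀⟩ : ∃ c ∈ C, c ∉ sf H A B ∧ c ∈ B₀ := by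
    by_cases hm : c₁ ∈ B₀
    · exact ⟨c₁, hc₁C, hc₁, hm⟩
    · exact ⟨c₁ + a, C.add_mem hc₁C haC,
        fun h => hc₁ ((Submodule.add_mem_iff_left _ (le_sf S.trans S.two_le S.lt hAB hB haB)).1 h),
        hadd hc₁C haC hm haB₀⟩
  have hBeq : B = A ⊔ Submodule.span (ZMod 2) {b} := eq_sup_of_hyp hAB hbB hbA
  have hcB : c ∉ B := fun h => hc (le_sf S.trans S.two_le S.lt hAB hB h)
  have hCeq : C = B ⊔ Submodule.span (ZMod 2) {c} := eq_sup_of_hyp hBC hcC hcB
  have hsf : sf H A B = liftS H A b := sf_eq_liftS S.trans S.two_le S.lt hAB hB hbB hbA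
  have hcS : c ∉ liftS H A b := hsf ▸ hc
  have hb0 : b ≠ 0 := fun h => hbA (h ▸ zero_mem _)
  set A' := Submodule.span (ZMod 2) {b} with hA'def
  have haA' : a ∉ A' := fun hm => (mem_span_point.1 hm).elim ha
    fun he => hbA (he ▸ haA)
  have hA'B : A' ∈ hyps B := ⟨(Submodule.span_singleton_le_iff_mem ..).2 hbB,
    by rw [hA'def, finrank_span_singleton hb0, hB]⟩
  have hcS' : c ∉ liftS H A' a := by
    intro hm
    rw [← sf_eq_liftS S.trans S.two_le S.lt hA'B hB haB haA'] at hm
    have hle : C ≤ sf H A' B := by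
      rw [hCeq]
      exact sup_le (le_sf S.trans S.two_le S.lt hA'B hB)
        ((Submodule.span_singleton_le_iff_mem ..).2 hm)
    have h1 := S.ncard_deg hreg'.1 hBC hnr hAB
    rw [S.finrank_sf_four hn hB hAB, show finrank (ZMod 2) (rad H B) = 3 by
      have := S.finrank_rad hB; omega] at h1
    have h2 := (Set.ncard_le_one (Set.toFinite _)).1 (show {A₁ ∈ hyps B | C ≤ sf H A₁ B}.ncard ≤ 1 by
      omega) A' ⟨hA'B, hle⟩ (B ⊓ B₀) ⟨hBB₀, hdeg⟩
    exact hbB₀ ((h2 ▸ Submodule.mem_span_singleton_self b : b ∈ B ⊓ B₀)).2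
  -- the stabiliser of the classes fixes the frame
  have hexact : ∀ k ∈ H, k a = a → k b + b ∈ A → k c + c ∈ A → k b = b ∧ k c = c := by
    intro k hk hka hkb hkc
    have hkA := map_span_point hka
    rw [← hAdef] at hkA
    have hkB : B.map k.toLinearMap = B := map_eq_of_le fun z hz => by
      rw [hBeq] at hz
      obtain ⟨p, hp, q, hq, rfl⟩ := Submodule.mem_sup.1 hz
      rw [map_add]
      refine B.add_mem (hAB.1 ((apply_mem_iff hkA).2 hp)) ?_
      rcases mem_span_point.1 hq with rfl | rfl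
      · rw [map_zero]; exact zero_mem _
      · exact (B.add_mem_iff_left hbB).1 (hAB.1 hkb)
    have hkC : C.map k.toLinearMap = C := map_eq_of_le fun z hz => by
      rw [hCeq] at hz
      obtain ⟨p, hp, q, hq, rfl⟩ := Submodule.mem_sup.1 hz
      rw [map_add]
      refine C.add_mem (hBC.1 ((apply_mem_iff hkB).2 hp)) ?_
      rcases mem_span_point.1 hq with rfl | rfl
      · rw [map_zero]; exact zero_mem _
      · exact (C.add_mem_iff_left hcC).1 (hBC.1 (hAB.1 hkc))
    have hkB₀ : B₀.map k.toLinearMap = B₀ := by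
      have h1 := S.radSet_map hk hreg'.1 hB₀
      rw [hkC] at h1
      exact S.radSet_eq hreg' h1 hB₀
    constructor
    · rcases mem_span_point.1 hkb with h0 | h0
      · rw [← sub_eq_zero, sub_eq_add']; exact h0
      · exfalso
        refine hbB₀ ((apply_mem_iff hkB₀).1 ?_)
        have := hadd haC (hBC.1 hbB) haB₀ hbB₀
        rwa [← h0, add_assoc, add_self, add_zero] at this
    · rcases mem_span_point.1 hkc with h0 | h0
      · rw [← sub_eq_zero, sub_eq_add']; exact h0
      · refine absurd ?_ haB₀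
        rw [← h0]
        exact B₀.add_mem ((apply_mem_iff hkB₀).2 hcB₀) hcB₀
  -- the orbit of the frame
  let L : Subgroup K := MulAction.stabilizer K (b, c)
  have hmemL : ∀ k : K, k ∈ L ↔ k.1.1 b = b ∧ k.1.1 c = c := fun k => Prod.ext_iff
  let F := levelAF S.trans S.two_le S.lt A hA1
  haveI : Fintype (V ⧸ A) := Fintype.ofFinite _
  let O : Set ((V ⧸ A) × (V ⧸ A)) := {p | p.1 ≠ 0 ∧ p.2 ∉ F.S p.1}
  have hb0q : A.mkQ b ≠ 0 := fun h => hbA ((Submodule.Quotient.mk_eq_zero A).1 h)
  have hcq : A.mkQ c ∉ F.S (A.mkQ b) := fun h => hcS (by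
    rw [liftS_eq S.trans S.two_le S.lt hA1 hbA]; exact h)
  let φ : K → (V ⧸ A) × (V ⧸ A) := fun k => (A.mkQ (k.1.1 b), A.mkQ (k.1.1 c))
  have hfix : ∀ (k : K), ∀ z ∈ A, k.1.1 z = z := fun k z hz => by
    rcases mem_span_point.1 hz with rfl | rfl
    · exact map_zero _
    · exact k.2
  have hφ : ∀ k l : K, φ k = φ l ↔ k⁻¹ * l ∈ L := by
    intro k l
    rw [hmemL]
    constructor
    · intro he
      obtain ⟨e1, e2⟩ := Prod.ext_iff.1 he
      have key : ∀ z, A.mkQ (k.1.1 z) = A.mkQ (l.1.1 z) → (k⁻¹ * l : K).1.1 z + z ∈ A := by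
        intro z hz
        rw [Submodule.mkQ_apply, Submodule.mkQ_apply, Submodule.Quotient.eq, sub_eq_add'] at hz
        have hm := hfix k⁻¹ _ hz
        have he' : (k⁻¹ * l : K).1.1 z + z = (k⁻¹).1.1 (k.1.1 z + l.1.1 z) := by
          rw [map_add, add_comm]
          congr 1
          exact (k.1.1.symm_apply_apply z).symm
        rw [he', hm]
        exact hz
      exact hexact _ (k⁻¹ * l : K).1.2 (k⁻¹ * l : K).2 (key b e1) (key c e2)
    · rintro ⟨e1, e2⟩
      have key : ∀ z, (k⁻¹ * l : K).1.1 z = z → l.1.1 z = k.1.1 z := fun z hz => by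
        conv_rhs => rw [← hz]
        exact (k.1.1.apply_symm_apply (l.1.1 z)).symm
      exact Prod.ext (congrArg A.mkQ (key b e1).symm) (congrArg A.mkQ (key c e2).symm)
  have hrange : Set.range φ = O := by
    ext ⟨q, r⟩
    constructor
    · rintro ⟨k, hk⟩
      rw [← hk]
      have hkA : A.map k.1.1.toLinearMap = A := map_span_point k.2
      have hkb : k.1.1 b ∉ A := fun hm => hbA ((apply_mem_iff hkA).1 hm)
      refine ⟨fun h0 => hkb ((Submodule.Quotient.mk_eq_zero A).1 h0), fun hm => hcS ?_⟩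
      have h2 : k.1.1 c ∈ liftS H A (k.1.1 b) := by
        rw [liftS_eq S.trans S.two_le S.lt hA1 hkb]; exact hm
      have h3 := liftS_map k.1.2 A b
      rw [hkA] at h3
      rw [← h3] at h2
      obtain ⟨w, hw, hwe⟩ := h2
      exact k.1.1.injective hwe ▸ hw
    · rintro ⟨hq, hr⟩
      change q ≠ 0 at hq
      change r ∉ F.S q at hr
      obtain ⟨⟨g₁, hg₁⟩, hg₁q⟩ := F.point_trans hb0q hq
      have hr' : F.px ⟨g₁, hg₁⟩ (A.mkQ c) ∉ F.S q := by
        rw [← hg₁q, F.S_map]; exact hcq
      obtain ⟨g₂, hg₂q, hg₂r⟩ := F.off_S_trans hr' hr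
      obtain ⟨h, hh, hhA, hx⟩ := (g₂ * ⟨g₁, hg₁⟩).2
      have hha : h a = a := (mem_span_point.1 ((apply_mem_iff hhA).2 haA)).resolve_left
        fun h0 => ha (h.map_eq_zero_iff.1 h0)
      refine ⟨⟨⟨h, hh⟩, hha⟩, ?_⟩
      show (A.mkQ (h b), A.mkQ (h c)) = (q, r)
      rw [← hx, ← hx]
      exact Prod.ext ((congrArg g₂.1 hg₁q).trans hg₂q) hg₂r
  have hLindex : L.index = 120 := by
    rw [index_eq_card_range L φ hφ, hrange]
    have hS : ∀ q : V ⧸ A, q ≠ 0 → Nat.card {r : V ⧸ A // r ∉ F.S q} = 8 := by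
      intro q hq
      obtain ⟨z, rfl⟩ := A.mkQ_surjective q
      have hz : z ∉ A := fun h => hq ((Submodule.Quotient.mk_eq_zero A).2 h)
      have h1 := finrank_liftS_add S.trans S.two_le S.lt hA1 hz
      rw [S.finrank_liftS_four hn ha hz, hn] at h1
      change 4 + finrank (ZMod 2) (F.E (A.mkQ z)) = 5 at h1
      have h2 := F.finrank_S_add_E (A.mkQ z)
      have h3 := finrank_quot_level S.trans S.two_le S.lt hA1
      rw [Nat.card_eq_fintype_card, Fintype.card_subtype_compl, Fintype.card_subtype,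
        AF.card_filter_mem, Module.card_eq_pow_finrank (K := ZMod 2) (V := V ⧸ A), ZMod.card,
        show finrank (ZMod 2) (F.S (A.mkQ z)) = 3 by omega,
        show finrank (ZMod 2) (V ⧸ A) = 4 by omega]
      norm_num
    have e : O ≃ Σ q : {q : V ⧸ A // q ≠ 0}, {r : V ⧸ A // r ∉ F.S q.1} :=
      { toFun := fun p => ⟨⟨p.1.1, p.2.1⟩, ⟨p.1.2, p.2.2⟩⟩
        invFun := fun p => ⟨(p.1.1, p.2.1), p.1.2, p.2.2⟩
        left_inv := fun _ => rfl
        right_inv := fun _ => rfl }
    rw [Nat.card_congr e, Nat.card_sigma, Finset.sum_congr rfl (fun q _ => hS q.1 q.2),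
      Finset.sum_const, Finset.card_univ, Fintype.card_subtype_compl, Fintype.card_subtype_eq,
      Module.card_eq_pow_finrank (K := ZMod 2) (V := V ⧸ A), ZMod.card,
      show finrank (ZMod 2) (V ⧸ A) = 4 by
        have := finrank_quot_level S.trans S.two_le S.lt hA1; omega]
    norm_num
  -- the kernel on the quotient by the frame is trivial
  have hLC : ∀ k ∈ L, C.map k.1.1.toLinearMap = C := by
    intro k hk
    obtain ⟨e1, e2⟩ := (hmemL k).1 hk
    have e3 : k.1.1 a = a := k.2
    rw [hCeq, hBeq, hAdef, Submodule.map_sup, Submodule.map_sup, map_span_point e3,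
      map_span_point e1, map_span_point e2]
  have hLdvd : Nat.card L ∣ 6 := by
    let ψ : L →* Equiv.Perm {q : V ⧸ C // q ≠ 0} :=
      { toFun := fun k => (Submodule.Quotient.equiv C C k.1.1.1 (hLC k.1 k.2)).toEquiv.subtypeEquiv
          fun q => not_congr (show q = 0 ↔ Submodule.Quotient.equiv C C k.1.1.1 (hLC k.1 k.2) q = 0 from
            (LinearEquiv.map_eq_zero_iff _).symm)
        map_one' := by
          ext ⟨q, hq⟩
          induction q using Submodule.Quotient.induction_on with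
          | H z => rfl
        map_mul' := fun k l => by
          ext ⟨q, hq⟩
          induction q using Submodule.Quotient.induction_on with
          | H z => rfl }
    have hψ : Function.Injective ψ := by
      refine (injective_iff_map_eq_one ψ).2 fun k hk => ?_
      obtain ⟨e1, e2⟩ := (hmemL k.1).1 k.2
      set h := k.1.1.1
      have e3 : h a = a := k.1.2
      have hh : h ∈ H := k.1.1.2
      have hmove : ∀ x, h x + x ∈ C := by
        intro x
        by_cases hx : x ∈ C
        · exact C.add_mem ((apply_mem_iff (hLC k.1 k.2)).2 hx) hx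
        · have := congrArg (fun e => ((e ⟨C.mkQ x, fun h0 => hx
            ((Submodule.Quotient.mk_eq_zero C).1 h0)⟩ : {q : V ⧸ C // q ≠ 0}) : V ⧸ C)) hk
          change C.mkQ (h x) = C.mkQ x at this
          rwa [Submodule.mkQ_apply, Submodule.mkQ_apply, Submodule.Quotient.eq, sub_eq_add'] at this
      have hCab : C = A ⊔ Submodule.span (ZMod 2) {b} ⊔ Submodule.span (ZMod 2) {c} := by
        rw [hCeq, hBeq]
      have hCba : C = A' ⊔ Submodule.span (ZMod 2) {a} ⊔ Submodule.span (ZMod 2) {c} := by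
        rw [hCab, sup_comm A]
      refine Subtype.ext (Subtype.ext (Subtype.ext (LinearEquiv.ext fun x => ?_)))
      have m1 := S.moved_mem hn ha hbA hcS hh e3 e1 e2 (fun y => hCab ▸ hmove y) x
      have m2 := S.moved_mem hn hb0 haA' hcS' hh e1 e3 e2 (fun y => hCba ▸ hmove y) x
      show h x = x
      rcases mem_span_point.1 m1 with h0 | h0
      · rw [← sub_eq_zero, sub_eq_add']; exact h0
      · exfalso
        rw [h0] at m2
        exact haA' m2
    have h1 := Subgroup.card_dvd_of_injective ψ hψ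
    rw [Nat.card_perm] at h1
    have h2 : Nat.card {q : V ⧸ C // q ≠ 0} = 3 := by
      haveI : Fintype (V ⧸ C) := Fintype.ofFinite _
      rw [Nat.card_eq_fintype_card, Fintype.card_subtype_compl, Fintype.card_subtype_eq,
        Module.card_eq_pow_finrank (K := ZMod 2) (V := V ⧸ C), ZMod.card,
        show finrank (ZMod 2) (V ⧸ C) = 2 by
          have := C.finrank_quotient_add_finrank
          have := hreg'.1
          omega]
      norm_num
    rw [h2] at h1
    exact h1
  have hK : Nat.card K = 120 * Nat.card L := by rw [← L.index_mul_card, hLindex]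
  have hK720 : Nat.card K ∣ 720 := by rw [hK]; exact Nat.mul_dvd_mul_left 120 hLdvd
  -- Sylow
  have hPindex : P.index = Nat.card K := by
    have h1 := P.index_mul_card
    rw [hPcard, hcardH] at h1
    omega
  have hP31 : ¬ 31 ∣ P.index := fun h => absurd ((hPindex ▸ h).trans hK720) (by norm_num)
  let Ps : Sylow 31 H := (IsPGroup.of_card (n := 1) (by rw [hPcard, pow_one])).toSylow hP31
  have hns : Nat.card (Sylow 31 H) = 1 := by
    have h1 : Nat.card (Sylow 31 H) ∣ 720 := by
      have := Ps.card_dvd_index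
      rw [IsPGroup.toSylow_coe, hPindex] at this
      exact this.trans hK720
    have h2 := card_sylow_modEq_one 31 H
    obtain ⟨q, hq⟩ : ∃ q, Nat.card (Sylow 31 H) = 31 * q + 1 := by
      unfold Nat.ModEq at h2
      exact ⟨Nat.card (Sylow 31 H) / 31, by omega⟩
    rw [hq] at h1 ⊢
    have h3 := Nat.le_of_dvd (by norm_num) h1
    have h4 : q ≤ 23 := by omega
    interval_cases q <;> revert h1 <;> norm_num
  haveI : Subsingleton (Sylow 31 H) := (Nat.card_eq_one_iff_unique.1 hns).1
  have hnorm : (Ps : Subgroup H).Normal := Sylow.normal_of_subsingleton Ps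
  rw [IsPGroup.toSylow_coe] at hnorm
  let θ : K → P := fun k => ⟨k.1 * gH * k.1⁻¹, hnorm.conj_mem _ (Subgroup.mem_zpowers gH) k.1⟩
  have hθ : Function.Injective θ := by
    intro k l hkl
    have hcom : Commute (l⁻¹ * k : K).1 gH := by
      have h1 : k.1 * gH * k.1⁻¹ = l.1 * gH * l.1⁻¹ := congrArg Subtype.val hkl
      show l.1⁻¹ * k.1 * gH = gH * (l.1⁻¹ * k.1)
      calc l.1⁻¹ * k.1 * gH = l.1⁻¹ * (k.1 * gH * k.1⁻¹) * k.1 := by group
        _ = _ := by rw [h1]; group
    have h1 : (l⁻¹ * k : K).1 = 1 := by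
      refine Subtype.ext (LinearEquiv.ext fun z => ?_)
      rcases eq_or_ne z 0 with rfl | hz
      · exact map_zero _
      obtain ⟨⟨p, hp⟩, rfl⟩ := hreg z hz
      obtain ⟨m, rfl⟩ := Subgroup.mem_zpowers_iff.1 hp
      have h2 := (hcom.zpow_right m).eq
      show ((l⁻¹ * k : K).1 * gH ^ m) • a = (gH ^ m) • a
      rw [h2, mul_smul, (l⁻¹ * k : K).2]
    exact (inv_mul_eq_one.1 (Subtype.ext h1 : l⁻¹ * k = 1)).symm
  have h5 := Nat.card_le_card_of_injective θ hθ
  have h6 : 0 < Nat.card L := Nat.card_pos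
  omega

omit S hn in
/-- The case `i = 2` in dimension five does not occur. -/
theorem Setup.false_small {i : ℕ} (S : Setup H i) (hi : i = 2) (hn : finrank (ZMod 2) V = 5) :
    False := by
  subst hi
  exact S.false_two_five hn

end Cfsg.Agent.TransLinTwo
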