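import Cfsg.Agent.Lib.Perm.TransLinTwo.AsymMain
import Cfsg.Agent.Lib.Perm.TransLinTwo.AsymSmall

/-!
# The lifted subspace does not depend on the hyperplane
-/

set_option autoImplicit false
set_option linter.unusedSectionVars false

namespace Cfsg.Agent.TransLinTwo

open Module

/-- The lifted subspace of a flag depends only on the larger space. -/
theorem liftIndep_of_prime {V : Type*} [AddCommGroup V] [Module (ZMod 2) V] [Finite V]
    {H : Subgroup (V ≃ₗ[ZMod 2] V)} {i : ℕ} (hT : TupleTrans H i) (hi2 : 2 ≤ i)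
    (hi : i < finrank (ZMod 2) V) (hn5 : 5 ≤ finrank (ZMod 2) V)
    (hp : (2 ^ finrank (ZMod 2) V - 1).Prime) : LiftIndep H i :=
  liftIndep_of hT hi2 hi hn5 hp fun S h1 h2 => S.false_small h1 h2

end Cfsg.Agent.TransLinTwo
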