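import Cfsg.Agent.Lib.Perm.TransLinTwo.AsymFam

/-!
# The radical hyperplane

An `(i+1)`-space `C` is regular if it is outside the radical of one of its hyperplanes.  All regular
spaces are conjugate, and counting shows that each has exactly one hyperplane whose radical contains
it.
-/

set_option autoImplicit false
set_option linter.unusedSectionVars false
set_option linter.style.haveILetI false

namespace Cfsg.Agent.TransLinTwo

open Module

variable {V : Type*} [AddCommGroup V] [Module (ZMod 2) V] [Finite V]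

/-- Some hyperplane of `C` does not have `C` inside its radical. -/
def Reg (H : Subgroup (V ≃ₗ[ZMod 2] V)) (i : ℕ) (C : Submodule (ZMod 2) V) : Prop :=
  finrank (ZMod 2) C = i + 1 ∧ ∃ B ∈ hyps C, ¬C ≤ rad H B

/-- The hyperplanes of `C` with `C` inside their radical. -/
def radSet (H : Subgroup (V ≃ₗ[ZMod 2] V)) (C : Submodule (ZMod 2) V) :
    Set (Submodule (ZMod 2) V) :=
  {B | B ∈ hyps C ∧ C ≤ rad H B}

theorem three_dvd_of_cyclic {M : Type*} [AddCommGroup M] [Module (ZMod 2) M] [Fintype M]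
    [DecidableEq M] (X : M → Finset M) (N : ℕ) (hN : ∀ u, u ≠ 0 → (X u).card = N)
    (hX : ∀ u w, u ≠ 0 → w ∈ X u → w ≠ 0 ∧ u + w ∈ X w) :
    3 ∣ (Fintype.card M - 1) * N := by
  classical
  let T := (Finset.univ.erase (0 : M)).sigma fun u => X u
  have hT : T.card = (Fintype.card M - 1) * N := by
    rw [Finset.card_sigma, Finset.sum_congr rfl fun u hu => hN u (Finset.ne_of_mem_erase hu),
      Finset.sum_const, Finset.card_erase_of_mem (Finset.mem_univ _), Finset.card_univ, smul_eq_mul]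
  rw [← hT]
  by_contra h3
  have hmem : ∀ p, p ∈ T ↔ p.1 ≠ 0 ∧ p.2 ∈ X p.1 := fun p => by simp [T]
  let f : T → T := fun p => ⟨⟨p.1.2, p.1.1 + p.1.2⟩, by
    obtain ⟨h1, h2⟩ := (hmem _).1 p.2
    exact (hmem _).2 ⟨(hX _ _ h1 h2).1, (hX _ _ h1 h2).2⟩⟩
  have hcube : ∀ p, f (f (f p)) = p := fun p => by
    obtain ⟨⟨u, w⟩, hp⟩ := p
    refine Subtype.ext ?_
    show (⟨w + (u + w), u + w + (w + (u + w))⟩ : Σ _ : M, M) = ⟨u, w⟩
    rw [add_comm u w, ← add_assoc, ZModModule.add_self, zero_add, add_assoc,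
      ZModModule.add_self, add_zero]
  let σ : Equiv.Perm T :=
    { toFun := f, invFun := fun p => f (f p), left_inv := hcube, right_inv := hcube }
  haveI : Fact (Nat.Prime 3) := ⟨by norm_num⟩
  obtain ⟨⟨⟨u, w⟩, hp⟩, hfix⟩ := Equiv.Perm.exists_fixed_point_of_prime (p := 3) (n := 1)
    (α := T) (by rwa [Fintype.card_coe]) (σ := σ) (Equiv.ext fun p => hcube p)
  have h := congrArg (fun p : T => p.1) hfix
  change (⟨w, u + w⟩ : Σ _ : M, M) = ⟨u, w⟩ at h
  obtain ⟨h1, h2⟩ := Sigma.mk.inj h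
  exact ((hmem _).1 hp).1 (by simpa using h2)

theorem even_of_three_dvd {d : ℕ} (h : 3 ∣ 2 ^ d - 1) : Even d := by
  by_contra hd
  obtain ⟨k, rfl⟩ := Nat.not_even_iff_odd.1 hd
  have h1 := Nat.one_le_two_pow (n := 2 * k + 1)
  have h4 : 4 ^ k % 3 = 1 := by rw [Nat.pow_mod]; simp
  have h2 : 2 ^ (2 * k + 1) = 2 * 4 ^ k := by rw [pow_succ', pow_mul]; norm_num
  generalize 2 ^ (2 * k + 1) = x at h h1 h2
  generalize 4 ^ k = y at h4 h2
  omega

theorem sup_of_hyps {B B' C : Submodule (ZMod 2) V} (hB : B ∈ hyps C) (hB' : B' ∈ hyps C)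
    (hne : B ≠ B') : B ⊔ B' = C := by
  refine le_antisymm (sup_le hB.1 hB'.1) ?_
  have hnle : ¬B' ≤ B := fun h => hne (Submodule.eq_of_le_of_finrank_eq h (by
    have := hB.2; have := hB'.2; omega)).symm
  obtain ⟨b, hb, hbB⟩ := SetLike.not_le_iff_exists.1 hnle
  rw [eq_sup_of_hyp hB (hB'.1 hb) hbB]
  exact sup_le le_sup_left ((Submodule.span_singleton_le_iff_mem ..).2 (Submodule.mem_sup_right hb))

theorem inf_mem_hyps {B B' C : Submodule (ZMod 2) V} (hB : B ∈ hyps C) (hB' : B' ∈ hyps C)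
    (hne : B ≠ B') : B ⊓ B' ∈ hyps B := by
  refine ⟨inf_le_left, ?_⟩
  have e := Submodule.finrank_sup_add_finrank_inf_eq B B'
  rw [sup_of_hyps hB hB' hne] at e
  have := hB.2; have := hB'.2
  omega

/-- Three hyperplanes contain a given subspace of codimension two. -/
theorem ncard_hyps_above {A C : Submodule (ZMod 2) V} (hAC : A ≤ C)
    (hd : finrank (ZMod 2) A + 2 = finrank (ZMod 2) C) :
    {B ∈ hyps C | A ≤ B}.ncard = 3 := by
  classical
  obtain ⟨b, hb, hbA⟩ := exists_mem_not_mem (show finrank (ZMod 2) A < finrank (ZMod 2) C by omega)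
  obtain ⟨c, hc, hcA⟩ := exists_mem_not_mem (show finrank (ZMod 2)
      ↥(A ⊔ Submodule.span (ZMod 2) {b}) < finrank (ZMod 2) C by
    rw [finrank_sup_singleton hbA]; omega)
  let K : V → Submodule (ZMod 2) V := fun z => A ⊔ Submodule.span (ZMod 2) {z}
  change c ∉ K b at hcA
  have hmem : ∀ z, z ∈ K z := fun z =>
    Submodule.mem_sup_right (Submodule.mem_span_singleton_self z)
  have hA : ∀ z, A ≤ K z := fun z => le_sup_left
  have hK : ∀ z, z ∈ C → z ∉ A → K z ∈ hyps C := fun z hz hzA =>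
    ⟨sup_le hAC ((Submodule.span_singleton_le_iff_mem ..).2 hz),
      by rw [finrank_sup_singleton hzA]; omega⟩
  have hc0 : c ∉ A := fun h => hcA (hA b h)
  have hbc : b + c ∉ A := fun h => hcA ((Submodule.add_mem_iff_right _ (hmem b)).1 (hA b h))
  have hsup : C = K b ⊔ Submodule.span (ZMod 2) {c} := eq_sup_of_hyp (hK b hb hbA) hc hcA
  have hset : {B ∈ hyps C | A ≤ B} = {K b, K c, K (b + c)} := by
    ext B
    constructor
    · rintro ⟨hB, hAB⟩
      obtain ⟨z, hz, hzA⟩ := exists_mem_not_mem (show finrank (ZMod 2) A < finrank (ZMod 2) B by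
        have := hB.2; omega)
      have hBz : B = K z := eq_sup_of_hyp (A := A) ⟨hAB, by have := hB.2; omega⟩ hz hzA
      have hzC : z ∈ K b ⊔ Submodule.span (ZMod 2) {c} := hsup ▸ hB.1 hz
      obtain ⟨y, hy, w, hw, rfl⟩ := Submodule.mem_sup.1 hzC
      obtain ⟨k, rfl⟩ := Submodule.mem_span_singleton.1 hw
      obtain ⟨a, ha, v, hv, rfl⟩ := Submodule.mem_sup.1 hy
      obtain ⟨l, rfl⟩ := Submodule.mem_span_singleton.1 hv
      have key : ∀ q, q ∉ A → a + l • b + k • c = a + q → B = K q := by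
        intro q hq e
        rw [hBz, e]
        refine (eq_sup_of_hyp (A := A) ⟨le_sup_left, ?_⟩ ?_ hq)
        · rw [finrank_sup_singleton (v := a + q) (fun h => hq ((A.add_mem_iff_right ha).1 h))]
        · have := (K (a + q)).add_mem (hA (a + q) ha) (hmem (a + q))
          rwa [← add_assoc, add_self, zero_add] at this
      rcases zmod2_cases l with rfl | rfl <;> rcases zmod2_cases k with rfl | rfl
      · exact absurd (show a + (0 : ZMod 2) • b + (0 : ZMod 2) • c ∈ A by simpa using ha) hzA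
      · exact Or.inr (Or.inl (key c hc0 (by simp)))
      · exact Or.inl (key b hbA (by simp))
      · exact Or.inr (Or.inr (key (b + c) hbc (by simp [add_assoc])))
    · rintro (rfl | rfl | rfl)
      · exact ⟨hK b hb hbA, hA _⟩
      · exact ⟨hK c hc hc0, hA _⟩
      · exact ⟨hK (b + c) (C.add_mem hb hc) hbc, hA _⟩
  have h1 : K b ≠ K c := fun h => hcA (h ▸ hmem c)
  have h2 : K b ≠ K (b + c) := fun h =>
    hcA ((Submodule.add_mem_iff_right _ (hmem b)).1 (h ▸ hmem (b + c)))
  have h3 : K c ≠ K (b + c) := fun h => by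
    have hb' : b ∈ K c := (Submodule.add_mem_iff_left _ (hmem c)).1 (h ▸ hmem (b + c))
    refine h1 (Submodule.eq_of_le_of_finrank_eq (sup_le (hA c)
      ((Submodule.span_singleton_le_iff_mem ..).2 hb')) ?_)
    rw [finrank_sup_singleton hbA, finrank_sup_singleton hc0]
  rw [hset, Set.ncard_insert_of_notMem (by simp [h1, h2]), Set.ncard_pair h3]

variable {H : Subgroup (V ≃ₗ[ZMod 2] V)} {i : ℕ} (S : Setup H i)

include S

/-- Degeneracy of a flag depends only on its smaller space. -/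
theorem Setup.deg_indep {A B B' C : Submodule (ZMod 2) V} (hC : finrank (ZMod 2) C = i + 1)
    (hB : B ∈ hyps C) (hB' : B' ∈ hyps C) (hA : A ∈ hyps B) (hA' : A ≤ B')
    (h : C ≤ sf H A B) : C ≤ sf H A B' := by
  have hBi : finrank (ZMod 2) B = i := by have := hB.2; omega
  have hBi' : finrank (ZMod 2) B' = i := by have := hB'.2; omega
  by_cases hne : B = B'
  · rwa [← hne]
  have hA1 : finrank (ZMod 2) A + 1 = i := hA.2.trans hBi
  have hAB' : A ∈ hyps B' := ⟨hA', by omega⟩
  obtain ⟨b, hb, hbA⟩ := exists_mem_not_mem (show finrank (ZMod 2) A < finrank (ZMod 2) B by omega)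
  obtain ⟨b', hb', hbA'⟩ :=
    exists_mem_not_mem (show finrank (ZMod 2) A < finrank (ZMod 2) B' by omega)
  have h1 : b' ∈ sf H A B := h (hB'.1 hb')
  rw [sf_eq_liftS S.trans S.two_le S.lt hA hBi hb hbA] at h1
  have h2 := mem_liftS_symm S.trans S.two_le S.lt hA1 hbA hbA' h1
  rw [← sf_eq_liftS S.trans S.two_le S.lt hAB' hBi' hb' hbA'] at h2
  have h3 := le_sf S.trans S.two_le S.lt hAB' hBi'
  rw [← sup_of_hyps hB hB' hne, eq_sup_of_hyp hA hb hbA]
  exact sup_le (sup_le (hA'.trans h3) ((Submodule.span_singleton_le_iff_mem ..).2 h2)) h3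

theorem Setup.map_B {B B' : Submodule (ZMod 2) V} (hB : finrank (ZMod 2) B = i)
    (hB' : finrank (ZMod 2) B' = i) : ∃ h ∈ H, B.map h.toLinearMap = B' := by
  obtain ⟨A, hA, -⟩ := S.asym B hB
  obtain ⟨A', hA', -⟩ := S.asym B' hB'
  obtain ⟨b, hb, hbA⟩ := exists_mem_not_mem (show finrank (ZMod 2) A < finrank (ZMod 2) B by
    have := hA.2; omega)
  obtain ⟨b', hb', hbA'⟩ := exists_mem_not_mem (show finrank (ZMod 2) A' < finrank (ZMod 2) B' by
    have := hA'.2; omega)
  obtain ⟨h, hh, hAA, hbb⟩ := flag_trans S.trans S.lt (hA.2.trans hB) (hA'.2.trans hB') hbA hbA'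
  exact ⟨h, hh, by rw [eq_sup_of_hyp hA hb hbA, map_sup_singleton, hAA, hbb,
    ← eq_sup_of_hyp hA' hb' hbA']⟩

theorem Setup.not_mem_rad {B C : Submodule (ZMod 2) V} (hC : finrank (ZMod 2) C = i + 1)
    (hB : B ∈ hyps C) (h : ¬C ≤ rad H B) {c : V} (hc : c ∈ C) (hcB : c ∉ B) : c ∉ rad H B := by
  intro hm
  refine h ?_
  rw [eq_sup_of_hyp hB hc hcB]
  exact sup_le (le_rad S.trans S.two_le S.lt (by have := hB.2; omega))
    ((Submodule.span_singleton_le_iff_mem ..).2 hm)

theorem Setup.reg_sup {B : Submodule (ZMod 2) V} (hB : finrank (ZMod 2) B = i) {c : V}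
    (hc : c ∉ rad H B) :
    c ∉ B ∧ B ∈ hyps (B ⊔ Submodule.span (ZMod 2) {c}) ∧
      Reg H i (B ⊔ Submodule.span (ZMod 2) {c}) ∧
      ¬B ⊔ Submodule.span (ZMod 2) {c} ≤ rad H B := by
  have hcB : c ∉ B := fun h => hc (le_rad S.trans S.two_le S.lt hB h)
  have hd := finrank_sup_singleton hcB
  have hh : B ∈ hyps (B ⊔ Submodule.span (ZMod 2) {c}) := ⟨le_sup_left, hd.symm⟩
  have hn : ¬B ⊔ Submodule.span (ZMod 2) {c} ≤ rad H B :=
    fun h => hc (h (Submodule.mem_sup_right (Submodule.mem_span_singleton_self c)))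
  exact ⟨hcB, hh, ⟨by rw [hd, hB], B, hh, hn⟩, hn⟩

/-- The regular flags form one orbit. -/
theorem Setup.reg_flag_trans {B B' C C' : Submodule (ZMod 2) V}
    (hC : finrank (ZMod 2) C = i + 1) (hC' : finrank (ZMod 2) C' = i + 1) (hB : B ∈ hyps C)
    (hB' : B' ∈ hyps C') (h : ¬C ≤ rad H B) (h' : ¬C' ≤ rad H B') :
    ∃ g ∈ H, B.map g.toLinearMap = B' ∧ C.map g.toLinearMap = C' := by
  have hBi : finrank (ZMod 2) B = i := by have := hB.2; omega
  have hBi' : finrank (ZMod 2) B' = i := by have := hB'.2; omega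
  obtain ⟨c, hc, hcB⟩ := exists_mem_not_mem (show finrank (ZMod 2) B < finrank (ZMod 2) C by omega)
  obtain ⟨c', hc', hcB'⟩ :=
    exists_mem_not_mem (show finrank (ZMod 2) B' < finrank (ZMod 2) C' by omega)
  obtain ⟨g, hg, hgB⟩ := S.map_B hBi hBi'
  have hgc : g c ∉ rad H B' := by
    rw [← hgB, mem_rad_map_iff S.trans S.two_le S.lt hBi hg]
    exact S.not_mem_rad hC hB h hc hcB
  obtain ⟨k, hk, hkB, e⟩ := rad_link S.trans S.two_le S.lt hBi' hgc
    (S.not_mem_rad hC' hB' h' hc' hcB')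
  refine ⟨k * g, H.mul_mem hk hg, by rw [map_mul', hgB, hkB], ?_⟩
  rw [eq_sup_of_hyp hB hc hcB, eq_sup_of_hyp hB' hc' hcB', map_sup_singleton, map_mul', hgB, hkB,
    LinearEquiv.mul_apply]
  refine le_antisymm (sup_le le_sup_left ((Submodule.span_singleton_le_iff_mem ..).2 ?_))
    (sup_le le_sup_left ((Submodule.span_singleton_le_iff_mem ..).2 ?_))
  · have := Submodule.add_mem (B' ⊔ Submodule.span (ZMod 2) {c'}) (Submodule.mem_sup_left e)
      (Submodule.mem_sup_right (Submodule.mem_span_singleton_self c'))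
    rwa [add_assoc, add_self, add_zero] at this
  · have := Submodule.add_mem (B' ⊔ Submodule.span (ZMod 2) {k (g c)}) (Submodule.mem_sup_left e)
      (Submodule.mem_sup_right (Submodule.mem_span_singleton_self (k (g c))))
    rwa [add_comm, ← add_assoc, add_self, zero_add] at this

theorem Setup.radSet_map {g : V ≃ₗ[ZMod 2] V} (hg : g ∈ H) {B C : Submodule (ZMod 2) V}
    (hC : finrank (ZMod 2) C = i + 1) (hB : B ∈ radSet H C) :
    B.map g.toLinearMap ∈ radSet H (C.map g.toLinearMap) := by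
  refine ⟨hyps_map g hB.1, ?_⟩
  rintro _ ⟨z, hz, rfl⟩
  exact (mem_rad_map_iff S.trans S.two_le S.lt (by have := hB.1.2; omega) hg).2 (hB.2 hz)

theorem Setup.ncard_radSet_eq {C C' : Submodule (ZMod 2) V} (hC : Reg H i C) (hC' : Reg H i C') :
    (radSet H C).ncard = (radSet H C').ncard := by
  have key : ∀ {C C' : Submodule (ZMod 2) V}, Reg H i C → Reg H i C' →
      (radSet H C).ncard ≤ (radSet H C').ncard := by
    intro C C' hC hC'
    obtain ⟨hd, B, hB, hn⟩ := hC
    obtain ⟨hd', B', hB', hn'⟩ := hC'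
    obtain ⟨g, hg, -, hgC⟩ := S.reg_flag_trans hd hd' hB hB' hn hn'
    refine Set.ncard_le_ncard_of_injOn (fun B₁ => B₁.map g.toLinearMap) ?_
      (Submodule.map_injective_of_injective g.injective).injOn (Set.toFinite _)
    intro B₁ h1
    exact hgC ▸ S.radSet_map hg hd h1
  exact le_antisymm (key hC hC') (key hC' hC)

/-- A regular space has at most one radical hyperplane. -/
theorem Setup.rad_le_one {C : Submodule (ZMod 2) V} (hC : Reg H i C) :
    (radSet H C).ncard ≤ 1 := by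
  classical
  haveI : Fintype V := Fintype.ofFinite V
  haveI : Fintype (Submodule (ZMod 2) V) := Fintype.ofFinite _
  by_contra hlt
  push Not at hlt
  set ρ := (radSet H C).ncard with hρ
  let Bs : Finset (Submodule (ZMod 2) V) := Finset.univ.filter fun B => finrank (ZMod 2) B = i
  let Cs : Finset (Submodule (ZMod 2) V) := Finset.univ.filter fun C' => Reg H i C'
  let J : (Σ _ : Submodule (ZMod 2) V, V) → Submodule (ZMod 2) V := fun p =>
    p.1 ⊔ Submodule.span (ZMod 2) {p.2}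
  let T1 := Bs.sigma fun B => Finset.univ.filter fun c => c ∉ rad H B
  let T2 := Bs.sigma fun B => Finset.univ.filter fun c =>
    c ∈ rad H B ∧ c ∉ B ∧ Reg H i (B ⊔ Submodule.span (ZMod 2) {c})
  set n := finrank (ZMod 2) V
  have hcard : Fintype.card V = 2 ^ n := by
    rw [Module.card_eq_pow_finrank (K := ZMod 2) (V := V), ZMod.card]
  have hrad : ∀ B ∈ Bs, finrank (ZMod 2) (rad H B) = n - i := fun B hB => by
    have := S.finrank_rad (Finset.mem_filter.1 hB).2
    omega
  have h1 : T1.card = Bs.card * (2 ^ n - 2 ^ (n - i)) := by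
    rw [Finset.card_sigma, Finset.sum_congr rfl fun B hB => show _ = 2 ^ n - 2 ^ (n - i) by
      rw [Finset.filter_not, Finset.card_univ_sdiff, AF.card_filter_mem, hcard, hrad B hB],
      Finset.sum_const, smul_eq_mul]
  have h2 : T2.card ≤ Bs.card * (2 ^ (n - i) - 2 ^ i) := by
    rw [Finset.card_sigma, ← smul_eq_mul, ← Finset.sum_const]
    refine Finset.sum_le_sum fun B hB => ?_
    refine (Finset.card_le_card (t := (Finset.univ.filter fun c => c ∈ rad H B) \
      Finset.univ.filter fun c => c ∈ B) ?_).trans (le_of_eq ?_)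
    · intro c hc
      simp only [Finset.mem_filter, Finset.mem_univ, true_and, Finset.mem_sdiff] at hc ⊢
      exact ⟨hc.1, hc.2.1⟩
    · rw [Finset.card_sdiff_of_subset (Finset.monotone_filter_right _
        fun c _ hc => le_rad S.trans S.two_le S.lt (Finset.mem_filter.1 hB).2 hc),
        AF.card_filter_mem, AF.card_filter_mem, hrad B hB, (Finset.mem_filter.1 hB).2]
  have hfib : ∀ (P : Submodule (ZMod 2) V → Submodule (ZMod 2) V → Prop)
      (T : Finset (Σ _ : Submodule (ZMod 2) V, V)),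
      (∀ p, p ∈ T ↔ finrank (ZMod 2) p.1 = i ∧ p.2 ∉ p.1 ∧ Reg H i (J p) ∧ P p.1 (J p)) →
      T.card = ∑ C' ∈ Cs, {B ∈ hyps C' | P B C'}.ncard * 2 ^ i := by
    intro P T hT
    rw [Finset.card_eq_sum_card_fiberwise (f := J) (t := Cs) fun p hp => by
      exact Finset.mem_filter.2 ⟨Finset.mem_univ _, ((hT p).1 hp).2.2.1⟩]
    refine Finset.sum_congr rfl fun C' hC' => ?_
    have hC'' := (Finset.mem_filter.1 hC').2
    have hfs : T.filter (fun p => J p = C') = ({B ∈ hyps C' | P B C'}.toFinset).sigma fun B =>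
        (Finset.univ.filter fun c => c ∈ C') \ Finset.univ.filter fun c => c ∈ B := by
      ext ⟨B, c⟩
      simp only [Finset.mem_filter, Finset.mem_sigma, Set.mem_toFinset, Finset.mem_sdiff,
        Finset.mem_univ, true_and, hT]
      constructor
      · rintro ⟨⟨hBi, hcB, hreg, hP⟩, e⟩
        rw [e] at hP
        refine ⟨⟨⟨e ▸ le_sup_left, ?_⟩, hP⟩,
          e ▸ Submodule.mem_sup_right (Submodule.mem_span_singleton_self c), hcB⟩
        rw [hBi, ← e]
        exact hreg.1.symm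
      · rintro ⟨⟨hB, hP⟩, hc, hcB⟩
        have e : J ⟨B, c⟩ = C' := (eq_sup_of_hyp hB hc hcB).symm
        rw [e]
        exact ⟨⟨by have := hB.2; have := hC''.1; omega, hcB, hC'', hP⟩, rfl⟩
    rw [hfs, Finset.card_sigma, Finset.sum_congr rfl fun B hB => show _ = 2 ^ i by
        rw [Set.mem_toFinset] at hB
        rw [Finset.card_sdiff_of_subset (Finset.monotone_filter_right _ fun c _ hc => hB.1.1 hc),
          AF.card_filter_mem, AF.card_filter_mem, show finrank (ZMod 2) B = i by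
            have := hB.1.2; have := hC''.1; omega, hC''.1, pow_succ]
        omega,
      Finset.sum_const, smul_eq_mul, Set.ncard_eq_toFinset_card']
  have e1 := hfib (fun B C' => ¬C' ≤ rad H B) T1 fun p => by
    obtain ⟨B, c⟩ := p
    simp only [T1, Bs, Finset.mem_sigma, Finset.mem_filter, Finset.mem_univ, true_and]
    constructor
    · rintro ⟨hB, hc⟩
      exact ⟨hB, (S.reg_sup hB hc).1, (S.reg_sup hB hc).2.2.1, (S.reg_sup hB hc).2.2.2⟩
    · rintro ⟨hB, -, -, hn⟩
      exact ⟨hB, fun hc => hn (sup_le (le_rad S.trans S.two_le S.lt hB)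
        ((Submodule.span_singleton_le_iff_mem ..).2 hc))⟩
  have e2 := hfib (fun B C' => C' ≤ rad H B) T2 fun p => by
    obtain ⟨B, c⟩ := p
    simp only [T2, Bs, Finset.mem_sigma, Finset.mem_filter, Finset.mem_univ, true_and]
    constructor
    · rintro ⟨hB, hc, hcB, hreg⟩
      exact ⟨hB, hcB, hreg, sup_le (le_rad S.trans S.two_le S.lt hB)
        ((Submodule.span_singleton_le_iff_mem ..).2 hc)⟩
    · rintro ⟨hB, hcB, hreg, hle⟩
      exact ⟨hB, hle (Submodule.mem_sup_right (Submodule.mem_span_singleton_self c)), hcB, hreg⟩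
  have r2 : ∀ C' ∈ Cs, {B ∈ hyps C' | C' ≤ rad H B}.ncard = ρ := fun C' hC' =>
    (S.ncard_radSet_eq (Finset.mem_filter.1 hC').2 hC).trans hρ.symm
  have r1 : ∀ C' ∈ Cs, {B ∈ hyps C' | ¬C' ≤ rad H B}.ncard = 2 ^ (i + 1) - 1 - ρ := by
    intro C' hC'
    rw [← r2 C' hC', show {B ∈ hyps C' | ¬C' ≤ rad H B} =
        hyps C' \ {B ∈ hyps C' | C' ≤ rad H B} by ext B; simp +contextual,
      Set.ncard_sdiff (Set.sep_subset _ _) (Set.toFinite _), ncard_hyps,
      (Finset.mem_filter.1 hC').2.1]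
  rw [h1, Finset.sum_congr rfl (fun C' hC' => by rw [r1 C' hC']), Finset.sum_const, smul_eq_mul]
    at e1
  rw [Finset.sum_congr rfl (fun C' hC' => by rw [r2 C' hC']), Finset.sum_const, smul_eq_mul] at e2
  rw [e2] at h2
  have hBpos : 0 < Bs.card := by
    obtain ⟨hd, B, hB, -⟩ := hC
    exact Finset.card_pos.2 ⟨B, Finset.mem_filter.2 ⟨Finset.mem_univ _, by have := hB.2; omega⟩⟩
  have hρle : ρ ≤ 2 ^ (i + 1) - 1 := by
    rw [hρ, ← hC.1, ← ncard_hyps C]
    exact Set.ncard_le_ncard (Set.sep_subset _ _) (Set.toFinite _)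
  have hm := S.two_mul_lt (B := (hC.2.choose)) (by
    have := hC.2.choose_spec.1.2; have := hC.1; omega)
  obtain ⟨m, hnm⟩ := Nat.exists_eq_add_of_le (le_of_lt hm)
  rw [show n - i = i + m by omega, show n = i + (i + m) by omega, pow_add] at e1
  rw [show n - i = i + m by omega] at h2
  set Y := 2 ^ i with hY
  set Z := 2 ^ m with hZ
  have hY1 : 4 ≤ Y := (show 2 ^ 2 = 4 by norm_num) ▸ Nat.pow_le_pow_right (by norm_num) S.two_le
  have hZ1 : 1 ≤ Z := Nat.one_le_two_pow
  rw [pow_add, ← hY, ← hZ] at e1 h2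
  rw [pow_succ, ← hY] at hρle e1
  have hstep : Bs.card * (Y * (Y * Z) - Y * Z) * ρ ≤
      Bs.card * (Y * Z - Y) * (Y * 2 - 1 - ρ) := by
    rw [e1]
    calc Cs.card * ((Y * 2 - 1 - ρ) * Y) * ρ = Cs.card * (ρ * Y) * (Y * 2 - 1 - ρ) := by ring
      _ ≤ _ := Nat.mul_le_mul_right _ h2
  have hstep' := Nat.le_of_mul_le_mul_left (by simpa [mul_assoc] using hstep) hBpos
  have e3 : Y * (Y * Z) - Y * Z = Y * ((Y - 1) * Z) := by
    rw [Nat.sub_mul, one_mul, Nat.mul_sub]
  rw [e3, show Y * Z - Y = Y * (Z - 1) by rw [Nat.mul_sub, mul_one]] at hstep'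
  simp only [mul_assoc] at hstep'
  have h4 := Nat.le_of_mul_le_mul_left hstep' (by omega)
  clear_value Y Z
  obtain ⟨Y', rfl⟩ : ∃ Y', Y = Y' + 1 := ⟨Y - 1, by omega⟩
  obtain ⟨Z', rfl⟩ : ∃ Z', Z = Z' + 1 := ⟨Z - 1, by omega⟩
  simp only [Nat.add_sub_cancel] at h4
  have h5 : (Y' + 1) * 2 - 1 - ρ ≤ 2 * Y' := by omega
  have h7 := Nat.mul_le_mul_left Z' h5
  have h6 : Y' * ((Z' + 1) * 2) ≤ Y' * ((Z' + 1) * ρ) :=
    Nat.mul_le_mul_left _ (Nat.mul_le_mul_left _ hlt)
  rw [show Y' * ((Z' + 1) * 2) = Z' * (2 * Y') + 2 * Y' by ring] at h6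
  omega

/-- The degenerate hyperplanes of a non-radical hyperplane. -/
theorem Setup.ncard_deg {B C A : Submodule (ZMod 2) V} (hC : finrank (ZMod 2) C = i + 1)
    (hB : B ∈ hyps C) (h : ¬C ≤ rad H B) (hA : A ∈ hyps B) :
    {A' ∈ hyps B | C ≤ sf H A' B}.ncard + 1 =
      2 ^ (finrank (ZMod 2) (sf H A B) - finrank (ZMod 2) (rad H B)) := by
  have hBi : finrank (ZMod 2) B = i := by have := hB.2; omega
  obtain ⟨c, hc, hcB⟩ := exists_mem_not_mem (show finrank (ZMod 2) B < finrank (ZMod 2) C by omega)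
  rw [← S.card_through hBi hA (S.not_mem_rad hC hB h hc hcB)]
  congr 2
  ext A'
  refine and_congr_right fun hA' => ⟨fun hle => hle hc, fun hm => ?_⟩
  rw [eq_sup_of_hyp hB hc hcB]
  exact sup_le (le_sf S.trans S.two_le S.lt hA' hBi)
    ((Submodule.span_singleton_le_iff_mem ..).2 hm)

/-- Double counting the flags inside a space all of whose hyperplanes are non-radical. -/
theorem Setup.three_dvd_flags {C : Submodule (ZMod 2) V} (hC : finrank (ZMod 2) C = i + 1)
    (P : Submodule (ZMod 2) V → Submodule (ZMod 2) V → Prop)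
    (hP : ∀ A, ∀ B ∈ hyps C, ∀ B' ∈ hyps C, A ∈ hyps B → A ≤ B' → P A B → P A B') (j : ℕ)
    (hj : ∀ B ∈ hyps C, {A ∈ hyps B | P A B}.ncard = j) : 3 ∣ (2 ^ (i + 1) - 1) * j := by
  classical
  haveI : Fintype (Submodule (ZMod 2) V) := Fintype.ofFinite _
  have hbi := Finset.sum_card_bipartiteAbove_eq_sum_card_bipartiteBelow
    (fun B A => A ∈ hyps B ∧ P A B) (s := (hyps C).toFinset)
    (t := Finset.univ.filter fun A => ∃ B ∈ hyps C, A ∈ hyps B ∧ P A B)
  rw [Finset.sum_congr rfl (g := fun _ => j) (fun B hB => by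
      rw [Set.mem_toFinset] at hB
      rw [← hj B hB, Set.ncard_eq_toFinset_card']
      congr 1
      ext A
      simp only [Finset.bipartiteAbove, Finset.mem_filter, Finset.mem_univ, true_and,
        Set.mem_toFinset, Set.mem_ofPred_eq]
      exact ⟨fun h => h.2, fun h => ⟨⟨B, hB, h⟩, h⟩⟩),
    Finset.sum_const, smul_eq_mul, ← Set.ncard_eq_toFinset_card', ncard_hyps, hC] at hbi
  rw [hbi]
  refine Finset.dvd_sum fun A hA => ?_
  obtain ⟨B, hB, hAB, hPAB⟩ := (Finset.mem_filter.1 hA).2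
  refine dvd_of_eq ?_
  rw [← ncard_hyps_above (hAB.1.trans hB.1) (by have := hAB.2; have := hB.2; omega),
    Set.ncard_eq_toFinset_card']
  congr 1
  ext B'
  simp only [Finset.bipartiteBelow, Finset.mem_filter, Set.mem_toFinset, Set.mem_ofPred_eq]
  refine and_congr_right fun hB' => ⟨fun hle => ⟨⟨hle, ?_⟩, hP A B hB B' hB' hAB hle hPAB⟩,
    fun h => h.1.1⟩
  have := hAB.2; have := hB.2; have := hB'.2
  omega

/-- A regular space has a radical hyperplane. -/
theorem Setup.exists_radical {C : Submodule (ZMod 2) V} (hC : Reg H i C) :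
    (radSet H C).Nonempty := by
  classical
  rw [Set.nonempty_iff_ne_empty]
  intro hempty
  have hnone : ∀ C', Reg H i C' → ∀ B ∈ hyps C', ¬C' ≤ rad H B := by
    intro C' hC' B hB hle
    have h0 := S.ncard_radSet_eq hC' hC
    rw [hempty, Set.ncard_empty, Set.ncard_eq_zero (Set.toFinite _)] at h0
    exact (Set.eq_empty_iff_forall_notMem.1 h0) B ⟨hB, hle⟩
  obtain ⟨hd, B, hB, hn⟩ := hC
  have hBi : finrank (ZMod 2) B = i := by have := hB.2; omega
  obtain ⟨A, hA, -⟩ := S.asym B hBi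
  have hA1 : finrank (ZMod 2) A + 1 = i := hA.2.trans hBi
  have hf := S.finrank_rad hBi
  have hi2 := S.two_le
  obtain ⟨r, hr⟩ := S.odd
  have hlt := S.two_mul_lt hBi
  set F := levelAF S.trans S.two_le S.lt A hA1
  haveI : Fintype (V ⧸ A) := Fintype.ofFinite _
  have hdW : finrank (ZMod 2) (V ⧸ A) + i = finrank (ZMod 2) V + 1 :=
    finrank_quot_level S.trans S.two_le S.lt hA1
  have hcardW : Fintype.card (V ⧸ A) = 2 ^ finrank (ZMod 2) (V ⧸ A) := by
    rw [Module.card_eq_pow_finrank (K := ZMod 2) (V := V ⧸ A), ZMod.card]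
  have hbase : ∀ b, b ∉ A → A ∈ hyps (A ⊔ Submodule.span (ZMod 2) {b}) ∧
      finrank (ZMod 2) ↥(A ⊔ Submodule.span (ZMod 2) {b}) = i := fun b hb => by
    have := finrank_sup_singleton hb
    exact ⟨⟨le_sup_left, this.symm⟩, by omega⟩
  have hsfS : ∀ b, b ∉ A → finrank (ZMod 2) (F.S (A.mkQ b)) + finrank (ZMod 2) A =
      finrank (ZMod 2) (sf H A B) := fun b hb => by
    obtain ⟨hAb, hbi⟩ := hbase b hb
    rw [finrank_sf_eq S.trans S.two_le S.lt hA hBi hAb hbi,
      sf_eq_liftS S.trans S.two_le S.lt hAb hbi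
        (Submodule.mem_sup_right (Submodule.mem_span_singleton_self b)) hb,
      liftS_eq S.trans S.two_le S.lt hA1 hb]
    have hle : A ≤ (F.S (A.mkQ b)).comap A.mkQ := fun a ha => by
      rw [Submodule.mem_comap, show A.mkQ a = 0 from (Submodule.Quotient.mk_eq_zero A).2 ha]
      exact zero_mem _
    have h1 := finrank_map_mkQ A _ hle
    rwa [Submodule.map_comap_eq_of_surjective A.mkQ_surjective] at h1
  have hne0 : ∀ b, A.mkQ b ≠ 0 → b ∉ A := fun b h hb =>
    h ((Submodule.Quotient.mk_eq_zero A).2 hb)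
  rcases S.dichotomy hBi hA with hcase | ⟨hcase, hi3⟩
  · -- the points
    let X : V ⧸ A → Finset (V ⧸ A) := fun u =>
      (Finset.univ.filter fun w => w ∈ F.S u) \
        Finset.univ.filter fun w => w ∈ (rad H ((Submodule.span (ZMod 2) {u}).comap A.mkQ)).map A.mkQ
    have hcm : ∀ b, (Submodule.span (ZMod 2) {A.mkQ b}).comap A.mkQ =
        A ⊔ Submodule.span (ZMod 2) {b} := fun b => by
      rw [← Set.image_singleton (f := A.mkQ), ← Submodule.map_span, Submodule.comap_map_eq,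
        Submodule.ker_mkQ, sup_comm]
    have hXmem : ∀ b c, b ∉ A → (A.mkQ c ∈ X (A.mkQ b) ↔
        c ∈ sf H A (A ⊔ Submodule.span (ZMod 2) {b}) ∧
          c ∉ rad H (A ⊔ Submodule.span (ZMod 2) {b})) := by
      intro b c hb
      obtain ⟨hAb, hbi⟩ := hbase b hb
      rw [sf_eq_liftS S.trans S.two_le S.lt hAb hbi
          (Submodule.mem_sup_right (Submodule.mem_span_singleton_self b)) hb,
        liftS_eq S.trans S.two_le S.lt hA1 hb]
      simp only [X, Finset.mem_sdiff, Finset.mem_filter, Finset.mem_univ, true_and, hcm,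
        Submodule.mem_comap]
      refine and_congr_right fun _ => not_congr ?_
      rw [← Submodule.mem_comap, Submodule.comap_map_eq, Submodule.ker_mkQ,
        sup_eq_left.2 (hAb.1.trans (le_rad S.trans S.two_le S.lt hbi))]
    have hN : ∀ u, u ≠ 0 → (X u).card =
        2 ^ (finrank (ZMod 2) (sf H A B) - finrank (ZMod 2) A) -
          2 ^ (finrank (ZMod 2) (rad H B) - finrank (ZMod 2) A) := by
      intro u hu
      obtain ⟨b, rfl⟩ := A.mkQ_surjective u
      have hb := hne0 b hu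
      obtain ⟨hAb, hbi⟩ := hbase b hb
      have hle : A ≤ rad H (A ⊔ Submodule.span (ZMod 2) {b}) :=
        hAb.1.trans (le_rad S.trans S.two_le S.lt hbi)
      have hsub : (rad H (A ⊔ Submodule.span (ZMod 2) {b})).map A.mkQ ≤ F.S (A.mkQ b) := by
        rw [Submodule.map_le_iff_le_comap, ← liftS_eq S.trans S.two_le S.lt hA1 hb,
          ← sf_eq_liftS S.trans S.two_le S.lt hAb hbi
            (Submodule.mem_sup_right (Submodule.mem_span_singleton_self b)) hb]
        exact S.rad_le_sf hbi hAb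
      show ((Finset.univ.filter _) \ (Finset.univ.filter _)).card = _
      rw [Finset.card_sdiff_of_subset ?_, AF.card_filter_mem, AF.card_filter_mem, hcm]
      · have h1 := hsfS b hb
        have h2 := finrank_map_mkQ A _ hle
        have h3 := S.finrank_rad hbi
        congr 2 <;> omega
      · intro w hw
        rw [Finset.mem_filter, hcm] at hw
        exact Finset.mem_filter.2 ⟨Finset.mem_univ _, hsub hw.2⟩
    have hX : ∀ u w, u ≠ 0 → w ∈ X u → w ≠ 0 ∧ u + w ∈ X w := by
      intro u w hu hw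
      obtain ⟨b, rfl⟩ := A.mkQ_surjective u
      obtain ⟨c, rfl⟩ := A.mkQ_surjective w
      have hb := hne0 b hu
      obtain ⟨h1, h2⟩ := (hXmem b c hb).1 hw
      obtain ⟨hAb, hbi⟩ := hbase b hb
      obtain ⟨hcB, hBC, hreg, hnr⟩ := S.reg_sup hbi h2
      have hc : c ∉ A := fun h => hcB (le_sup_left (a := A) h)
      refine ⟨fun h => hc ((Submodule.Quotient.mk_eq_zero A).1 h), ?_⟩
      rw [← map_add, hXmem c (b + c) hc]
      obtain ⟨hAc, hci⟩ := hbase c hc
      set C' := A ⊔ Submodule.span (ZMod 2) {b} ⊔ Submodule.span (ZMod 2) {c}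
      have hbC : b ∈ C' :=
        Submodule.mem_sup_left (Submodule.mem_sup_right (Submodule.mem_span_singleton_self b))
      have hcC : c ∈ C' := Submodule.mem_sup_right (Submodule.mem_span_singleton_self c)
      have hBc : A ⊔ Submodule.span (ZMod 2) {c} ∈ hyps C' :=
        ⟨sup_le (le_sup_left.trans le_sup_left) le_sup_right, by rw [hreg.1, hci]⟩
      have hdeg : C' ≤ sf H A (A ⊔ Submodule.span (ZMod 2) {b}) :=
        sup_le (le_sf S.trans S.two_le S.lt hAb hbi)
          ((Submodule.span_singleton_le_iff_mem ..).2 h1)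
      refine ⟨S.deg_indep hreg.1 hBC hBc hAb le_sup_left hdeg (C'.add_mem hbC hcC),
        S.not_mem_rad hreg.1 hBc (hnone C' hreg _ hBc) (C'.add_mem hbC hcC) fun hm => hcB ?_⟩
      have hbc : b ∈ A ⊔ Submodule.span (ZMod 2) {c} :=
        (Submodule.add_mem_iff_left _ (Submodule.mem_sup_right
          (Submodule.mem_span_singleton_self c))).1 hm
      have he : A ⊔ Submodule.span (ZMod 2) {c} = A ⊔ Submodule.span (ZMod 2) {b} :=
        eq_sup_of_hyp hAc hbc hb
      exact he ▸ Submodule.mem_sup_right (Submodule.mem_span_singleton_self c)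
    have h3 := three_dvd_of_cyclic X _ hN hX
    rw [hcardW] at h3
    have h3' : 3 ∣ 2 ^ finrank (ZMod 2) (V ⧸ A) - 1 := by
      refine (Nat.Coprime.dvd_mul_right (n := 2 ^ (finrank (ZMod 2) (rad H B) -
        finrank (ZMod 2) A)) (Nat.Coprime.pow_right _ (by norm_num))).1 ?_
      rwa [show finrank (ZMod 2) (sf H A B) - finrank (ZMod 2) A =
        finrank (ZMod 2) (rad H B) - finrank (ZMod 2) A + 1 by omega, pow_succ, mul_two,
        Nat.add_sub_cancel] at h3
    obtain ⟨a, ha⟩ := even_of_three_dvd h3'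
    have hj := S.three_dvd_flags hd (fun A' B' => C ≤ sf H A' B')
      (fun A' B₁ h1 B₂ h2 hA' hle hP => S.deg_indep hd h1 h2 hA' hle hP) 1 (fun B' hB' => by
        have hBi' : finrank (ZMod 2) B' = i := by have := hB'.2; omega
        obtain ⟨A', hA', -⟩ := S.asym B' hBi'
        have h1 := S.ncard_deg hd hB' (hnone C ⟨hd, B, hB, hn⟩ B' hB') hA'
        rw [← finrank_sf_eq S.trans S.two_le S.lt hA hBi hA' hBi', hcase] at h1
        have h2 := S.finrank_rad hBi'
        rw [show finrank (ZMod 2) (rad H B) + 1 - finrank (ZMod 2) (rad H B') = 1 by omega] at h1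
        omega)
    rw [mul_one] at hj
    obtain ⟨a', ha'⟩ := even_of_three_dvd hj
    omega
  · -- the hyperplanes
    let X : V ⧸ A → Finset (V ⧸ A) := fun u => Finset.univ.filter fun w => w ∉ F.S u
    have hN : ∀ u, u ≠ 0 → (X u).card = 2 ^ (finrank (ZMod 2) (V ⧸ A) - 1) := by
      intro u hu
      obtain ⟨b, rfl⟩ := A.mkQ_surjective u
      show (Finset.univ.filter _).card = _
      rw [Finset.filter_not, Finset.card_univ_sdiff, AF.card_filter_mem, hcardW]
      have h1 := hsfS b (hne0 b hu)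
      obtain ⟨t, ht⟩ : ∃ t, finrank (ZMod 2) (V ⧸ A) = t + 1 :=
        ⟨finrank (ZMod 2) (V ⧸ A) - 1, by omega⟩
      rw [show finrank (ZMod 2) (F.S (A.mkQ b)) = t by omega, ht, pow_succ, mul_two,
        Nat.add_sub_cancel, Nat.add_sub_cancel]
    have hX : ∀ u w, u ≠ 0 → w ∈ X u → w ≠ 0 ∧ u + w ∈ X w := by
      intro u w hu hw
      rw [Finset.mem_filter] at hw
      refine ⟨F.ne_zero_of_not_mem hw.2, Finset.mem_filter.2 ⟨Finset.mem_univ _, fun hm => ?_⟩⟩
      exact F.not_mem_symm hw.2 ((Submodule.add_mem_iff_left _ (F.self_mem_S w)).1 hm)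
    have h3 := three_dvd_of_cyclic X _ hN hX
    rw [hcardW] at h3
    obtain ⟨a, ha⟩ := even_of_three_dvd
      ((Nat.Coprime.dvd_mul_right (Nat.Coprime.pow_right _ (by norm_num))).1 h3)
    have hj := S.three_dvd_flags hd (fun A' B' => ¬C ≤ sf H A' B')
      (fun A' B₁ h1 B₂ h2 hA' hle hP hP' => hP (S.deg_indep hd h2 h1
        ⟨hle, by have := hA'.2; have := h1.2; have := h2.2; omega⟩ hA'.1 hP'))
      (2 ^ (i - 1)) (fun B' hB' => by
        have hBi' : finrank (ZMod 2) B' = i := by have := hB'.2; omega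
        obtain ⟨A', hA', -⟩ := S.asym B' hBi'
        have h1 := S.ncard_deg hd hB' (hnone C ⟨hd, B, hB, hn⟩ B' hB') hA'
        have h2 := S.finrank_rad hBi'
        have h4 := finrank_sf_eq S.trans S.two_le S.lt hA hBi hA' hBi'
        rw [show finrank (ZMod 2) (sf H A' B') - finrank (ZMod 2) (rad H B') = i - 1 by omega] at h1
        have h5 : {A₁ ∈ hyps B' | ¬C ≤ sf H A₁ B'} = hyps B' \ {A₁ ∈ hyps B' | C ≤ sf H A₁ B'} := by
          ext A₁; simp +contextual
        rw [h5, Set.ncard_sdiff (Set.sep_subset _ _) (Set.toFinite _), ncard_hyps, hBi']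
        have h6 : 2 ^ i = 2 ^ (i - 1) * 2 := by rw [← pow_succ]; congr 1; omega
        omega)
    obtain ⟨a', ha'⟩ := even_of_three_dvd
      ((Nat.Coprime.dvd_mul_right (Nat.Coprime.pow_right _ (by norm_num))).1 hj)
    omega

theorem Setup.radSet_eq {C : Submodule (ZMod 2) V} (hC : Reg H i C) {B B' : Submodule (ZMod 2) V}
    (h : B ∈ radSet H C) (h' : B' ∈ radSet H C) : B = B' :=
  ((Set.ncard_le_one (Set.toFinite _)).1 (S.rad_le_one hC)) _ h _ h'

/-- The radical hyperplane cuts every other one in a degenerate space. -/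
theorem Setup.inter_deg {B B₀ C : Submodule (ZMod 2) V} (hC : finrank (ZMod 2) C = i + 1)
    (hB : B ∈ hyps C) (h : ¬C ≤ rad H B) (h₀ : B₀ ∈ radSet H C) :
    B ⊓ B₀ ∈ hyps B ∧ C ≤ sf H (B ⊓ B₀) B := by
  have hne : B ≠ B₀ := fun e => h (e ▸ h₀.2)
  refine ⟨inf_mem_hyps hB h₀.1 hne, ?_⟩
  refine S.deg_indep hC h₀.1 hB ?_ inf_le_left ?_
  · rw [inf_comm]; exact inf_mem_hyps h₀.1 hB (Ne.symm hne)
  · refine h₀.2.trans (S.rad_le_sf (by have := h₀.1.2; omega) ?_)
    rw [inf_comm]; exact inf_mem_hyps h₀.1 hB (Ne.symm hne)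

end Cfsg.Agent.TransLinTwo
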