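import Cfsg.Agent.Lib.Perm.TransLinTwo.AsymQ

/-!
# When the lifted subspace depends on the hyperplane

Then `V ⧸ rad H B` has dimension `i`, all its linear automorphisms are induced by the stabiliser of
`B`, and the lifted subspaces are the preimages of all its points or of all its hyperplanes.
-/

set_option autoImplicit false
set_option linter.unusedSectionVars false
set_option linter.style.haveILetI false

namespace Cfsg.Agent.TransLinTwo

open Module

variable {V : Type*} [AddCommGroup V] [Module (ZMod 2) V] [Finite V]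

/-- The hypotheses of the asymmetric case. -/
structure Setup (H : Subgroup (V ≃ₗ[ZMod 2] V)) (i : ℕ) : Prop where
  trans : TupleTrans H i
  two_le : 2 ≤ i
  lt : i < finrank (ZMod 2) V
  odd : Odd (finrank (ZMod 2) V)
  asym : ∀ B : Submodule (ZMod 2) V, finrank (ZMod 2) B = i →
    ∃ A ∈ hyps B, ∃ A' ∈ hyps B, sf H A B ≠ sf H A' B

theorem finrank_map_mkQ (F U : Submodule (ZMod 2) V) (h : F ≤ U) :
    finrank (ZMod 2) (U.map F.mkQ) + finrank (ZMod 2) F = finrank (ZMod 2) U := by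
  have h1 := LinearMap.finrank_range_add_finrank_ker (F.mkQ.comp U.subtype)
  have hr : LinearMap.range (F.mkQ.comp U.subtype) = U.map F.mkQ := by
    rw [LinearMap.range_comp, Submodule.range_subtype]
  have hk : finrank (ZMod 2) (LinearMap.ker (F.mkQ.comp U.subtype)) = finrank (ZMod 2) F := by
    rw [LinearMap.ker_comp, Submodule.ker_mkQ]
    exact (Submodule.comapSubtypeEquivOfLe h).finrank_eq
  rw [hr, hk] at h1
  exact h1

theorem count_arith {i e q k : ℕ} (he : 1 ≤ e) (heq : e < q) (hi : 1 ≤ i)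
    (h : k * (2 ^ q - 1) = (2 ^ i - 1) * (2 ^ e - 1)) : q ≤ i := by
  by_contra hq
  push Not at hq
  set m := min i e with hm
  have h2q : 2 ^ m ∣ 2 ^ q := Nat.pow_dvd_pow 2 (by omega)
  have h2i : 2 ^ m ∣ 2 ^ i := Nat.pow_dvd_pow 2 (by omega)
  have h2e : 2 ^ m ∣ 2 ^ e := Nat.pow_dvd_pow 2 (by omega)
  have p1 := Nat.one_le_two_pow (n := q)
  have p2 := Nat.one_le_two_pow (n := i)
  have p3 := Nat.one_le_two_pow (n := e)
  have p4 := Nat.one_le_two_pow (n := m)
  have hk : 2 ^ m ∣ k + 1 := by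
    rw [← Int.natCast_dvd_natCast] at h2q h2i h2e ⊢
    have e1 := congrArg (Nat.cast : ℕ → ℤ) h
    push_cast [Nat.cast_sub p1, Nat.cast_sub p2, Nat.cast_sub p3] at e1 h2q h2i h2e ⊢
    rw [show (k : ℤ) + 1 = k * 2 ^ q - 2 ^ i * 2 ^ e + 2 ^ i + 2 ^ e by linear_combination -e1]
    exact dvd_add (dvd_add (dvd_sub (h2q.mul_left _) (h2i.mul_right _)) h2i) h2e
  have hk' : 2 ^ m - 1 ≤ k := by
    have := Nat.le_of_dvd (by omega) hk
    omega
  set M := max i e with hM
  have h1 : (2 ^ i - 1) * (2 ^ e - 1) = (2 ^ m - 1) * (2 ^ M - 1) := by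
    rcases le_total i e with hle | hle
    · rw [hm, hM, min_eq_left hle, max_eq_right hle]
    · rw [hm, hM, min_eq_right hle, max_eq_left hle, mul_comm]
  have h2 : 2 ^ M < 2 ^ q := Nat.pow_lt_pow_right (by norm_num) (by omega)
  have h3 : 2 ≤ 2 ^ m := Nat.le_self_pow (by omega) 2
  have h4 : (2 ^ m - 1) * (2 ^ M - 1) < (2 ^ m - 1) * (2 ^ q - 1) := by
    refine Nat.mul_lt_mul_of_pos_left ?_ (by omega)
    have := Nat.one_le_two_pow (n := M)
    omega
  have h5 : (2 ^ m - 1) * (2 ^ q - 1) ≤ k * (2 ^ q - 1) := Nat.mul_le_mul_right _ hk'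
  omega

/-- The linear group of a smaller space is smaller. -/
theorem card_aut_lt {Q : Type*} [AddCommGroup Q] [Module (ZMod 2) Q] [Finite Q]
    (B : Submodule (ZMod 2) V) (h2 : 2 ≤ finrank (ZMod 2) B)
    (h : finrank (ZMod 2) Q < finrank (ZMod 2) B) :
    Nat.card (Q ≃ₗ[ZMod 2] Q) < Nat.card (B ≃ₗ[ZMod 2] B) := by
  classical
  haveI : Finite (B ≃ₗ[ZMod 2] B) := finite_lequiv
  let R := Fin (finrank (ZMod 2) B - finrank (ZMod 2) Q) → ZMod 2
  obtain ⟨φ⟩ := FiniteDimensional.nonempty_linearEquiv_of_finrank_eq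
    (show finrank (ZMod 2) (Q × R) = finrank (ZMod 2) B by
      rw [Module.finrank_prod, Module.finrank_fin_fun]; omega)
  let emb : (Q ≃ₗ[ZMod 2] Q) → (B ≃ₗ[ZMod 2] B) :=
    fun g => φ.symm.trans ((g.prodCongr (LinearEquiv.refl _ R)).trans φ)
  have hinj : Function.Injective emb := by
    intro g g' hgg
    refine LinearEquiv.ext fun x => ?_
    have := LinearEquiv.congr_fun hgg (φ (x, 0))
    simpa [emb, LinearEquiv.prodCongr_apply] using this
  let r : B := φ (0, fun _ => 1)
  have hr : r ≠ 0 := fun h0 => by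
    have h1 := congrArg Prod.snd ((φ.map_eq_zero_iff).1 h0)
    exact one_ne_zero (congrFun h1 ⟨0, by omega⟩)
  obtain ⟨r', hr'0, hr'⟩ : ∃ r' : B, r' ≠ 0 ∧ r' ≠ r := by
    let b := Module.finBasis (ZMod 2) B
    by_cases h0 : b ⟨0, by omega⟩ = r
    · exact ⟨b ⟨1, by omega⟩, b.ne_zero _,
        fun h1 => by simpa [Fin.ext_iff] using b.injective (h1.trans h0.symm)⟩
    · exact ⟨b ⟨0, by omega⟩, b.ne_zero _, h0⟩
  obtain ⟨g, hg, hgr⟩ := exists_fix_map (⊥ : Submodule (ZMod 2) B) (z := r) (w := r')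
    (by simpa using hr) (by simpa using hr'0)
  refine lt_of_le_of_ne (Nat.card_le_card_of_injective emb hinj) fun he => ?_
  obtain ⟨g₀, hg₀⟩ := ((Nat.bijective_iff_injective_and_card emb).2 ⟨hinj, he⟩).2 g
  refine hr' ?_
  rw [← hgr, ← hg₀]
  simp [emb, r, LinearEquiv.prodCongr_apply]

variable {H : Subgroup (V ≃ₗ[ZMod 2] V)} {i : ℕ} (S : Setup H i) {B : Submodule (ZMod 2) V}
  (hB : finrank (ZMod 2) B = i)

include S hB

theorem Setup.sf_inj {A A' : Submodule (ZMod 2) V} (hA : A ∈ hyps B) (hA' : A' ∈ hyps B)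
    (h : sf H A B = sf H A' B) : A = A' := by
  by_contra hne
  obtain ⟨A₁, h1, A₂, h2, h12⟩ := S.asym B hB
  refine h12 ?_
  obtain ⟨g, hg, hgB, rfl, rfl⟩ := pair_trans S.trans S.two_le S.lt hB hB hA hA' hne h1 h2
    (fun e => h12 (by rw [e]))
  conv_lhs => rw [← hgB]
  conv_rhs => rw [← hgB]
  rw [← sf_map S.trans S.two_le S.lt hA hB hg, ← sf_map S.trans S.two_le S.lt hA' hB hg, h]

theorem Setup.rad_le_sf {A : Submodule (ZMod 2) V} (hA : A ∈ hyps B) : rad H B ≤ sf H A B :=
  fun _ hz => mem_rad.1 hz A hA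

theorem Setup.rad_lt_sf {A : Submodule (ZMod 2) V} (hA : A ∈ hyps B) :
    finrank (ZMod 2) (rad H B) < finrank (ZMod 2) (sf H A B) := by
  refine lt_of_le_of_ne (Submodule.finrank_mono (S.rad_le_sf hB hA)) fun he => ?_
  obtain ⟨A₁, h1, A₂, h2, h12⟩ := S.asym B hB
  have e1 := finrank_sf_eq S.trans S.two_le S.lt hA hB h1 hB
  have e2 := finrank_sf_eq S.trans S.two_le S.lt hA hB h2 hB
  rw [← Submodule.eq_of_le_of_finrank_eq (S.rad_le_sf hB h1) (he.trans e1),
    ← Submodule.eq_of_le_of_finrank_eq (S.rad_le_sf hB h2) (he.trans e2)] at h12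
  exact h12 rfl

theorem Setup.sf_lt {A : Submodule (ZMod 2) V} (hA : A ∈ hyps B) :
    finrank (ZMod 2) (sf H A B) < finrank (ZMod 2) V :=
  Submodule.finrank_lt (sf_ne_top S.trans S.two_le S.lt hA hB)

/-- Each vector outside the radical lies in equally many lifted subspaces. -/
theorem Setup.count_raw {A : Submodule (ZMod 2) V} (hA : A ∈ hyps B) {c : V}
    (hc : c ∉ rad H B) :
    {A' ∈ hyps B | c ∈ sf H A' B}.ncard * (2 ^ finrank (ZMod 2) V - 2 ^ finrank (ZMod 2) (rad H B)) =
      (2 ^ i - 1) *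
        (2 ^ finrank (ZMod 2) (sf H A B) - 2 ^ finrank (ZMod 2) (rad H B)) := by
  classical
  haveI : Fintype V := Fintype.ofFinite V
  haveI : Fintype (Submodule (ZMod 2) V) := Fintype.ofFinite _
  have hk : ∀ c', c' ∉ rad H B → {A' ∈ hyps B | c' ∈ sf H A' B}.ncard =
      {A' ∈ hyps B | c ∈ sf H A' B}.ncard := by
    have key : ∀ {u w : V}, u ∉ rad H B → w ∉ rad H B →
        {A' ∈ hyps B | u ∈ sf H A' B}.ncard ≤ {A' ∈ hyps B | w ∈ sf H A' B}.ncard := by
      intro u w hu hw
      obtain ⟨h, hh, hhB, e⟩ := rad_link S.trans S.two_le S.lt hB hu hw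
      refine Set.ncard_le_ncard_of_injOn (fun A' => A'.map h.toLinearMap) ?_
        (Submodule.map_injective_of_injective h.injective).injOn (Set.toFinite _)
      rintro A' ⟨hA', hu'⟩
      have hA'' := hyps_map h hA'
      rw [hhB] at hA''
      refine ⟨hA'', ?_⟩
      have h1 := (mem_sf_map_iff S.trans S.two_le S.lt hB hh hA').2 hu'
      rw [hhB] at h1
      have h2 := le_sf S.trans S.two_le S.lt hA'' hB e
      have h3 := Submodule.add_mem _ h1 h2
      rwa [← add_assoc, add_self, zero_add] at h3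
    exact fun c' hc' => le_antisymm (key hc' hc) (key hc hc')
  have hbi := Finset.sum_card_bipartiteAbove_eq_sum_card_bipartiteBelow
    (fun z (A' : Submodule (ZMod 2) V) => z ∈ sf H A' B)
    (s := Finset.univ.filter fun z => z ∉ rad H B) (t := (hyps B).toFinset)
  rw [Finset.sum_congr rfl (g := fun _ => {A' ∈ hyps B | c ∈ sf H A' B}.ncard) (fun z hz => by
      rw [Finset.mem_filter] at hz
      rw [← hk z hz.2, Set.ncard_eq_toFinset_card']
      congr 1
      ext A'
      simp [Finset.bipartiteAbove]),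
    Finset.sum_const, smul_eq_mul,
    Finset.sum_congr rfl (g := fun _ => 2 ^ finrank (ZMod 2) (sf H A B) -
      2 ^ finrank (ZMod 2) (rad H B)) (fun A' hA' => by
      rw [Set.mem_toFinset] at hA'
      rw [finrank_sf_eq S.trans S.two_le S.lt hA hB hA' hB, ← AF.card_filter_mem, ← AF.card_filter_mem,
        ← Finset.card_sdiff_of_subset (Finset.monotone_filter_right _
          fun z _ hz => S.rad_le_sf hB hA' hz)]
      congr 1
      ext z
      simp [Finset.bipartiteBelow, and_comm]),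
    Finset.sum_const, smul_eq_mul, ← Set.ncard_eq_toFinset_card', ncard_hyps, hB,
    Finset.filter_not, Finset.card_univ_sdiff, AF.card_filter_mem,
    Module.card_eq_pow_finrank (K := ZMod 2) (V := V), ZMod.card] at hbi
  rw [mul_comm]
  exact hbi

theorem Setup.finrank_rad_le : finrank (ZMod 2) V ≤ finrank (ZMod 2) (rad H B) + i := by
  obtain ⟨A, hA, -⟩ := S.asym B hB
  have h1 := S.rad_lt_sf hB hA
  have h2 := S.sf_lt hB hA
  obtain ⟨c, hc⟩ : ∃ c, c ∉ rad H B := by
    by_contra h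
    push Not at h
    have := Submodule.finrank_mono
      (show (⊤ : Submodule (ZMod 2) V) ≤ rad H B from fun z _ => h z)
    rw [finrank_top] at this
    omega
  have hcnt := S.count_raw hB hA hc
  set f := finrank (ZMod 2) (rad H B)
  obtain ⟨e, he⟩ := Nat.exists_eq_add_of_le h1.le
  obtain ⟨q, hq⟩ := Nat.exists_eq_add_of_le (show f ≤ finrank (ZMod 2) V by omega)
  rw [he, hq, pow_add, pow_add, ← Nat.mul_sub_one, ← Nat.mul_sub_one, mul_left_comm,
    mul_left_comm _ (2 ^ f)] at hcnt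
  have := count_arith (i := i) (e := e) (q := q) (by omega) (by omega)
    (by have := S.two_le; omega) (Nat.eq_of_mul_eq_mul_left (Nat.two_pow_pos f) hcnt)
  omega

/-- Choices of lifts realise the whole linear group of `B` injectively on the quotient. -/
theorem Setup.exists_embedding :
    ∃ Φ : (B ≃ₗ[ZMod 2] B) → ((V ⧸ rad H B) ≃ₗ[ZMod 2] (V ⧸ rad H B)), Function.Injective Φ ∧
      ∀ g, ∃ h ∈ H, B.map h.toLinearMap = B ∧
        ∀ z, Φ g ((rad H B).mkQ z) = (rad H B).mkQ (h z) := by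
  have hl := fun g => exists_lift S.trans S.lt B hB g
  choose h hh hhB hx using hl
  have hF : ∀ g, (rad H B).map (h g).toLinearMap = rad H B := fun g => map_eq_of_le fun z hz => by
    have := (mem_rad_map_iff S.trans S.two_le S.lt hB (hh g)).2 hz
    rwa [hhB g] at this
  refine ⟨fun g => Submodule.Quotient.equiv (rad H B) (rad H B) (h g) (hF g), ?_,
    fun g => ⟨h g, hh g, hhB g, fun z => rfl⟩⟩
  intro g g' hgg
  have hcong : ∀ z, h g z + h g' z ∈ rad H B := fun z => by
    rw [← sub_eq_add']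
    exact (Submodule.Quotient.eq _).1 (LinearEquiv.congr_fun hgg ((rad H B).mkQ z))
  have hAA : ∀ A ∈ hyps B, A.map (h g).toLinearMap = A.map (h g').toLinearMap := by
    intro A hA
    have m1 := hyps_map (h g) hA
    have m2 := hyps_map (h g') hA
    rw [hhB g] at m1
    rw [hhB g'] at m2
    refine S.sf_inj hB m1 m2 ?_
    conv_lhs => rw [← hhB g, ← sf_map S.trans S.two_le S.lt hA hB (hh g)]
    conv_rhs => rw [← hhB g', ← sf_map S.trans S.two_le S.lt hA hB (hh g')]
    refine Submodule.eq_of_le_of_finrank_eq ?_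
      (by rw [LinearEquiv.finrank_map_eq, LinearEquiv.finrank_map_eq])
    rintro _ ⟨z, hz, rfl⟩
    have h1 : rad H B ≤ (sf H A B).map (h g').toLinearMap := by
      rw [← hF g']
      exact Submodule.map_mono (S.rad_le_sf hB hA)
    have h2 := Submodule.add_mem _ (h1 (hcong z)) (Submodule.mem_map_of_mem (f := (h g').toLinearMap) hz)
    rwa [show h g z + h g' z + (h g').toLinearMap z = h g z by
      rw [LinearEquiv.coe_coe, add_assoc, add_self, add_zero]] at h2
  refine LinearEquiv.ext fun x => Subtype.ext ?_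
  by_contra hne
  rw [← hx g x, ← hx g' x] at hne
  have hx0 : h g x ≠ 0 := fun h0 => hne (by
    rw [h0, (h g).map_eq_zero_iff.1 h0, map_zero])
  obtain ⟨A, hA, hw, hz⟩ := exists_hyp_sep (B := B) (z := h g x) (w := h g' x)
    ((apply_mem_iff (hhB g)).2 x.2) ((apply_mem_iff (hhB g')).2 x.2) hx0 (Ne.symm hne)
  have hA' : A.map ((h g')⁻¹ : V ≃ₗ[ZMod 2] V).toLinearMap ∈ hyps B := by
    have := hyps_map (h g')⁻¹ hA
    rwa [show B.map ((h g')⁻¹ : V ≃ₗ[ZMod 2] V).toLinearMap = B by
      conv_lhs => rw [← hhB g']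
      exact map_map_inv _ _] at this
  have hxm : (x : V) ∈ A.map ((h g')⁻¹ : V ≃ₗ[ZMod 2] V).toLinearMap :=
    ⟨h g' x, hw, (h g').symm_apply_apply x⟩
  have := Submodule.mem_map_of_mem (f := (h g).toLinearMap) hxm
  rw [hAA _ hA', map_inv_map] at this
  exact hz this

theorem Setup.finrank_rad : finrank (ZMod 2) (rad H B) + i = finrank (ZMod 2) V := by
  refine le_antisymm ?_ (S.finrank_rad_le hB)
  by_contra hlt
  push Not at hlt
  obtain ⟨Φ, hΦ, -⟩ := S.exists_embedding hB
  have h1 := Submodule.finrank_quotient_add_finrank (rad H B)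
  have h2 := card_aut_lt (Q := V ⧸ rad H B) B (hB ▸ S.two_le) (by omega)
  have h3 := Nat.card_le_card_of_injective Φ hΦ
  omega

theorem Setup.two_mul_lt : 2 * i < finrank (ZMod 2) V := by
  have h1 := Submodule.finrank_mono (le_rad S.trans S.two_le S.lt hB)
  have h2 := S.finrank_rad hB
  obtain ⟨k, hk⟩ := S.odd
  omega

/-- Every automorphism of the quotient is induced. -/
theorem Setup.induced (γ : (V ⧸ rad H B) ≃ₗ[ZMod 2] (V ⧸ rad H B)) :
    ∃ h ∈ H, B.map h.toLinearMap = B ∧ ∀ z, (rad H B).mkQ (h z) = γ ((rad H B).mkQ z) := by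
  obtain ⟨Φ, hΦ, hl⟩ := S.exists_embedding hB
  obtain ⟨φ⟩ := FiniteDimensional.nonempty_linearEquiv_of_finrank_eq
    (show finrank (ZMod 2) (V ⧸ rad H B) = finrank (ZMod 2) B by
      have := Submodule.finrank_quotient_add_finrank (rad H B)
      have := S.finrank_rad hB
      omega)
  obtain ⟨g, rfl⟩ := ((Nat.bijective_iff_injective_and_card Φ).2
    ⟨hΦ, Nat.card_congr
      { toFun := fun g => φ.trans (g.trans φ.symm)
        invFun := fun γ => φ.symm.trans (γ.trans φ)
        left_inv := fun g => by ext x; simp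
        right_inv := fun γ => by ext x; simp }⟩).2 γ
  obtain ⟨h, hh, hhB, e⟩ := hl g
  exact ⟨h, hh, hhB, fun z => (e z).symm⟩

/-- Every subspace above the radical of the common dimension is a lifted subspace. -/
theorem Setup.exists_sf {A U : Submodule (ZMod 2) V} (hA : A ∈ hyps B) (hU : rad H B ≤ U)
    (hd : finrank (ZMod 2) U = finrank (ZMod 2) (sf H A B)) :
    ∃ A' ∈ hyps B, sf H A' B = U := by
  set F := rad H B
  let bP := Module.finBasis (ZMod 2) ↥((sf H A B).map F.mkQ)
  let bU := Module.finBasisOfFinrankEq (ZMod 2) ↥(U.map F.mkQ)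
    (show _ = finrank (ZMod 2) ↥((sf H A B).map F.mkQ) by
      have := finrank_map_mkQ F U hU
      have := finrank_map_mkQ F (sf H A B) (S.rad_le_sf hB hA)
      omega)
  obtain ⟨γ, hγ⟩ := exists_map_tuple (x := ((sf H A B).map F.mkQ).subtype ∘ bP)
    (y := (U.map F.mkQ).subtype ∘ bU) (bP.linearIndependent.map' _ (Submodule.ker_subtype _))
    (bU.linearIndependent.map' _ (Submodule.ker_subtype _))
  obtain ⟨h, hh, hhB, e⟩ := S.induced hB γ
  have hA' := hyps_map h hA
  rw [hhB] at hA'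
  refine ⟨_, hA', ?_⟩
  have hm := sf_map S.trans S.two_le S.lt hA hB hh
  rw [hhB] at hm
  rw [← hm]
  refine Submodule.eq_of_le_of_finrank_eq ?_ (by rw [LinearEquiv.finrank_map_eq, hd])
  rintro _ ⟨z, hz, rfl⟩
  have hγle : ((sf H A B).map F.mkQ).map γ.toLinearMap ≤ U.map F.mkQ := by
    rw [← Submodule.range_subtype ((sf H A B).map F.mkQ), LinearMap.range_eq_map, ← bP.span_eq,
      Submodule.map_span, Submodule.map_span, Submodule.span_le]
    rintro _ ⟨_, ⟨_, ⟨k, rfl⟩, rfl⟩, rfl⟩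
    rw [SetLike.mem_coe, LinearEquiv.coe_coe,
      show γ (((sf H A B).map F.mkQ).subtype (bP k)) = (bU k : V ⧸ F) from hγ k]
    exact (bU k).2
  obtain ⟨u, hu, hue⟩ := hγle (Submodule.mem_map_of_mem (f := γ.toLinearMap)
    (Submodule.mem_map_of_mem (f := F.mkQ) hz))
  rw [LinearEquiv.coe_coe, ← e, Submodule.mkQ_apply, Submodule.mkQ_apply,
    Submodule.Quotient.eq, sub_eq_add'] at hue
  have := U.add_mem hu (hU hue)
  rwa [← add_assoc, add_self, zero_add] at this

/-- The lifted subspaces are preimages of points or of hyperplanes. -/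
theorem Setup.dichotomy {A : Submodule (ZMod 2) V} (hA : A ∈ hyps B) :
    finrank (ZMod 2) (sf H A B) = finrank (ZMod 2) (rad H B) + 1 ∨
      (finrank (ZMod 2) (sf H A B) + 1 = finrank (ZMod 2) V ∧ 3 ≤ i) := by
  have h1 := S.rad_lt_sf hB hA
  have h2 := S.sf_lt hB hA
  have h3 := S.finrank_rad hB
  set F := rad H B
  obtain ⟨e, he⟩ := Nat.exists_eq_add_of_le h1.le
  by_contra hcon
  push Not at hcon
  have he1 : 2 ≤ e := by omega
  have he2 : e + 2 ≤ i := by
    rcases Nat.lt_or_ge (e + 1) i with h | h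
    · omega
    · exact absurd (show 3 ≤ i by omega) (Nat.not_le.2 (hcon.2 (by omega)))
  let b := Module.finBasisOfFinrankEq (ZMod 2) (V ⧸ F) (show _ = i by
    have := Submodule.finrank_quotient_add_finrank F
    omega)
  let v : ℕ → V ⧸ F := fun k => if h : k < i then b ⟨k, h⟩ else 0
  have hspan : ∀ s : Finset ℕ, s ⊆ Finset.range i →
      finrank (ZMod 2) (Submodule.span (ZMod 2) (v '' (s : Set ℕ))) = s.card := by
    intro s hs
    have hli : LinearIndependent (ZMod 2) (fun k : s => v k) := by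
      have := b.linearIndependent.comp (fun k : s => (⟨k, Finset.mem_range.1 (hs k.2)⟩ : Fin i))
        (fun k k' h => Subtype.ext (congrArg Fin.val h))
      convert this using 1
      funext k
      simp [v, Finset.mem_range.1 (hs k.2)]
    have := finrank_span_eq_card hli
    rw [Fintype.card_coe] at this
    rw [show v '' (s : Set ℕ) = Set.range (fun k : s => v k) from Set.ext fun z => by simp]
    exact this
  let P : ℕ → Submodule (ZMod 2) (V ⧸ F) := fun j =>
    Submodule.span (ZMod 2) (v '' (Finset.Ico j (j + e) : Set ℕ))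
  have hsub : ∀ j, j ≤ i - e → Finset.Ico j (j + e) ⊆ Finset.range i := fun j hj k hk => by
    simp only [Finset.mem_Ico] at hk
    simp only [Finset.mem_range]
    omega
  have hPj : ∀ j, j ≤ i - e → ∃ A' ∈ hyps B, (sf H A' B).map F.mkQ = P j := by
    intro j hj
    have hle : F ≤ (P j).comap F.mkQ := fun z hz => by
      rw [Submodule.mem_comap, show F.mkQ z = 0 from (Submodule.Quotient.mk_eq_zero F).2 hz]
      exact zero_mem _
    have hm := Submodule.map_comap_eq_of_surjective F.mkQ_surjective (P j)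
    obtain ⟨A', hA', e'⟩ := S.exists_sf hB hA hle (by
      have := finrank_map_mkQ F _ hle
      rw [hm, hspan _ (hsub j hj), Nat.card_Ico] at this
      omega)
    exact ⟨A', hA', by rw [e', hm]⟩
  obtain ⟨A₀, hA0, p0⟩ := hPj 0 (by omega)
  obtain ⟨A₁, hA1, p1⟩ := hPj 1 (by omega)
  obtain ⟨A₂, hA2, p2⟩ := hPj 2 (by omega)
  have hsup : ∀ j, 1 ≤ j → j ≤ e → j ≤ i - e →
      finrank (ZMod 2) ↥(P 0 ⊔ P j) = e + j := by
    intro j hj hje hj'
    show finrank (ZMod 2) ↥(Submodule.span (ZMod 2) (v '' _) ⊔ Submodule.span (ZMod 2) (v '' _)) = _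
    rw [← Submodule.span_union, ← Set.image_union, ← Finset.coe_union, hspan _ (Finset.union_subset
      (hsub 0 (by omega)) (hsub j hj')), Finset.Ico_union_Ico' (by omega) (by omega), Nat.card_Ico]
    omega
  have hne : ∀ j, 1 ≤ j → j ≤ e → j ≤ i - e → P 0 ≠ P j := fun j a b c h => by
    have := hsup j a b c
    rw [← h, sup_idem, hspan _ (hsub 0 (by omega)), Nat.card_Ico] at this
    omega
  obtain ⟨g, hg, hgB, g0, g1⟩ := pair_trans S.trans S.two_le S.lt hB hB hA0 hA1
    (fun h => hne 1 le_rfl (by omega) (by omega) (by rw [← p0, ← p1, h]))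
    hA0 hA2 (fun h => hne 2 (by omega) (by omega) (by omega) (by rw [← p0, ← p2, h]))
  have m0 := sf_map S.trans S.two_le S.lt hA0 hB hg
  have m1 := sf_map S.trans S.two_le S.lt hA1 hB hg
  rw [hgB, g0] at m0
  rw [hgB, g1] at m1
  have hlt1 := hsup 1 le_rfl (by omega) (by omega)
  have hlt2 := hsup 2 (by omega) (by omega) (by omega)
  rw [← p0, ← p1, ← Submodule.map_sup] at hlt1
  rw [← p0, ← p2, ← Submodule.map_sup] at hlt2
  have f1 := finrank_map_mkQ F (sf H A₀ B ⊔ sf H A₁ B) ((S.rad_le_sf hB hA0).trans le_sup_left)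
  have f2 := finrank_map_mkQ F (sf H A₀ B ⊔ sf H A₂ B) ((S.rad_le_sf hB hA0).trans le_sup_left)
  have f3 : finrank (ZMod 2) ↥(sf H A₀ B ⊔ sf H A₂ B) =
      finrank (ZMod 2) ↥(sf H A₀ B ⊔ sf H A₁ B) := by
    rw [← LinearEquiv.finrank_map_eq g (sf H A₀ B ⊔ sf H A₁ B), Submodule.map_sup, m0, m1]
  omega

/-- The number of lifted subspaces through a vector outside the radical. -/
theorem Setup.card_through {A : Submodule (ZMod 2) V} (hA : A ∈ hyps B) {c : V}
    (hc : c ∉ rad H B) :
    {A' ∈ hyps B | c ∈ sf H A' B}.ncard + 1 =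
      2 ^ (finrank (ZMod 2) (sf H A B) - finrank (ZMod 2) (rad H B)) := by
  have h := S.count_raw hB hA hc
  set f := finrank (ZMod 2) (rad H B) with hf
  have hlt := S.rad_lt_sf hB hA
  obtain ⟨e, he⟩ := Nat.exists_eq_add_of_le (le_of_lt hlt)
  rw [← S.finrank_rad hB, he, ← hf, pow_add, pow_add, ← Nat.mul_sub_one, ← Nat.mul_sub_one,
    mul_left_comm, mul_left_comm _ (2 ^ f), mul_comm _ (2 ^ i - 1)] at h
  have h2 : 4 ≤ 2 ^ i := (show 2 ^ 2 = 4 by norm_num) ▸ Nat.pow_le_pow_right (by norm_num) S.two_le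
  have h3 := Nat.eq_of_mul_eq_mul_left (show 0 < 2 ^ i - 1 by omega)
    (Nat.eq_of_mul_eq_mul_left (Nat.two_pow_pos f) h)
  rw [h3, he, ← hf, Nat.add_sub_cancel_left]
  have := Nat.one_le_two_pow (n := e)
  omega

end Cfsg.Agent.TransLinTwo
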