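import Cfsg.Agent.Lib.Perm.TransLinTwo.AsymPoly
import Mathlib.NumberTheory.Fermat

/-!
# Independence of the hyperplane, apart from dimension five
-/

set_option autoImplicit false
set_option linter.unusedSectionVars false

namespace Cfsg.Agent.TransLinTwo

open Module

variable {V : Type*} [AddCommGroup V] [Module (ZMod 2) V] [Finite V]
  {H : Subgroup (V ≃ₗ[ZMod 2] V)} {i : ℕ}

/-- The asymmetric case in dimension at least seven. -/
theorem Setup.false_of_large (S : Setup H i) (hp : (2 ^ finrank (ZMod 2) V - 1).Prime)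
    (hne : ¬(i = 2 ∧ finrank (ZMod 2) V = 5)) (hn5 : 5 ≤ finrank (ZMod 2) V) : False := by
  obtain ⟨B₀, hB₀⟩ : ∃ B : Submodule (ZMod 2) V, finrank (ZMod 2) B = i := by
    let b := Module.finBasis (ZMod 2) V
    exact ⟨Submodule.span (ZMod 2) (Set.range fun k : Fin i => b (Fin.castLE S.lt.le k)),
      (finrank_span_eq_card (b.linearIndependent.comp (Fin.castLE S.lt.le)
        (Fin.castLE_injective S.lt.le))).trans (Fintype.card_fin _)⟩
  obtain ⟨A₀, hA₀, -⟩ := S.asym B₀ hB₀
  rcases S.dichotomy hB₀ hA₀ with h | ⟨h, hi3⟩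
  · have hlt := S.two_mul_lt hB₀
    have hi2 := S.two_le
    obtain ⟨j, rfl⟩ : ∃ j, i = j + 1 := ⟨i - 1, by omega⟩
    refine S.false_point (fun B hB A hA => ?_) hp ?_
    · have := finrank_sf_eq S.trans S.two_le S.lt hA hB hA₀ hB₀
      have := S.finrank_rad hB
      have := S.finrank_rad hB₀
      omega
    · by_contra hcon
      refine hne ⟨by omega, ?_⟩
      omega
  · exact S.false_hyper hB₀ hA₀ h hi3

/-- The lifted subspace is independent of the hyperplane, given the case of dimension five. -/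
theorem liftIndep_of (hT : TupleTrans H i) (hi2 : 2 ≤ i) (hi : i < finrank (ZMod 2) V)
    (hn5 : 5 ≤ finrank (ZMod 2) V) (hp : (2 ^ finrank (ZMod 2) V - 1).Prime)
    (hsmall : Setup H i → i = 2 → finrank (ZMod 2) V = 5 → False) : LiftIndep H i := by
  intro A A' B hA hA' hB hAB hA'B b b' hb hbA hb' hbA'
  have h1 : A ∈ hyps B := ⟨hAB, by omega⟩
  have h2 : A' ∈ hyps B := ⟨hA'B, by omega⟩
  rw [← sf_eq_liftS hT hi2 hi h1 hB hb hbA, ← sf_eq_liftS hT hi2 hi h2 hB hb' hbA']
  by_contra hne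
  have hodd : Odd (finrank (ZMod 2) V) :=
    (Nat.prime_of_pow_sub_one_prime (by omega) hp).2.odd_of_ne_two (by omega)
  have S : Setup H i := by
    refine ⟨hT, hi2, hi, hodd, fun B' hB' => ?_⟩
    obtain ⟨c, hc, hcA⟩ := exists_mem_not_mem (show finrank (ZMod 2) A < finrank (ZMod 2) B by omega)
    obtain ⟨A₁, hA₁B⟩ : ∃ A₁, A₁ ∈ hyps B' := by
      have h := ncard_hyps B'
      rw [hB'] at h
      obtain ⟨A₁, hA₁⟩ := (Set.ncard_pos (Set.toFinite _)).1 (show 0 < (hyps B').ncard by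
        have : 2 ^ 1 ≤ 2 ^ i := Nat.pow_le_pow_right (by norm_num) (by omega)
        omega)
      exact ⟨A₁, hA₁⟩
    obtain ⟨c', hc', hcA'⟩ := exists_mem_not_mem
      (show finrank (ZMod 2) A₁ < finrank (ZMod 2) B' by have := hA₁B.2; omega)
    obtain ⟨g, hg, hgA, hgc⟩ := flag_trans hT hi hA (hA₁B.2.trans hB') hcA hcA'
    have hgB : B.map g.toLinearMap = B' := by
      rw [eq_sup_of_hyp h1 hc hcA, map_sup_singleton, hgA, hgc, ← eq_sup_of_hyp hA₁B hc' hcA']
    have m2 := hyps_map g h2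
    rw [hgB] at m2
    refine ⟨A₁, hA₁B, A'.map g.toLinearMap, m2, fun e => hne ?_⟩
    refine Submodule.map_injective_of_injective (f := g.toLinearMap) g.injective ?_
    rw [sf_map hT hi2 hi h1 hB hg, sf_map hT hi2 hi h2 hB hg, hgA, hgB, e]
  by_cases h : i = 2 ∧ finrank (ZMod 2) V = 5
  · exact hsmall S h.1 h.2
  · exact S.false_of_large hp h hn5

end Cfsg.Agent.TransLinTwo
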