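import Cfsg.Agent.Lib.Perm.TransLinTwo.AsymCount
import Cfsg.Agent.Lib.Perm.TransLinTwo.Degree

/-!
# Neither the hyperplanes nor, in large dimension, the points occur

If the lifted subspaces are preimages of hyperplanes, the point where the radical hyperplane cuts
`B` splits a coset of the radical into an odd number of equal parts.  If they are preimages of
points, "the first vector is outside the radical hyperplane of the span" is an invariant function
of degree at most `i + 3`.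
-/

set_option autoImplicit false
set_option linter.unusedSectionVars false
set_option linter.style.haveILetI false

namespace Cfsg.Agent.TransLinTwo

open Module

variable {V : Type*} [AddCommGroup V] [Module (ZMod 2) V] [Finite V]

/-- The radical hyperplane of a regular space. -/
noncomputable def rad0 (H : Subgroup (V ≃ₗ[ZMod 2] V)) (C : Submodule (ZMod 2) V) :
    Submodule (ZMod 2) V :=
  sSup (radSet H C)

variable {H : Subgroup (V ≃ₗ[ZMod 2] V)} {i : ℕ} (S : Setup H i)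

include S

theorem Setup.rad0_eq {C B : Submodule (ZMod 2) V} (hC : Reg H i C) (hB : B ∈ radSet H C) :
    rad0 H C = B := by
  rw [rad0, show radSet H C = {B} from
    Set.eq_singleton_iff_unique_mem.2 ⟨hB, fun B' h' => S.radSet_eq hC h' hB⟩, sSup_singleton]

theorem Setup.rad0_mem {C : Submodule (ZMod 2) V} (hC : Reg H i C) :
    rad0 H C ∈ radSet H C := by
  obtain ⟨B, hB⟩ := S.exists_radical hC
  rwa [S.rad0_eq hC hB]

theorem Setup.reg_map {g : V ≃ₗ[ZMod 2] V} (hg : g ∈ H) {C : Submodule (ZMod 2) V}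
    (hC : Reg H i C) : Reg H i (C.map g.toLinearMap) := by
  obtain ⟨hd, B, hB, hn⟩ := hC
  refine ⟨by rw [LinearEquiv.finrank_map_eq, hd], _, hyps_map g hB, fun h => hn fun z hz => ?_⟩
  exact (mem_rad_map_iff S.trans S.two_le S.lt (by have := hB.2; omega) hg).1
    (h (Submodule.mem_map_of_mem hz))

theorem Setup.rad0_map {g : V ≃ₗ[ZMod 2] V} (hg : g ∈ H) {C : Submodule (ZMod 2) V}
    (hC : Reg H i C) : rad0 H (C.map g.toLinearMap) = (rad0 H C).map g.toLinearMap :=
  S.rad0_eq (S.reg_map hg hC) (S.radSet_map hg hC.1 (S.rad0_mem hC))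

/-- The lifted subspaces are not preimages of hyperplanes. -/
theorem Setup.false_hyper {B A : Submodule (ZMod 2) V} (hB : finrank (ZMod 2) B = i)
    (hA : A ∈ hyps B) (hs : finrank (ZMod 2) (sf H A B) + 1 = finrank (ZMod 2) V)
    (hi3 : 3 ≤ i) : False := by
  classical
  haveI : Fintype V := Fintype.ofFinite V
  haveI : Fintype (Submodule (ZMod 2) V) := Fintype.ofFinite _
  set F := rad H B
  have hF : finrank (ZMod 2) F + i = finrank (ZMod 2) V := S.finrank_rad hB
  obtain ⟨c₀, -, hc₀⟩ := exists_mem_not_mem (A := F) (B := (⊤ : Submodule (ZMod 2) V))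
    (by rw [finrank_top]; omega)
  set K : Finset (Submodule (ZMod 2) V) :=
    (Finset.univ.filter fun A' => A' ∈ hyps B ∧ c₀ ∈ sf H A' B)
  have hK : K.card + 1 = 2 ^ (i - 1) := by
    rw [show i - 1 = finrank (ZMod 2) (sf H A B) - finrank (ZMod 2) F by omega,
      ← S.card_through hB hA hc₀, Set.ncard_eq_toFinset_card']
    congr 2
    ext A'
    simp [K]
  let Φ : Finset V := Finset.univ.filter fun c => c + c₀ ∈ F
  have hΦ : Φ.card = 2 ^ finrank (ZMod 2) F := by
    rw [← AF.card_filter_mem]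
    refine Finset.card_bij' (fun c _ => c + c₀) (fun c _ => c + c₀) ?_ ?_ ?_ ?_
    · intro c hc; simpa [Φ] using hc
    · intro c hc
      simp only [Finset.mem_filter, Finset.mem_univ, true_and, Φ] at hc ⊢
      rwa [add_assoc, add_self, add_zero]
    · intro c _; rw [add_assoc, add_self, add_zero]
    · intro c _; rw [add_assoc, add_self, add_zero]
  let star : V → Submodule (ZMod 2) V := fun c => B ⊓ rad0 H (B ⊔ Submodule.span (ZMod 2) {c})
  have hoff : ∀ c ∈ Φ, c ∉ F := by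
    intro c hc hcF
    refine hc₀ ?_
    have := F.add_mem hcF (Finset.mem_filter.1 hc).2
    rwa [← add_assoc, add_self, zero_add] at this
  have hstar : ∀ c ∈ Φ, star c ∈ K := by
    intro c hc
    obtain ⟨hcB, hh, hreg, hn⟩ := S.reg_sup hB (hoff c hc)
    obtain ⟨h1, h2⟩ := S.inter_deg hreg.1 hh hn (S.rad0_mem hreg)
    refine Finset.mem_filter.2 ⟨Finset.mem_univ _, h1, ?_⟩
    have h3 := Submodule.add_mem _
      (h2 (Submodule.mem_sup_right (Submodule.mem_span_singleton_self c)))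
      (S.rad_le_sf hB h1 (Finset.mem_filter.1 hc).2)
    rwa [← add_assoc, add_self, zero_add] at h3
  have heq : ∀ A₁ ∈ K, ∀ A₂ ∈ K,
      (Φ.filter fun c => star c = A₁).card ≤ (Φ.filter fun c => star c = A₂).card := by
    intro A₁ h1 A₂ h2
    simp only [K, Finset.mem_filter, Finset.mem_univ, true_and] at h1 h2
    set U₁ := sf H A₁ B
    set U₂ := sf H A₂ B
    obtain ⟨z, hz1, hz2⟩ := exists_not_mem_two (sf_ne_top S.trans S.two_le S.lt h1.1 hB)
      (sf_ne_top S.trans S.two_le S.lt h2.1 hB)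
    obtain ⟨φ₁, hφ1, hk1⟩ := Submodule.exists_le_ker_of_notMem hz1
    obtain ⟨φ₂, hφ2, hk2⟩ := Submodule.exists_le_ker_of_notMem hz2
    have hz : (φ₁ + φ₂) z = 0 := by
      rw [LinearMap.add_apply, (zmod2_cases _).resolve_left hφ1, (zmod2_cases _).resolve_left hφ2]
      rfl
    set τ := LinearEquiv.transvection (f := φ₁ + φ₂) (v := z) hz
    have hτ : ∀ x, τ x = x + (φ₁ + φ₂) x • z := fun x => LinearEquiv.transvection.apply hz x
    have hτfix : ∀ x, x ∈ U₁ → x ∈ U₂ → τ x = x := fun x a b => by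
      rw [hτ, LinearMap.add_apply, show φ₁ x = 0 from hk1 a, show φ₂ x = 0 from hk2 b, add_zero,
        zero_smul, add_zero]
    have hτU : ∀ x ∈ U₁, τ x ∈ U₂ := by
      intro x hx
      have hker : LinearMap.ker φ₂ = U₂ := by
        refine (Submodule.eq_of_le_of_finrank_le hk2 ?_).symm
        have h3 : finrank (ZMod 2) (LinearMap.ker φ₂) < finrank (ZMod 2) V :=
          Submodule.finrank_lt fun h => hφ2 (by
            have : z ∈ LinearMap.ker φ₂ := h ▸ trivial
            exact this)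
        have h4 := finrank_sf_eq S.trans S.two_le S.lt hA hB h2.1 hB
        omega
      rw [← hker, LinearMap.mem_ker, hτ, map_add, map_smul, (zmod2_cases _).resolve_left hφ2,
        smul_eq_mul, mul_one, LinearMap.add_apply, show φ₁ x = 0 from hk1 hx, zero_add, add_self]
    have hτF : F.map τ.toLinearMap = F := map_eq_of_le fun x hx =>
      (hτfix x (S.rad_le_sf hB h1.1 hx) (S.rad_le_sf hB h2.1 hx)).symm ▸ hx
    obtain ⟨h, hh, hhB, e⟩ := S.induced hB (Submodule.Quotient.equiv F F τ hτF)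
    have he : ∀ x, h x + τ x ∈ F := fun x => by
      rw [← sub_eq_add']
      exact (Submodule.Quotient.eq F).1 (e x)
    have hA12 : A₁.map h.toLinearMap = A₂ := by
      have hA' := hyps_map h h1.1
      rw [hhB] at hA'
      refine S.sf_inj hB hA' h2.1 ?_
      have hm := sf_map S.trans S.two_le S.lt h1.1 hB hh
      rw [hhB] at hm
      rw [← hm]
      refine Submodule.eq_of_le_of_finrank_eq ?_ (by
        rw [LinearEquiv.finrank_map_eq, finrank_sf_eq S.trans S.two_le S.lt h1.1 hB h2.1 hB])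
      rintro _ ⟨x, hx, rfl⟩
      have h3 := U₂.add_mem (S.rad_le_sf hB h2.1 (he x)) (hτU x hx)
      rwa [add_assoc, add_self, add_zero] at h3
    refine Finset.card_le_card_of_injOn (fun c => h c) ?_ h.injective.injOn
    intro c hc
    simp only [Finset.coe_filter, Set.mem_ofPred_eq] at hc ⊢
    obtain ⟨hcΦ, hcA⟩ := hc
    have hmem : h c + c₀ ∈ F := by
      have h3 : h (c + c₀) ∈ F := by
        have := (mem_rad_map_iff S.trans S.two_le S.lt hB hh).2 (Finset.mem_filter.1 hcΦ).2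
        rwa [hhB] at this
      have h4 := F.add_mem h3 (he c₀)
      rwa [hτfix c₀ h1.2 h2.2, map_add, add_assoc, ← add_assoc (h c₀) (h c₀), add_self,
        zero_add] at h4
    refine ⟨Finset.mem_filter.2 ⟨Finset.mem_univ _, hmem⟩, ?_⟩
    show B ⊓ rad0 H (B ⊔ Submodule.span (ZMod 2) {h c}) = A₂
    conv_lhs => rw [← hhB]
    rw [← map_sup_singleton, S.rad0_map hh (S.reg_sup hB (hoff c hcΦ)).2.2.1,
      ← Submodule.map_inf h.toLinearMap h.injective, show B ⊓ _ = A₁ from hcA, hA12]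
  obtain ⟨A₁, hA1⟩ := Finset.card_pos.1 (show 0 < K.card by
    have h4 : 2 ^ 2 ≤ 2 ^ (i - 1) := Nat.pow_le_pow_right (by norm_num) (by omega)
    omega)
  have hsum : Φ.card = K.card * (Φ.filter fun c => star c = A₁).card := by
    rw [Finset.card_eq_sum_card_fiberwise (t := K) hstar, Finset.sum_congr rfl fun A₂ hA2 =>
      le_antisymm (heq A₂ hA2 A₁ hA1) (heq A₁ hA1 A₂ hA2), Finset.sum_const, smul_eq_mul]
  have hdvd : K.card ∣ 2 ^ finrank (ZMod 2) F * 1 := by
    rw [mul_one, ← hΦ, hsum]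
    exact dvd_mul_right _ _
  have hodd : Odd K.card := by
    rw [show K.card = 2 ^ (i - 1) - 1 by omega]
    exact Nat.Even.sub_odd Nat.one_le_two_pow ((Nat.even_pow' (by omega)).2 even_two) odd_one
  have h1 := Nat.eq_one_of_dvd_one ((Nat.Coprime.dvd_mul_left
    (Nat.Coprime.pow_right _ hodd.coprime_two_right)).1 hdvd)
  have h4 : 2 ^ 2 ≤ 2 ^ (i - 1) := Nat.pow_le_pow_right (by norm_num) (by omega)
  omega

section Point

variable {B : Submodule (ZMod 2) V} (hB : finrank (ZMod 2) B = i)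
  (hs : ∀ A ∈ hyps B, finrank (ZMod 2) (sf H A B) = finrank (ZMod 2) (rad H B) + 1)

include hB hs

/-- Each lifted subspace has only one nonzero class modulo the radical. -/
theorem Setup.point_two {A : Submodule (ZMod 2) V} (hA : A ∈ hyps B) {c c' : V}
    (hc : c ∈ sf H A B) (hc' : c' ∈ sf H A B) (h : c ∉ rad H B) (h' : c' ∉ rad H B) :
    c + c' ∈ rad H B := by
  have he : sf H A B = rad H B ⊔ Submodule.span (ZMod 2) {c} :=
    eq_sup_of_hyp (A := rad H B) ⟨S.rad_le_sf hB hA, (hs A hA).symm⟩ hc h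
  rw [he] at hc'
  obtain ⟨r, hr, w, hw, rfl⟩ := Submodule.mem_sup.1 hc'
  obtain ⟨k, rfl⟩ := Submodule.mem_span_singleton.1 hw
  rcases zmod2_cases k with rfl | rfl
  · exact absurd (by simpa using hr) h'
  · rwa [one_smul, add_comm r c, ← add_assoc, add_self, zero_add]

/-- The hyperplane of each class. -/
theorem Setup.exists_point {c : V} (hc : c ∉ rad H B) :
    ∃ A ∈ hyps B, c ∈ sf H A B ∧ ∀ A' ∈ hyps B, c ∈ sf H A' B → A' = A := by
  obtain ⟨A₀, hA₀, -⟩ := S.asym B hB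
  have h := S.card_through hB hA₀ hc
  rw [hs A₀ hA₀, Nat.add_sub_cancel_left] at h
  obtain ⟨A, hA⟩ := Set.ncard_eq_one.1 (show {A' ∈ hyps B | c ∈ sf H A' B}.ncard = 1 by omega)
  have hm : A ∈ {A' ∈ hyps B | c ∈ sf H A' B} := hA ▸ rfl
  exact ⟨A, hm.1, hm.2, fun A' a b => (Set.ext_iff.1 hA A').1 ⟨a, b⟩⟩

/-- The hyperplanes of three collinear classes are collinear. -/
theorem Setup.point_add {c₁ c₂ : V} (h1 : c₁ ∉ rad H B) (h2 : c₂ ∉ rad H B)
    (h3 : c₁ + c₂ ∉ rad H B) {A₁ A₂ A₃ : Submodule (ZMod 2) V} (hA1 : A₁ ∈ hyps B)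
    (hA2 : A₂ ∈ hyps B) (hA3 : A₃ ∈ hyps B) (m1 : c₁ ∈ sf H A₁ B) (m2 : c₂ ∈ sf H A₂ B)
    (m3 : c₁ + c₂ ∈ sf H A₃ B) {x : V} (hx : x ∈ B) :
    (x ∉ A₁ → x ∉ A₂ → x ∈ A₃) ∧ (x ∈ A₁ → x ∈ A₂ → x ∈ A₃) ∧
      (x ∈ A₁ → x ∉ A₂ → x ∉ A₃) ∧ (x ∉ A₁ → x ∈ A₂ → x ∉ A₃) := by
  have n12 : A₁ ≠ A₂ := fun e => h3 (S.point_two hB hs hA1 m1 (e ▸ m2) h1 h2)
  have n13 : A₁ ≠ A₃ := fun e => h2 (by
    have := S.point_two hB hs hA1 m1 (e ▸ m3) h1 h3
    rwa [← add_assoc, add_self, zero_add] at this)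
  have n23 : A₂ ≠ A₃ := fun e => h1 (by
    have := S.point_two hB hs hA2 m2 (e ▸ m3) h2 h3
    rwa [add_comm c₁ c₂, ← add_assoc, add_self, zero_add] at this)
  have hI : A₁ ⊓ A₂ ≤ A₃ := by
    intro z hz
    by_contra hz3
    obtain ⟨y, hy, hy0⟩ := A₃.exists_mem_ne_zero_of_ne_bot (fun e => by
      have := hA3.2; rw [e, finrank_bot] at this; have := S.two_le; omega)
    have hyz : y ∉ Submodule.span (ZMod 2) {z} := by
      intro hm
      obtain ⟨k, rfl⟩ := Submodule.mem_span_singleton.1 hm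
      rcases zmod2_cases k with rfl | rfl
      · exact hy0 (zero_smul _ _)
      · exact hz3 (by simpa using hy)
    obtain ⟨f, hf, hfz⟩ := Submodule.exists_le_ker_of_notMem hyz
    have hfz0 : f z = 0 := hfz (Submodule.mem_span_singleton_self z)
    set τ := LinearEquiv.transvection (f := f) (v := z) hfz0
    have hτ : ∀ w, τ w = w + f w • z := fun w => LinearEquiv.transvection.apply hfz0 w
    obtain ⟨h, hh, hhτ⟩ := S.trans.agree S.lt.le τ B hB.le
    have hstab : ∀ U : Submodule (ZMod 2) V, U ≤ B → z ∈ U → U.map h.toLinearMap = U :=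
      fun U hU hzU => map_eq_of_le fun u hu => by
        rw [hhτ u (hU hu), hτ]
        exact U.add_mem hu (U.smul_mem _ hzU)
    have hhB := hstab B le_rfl (hA1.1 hz.1)
    have hsf : ∀ (A : Submodule (ZMod 2) V) (c : V), A ∈ hyps B → c ∈ sf H A B → c ∉ rad H B →
        A.map h.toLinearMap = A → h c + c ∈ rad H B := by
      intro A c hA hc hcr hAA
      refine S.point_two hB hs hA ?_ hc ?_ hcr
      · have := (mem_sf_map_iff S.trans S.two_le S.lt hB hh hA).2 hc
        rwa [hhB, hAA] at this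
      · intro hr
        rw [← hhB] at hr
        exact hcr ((mem_rad_map_iff S.trans S.two_le S.lt hB hh).1 hr)
    have e1 := hsf A₁ c₁ hA1 m1 h1 (hstab A₁ hA1.1 hz.1)
    have e2 := hsf A₂ c₂ hA2 m2 h2 (hstab A₂ hA2.1 hz.2)
    have e3 : h (c₁ + c₂) + (c₁ + c₂) ∈ rad H B := by
      rw [map_add, add_add_add_comm]
      exact Submodule.add_mem _ e1 e2
    have hA3' := hyps_map h hA3
    rw [hhB] at hA3'
    obtain ⟨A', -, -, huniq⟩ := S.exists_point hB hs h3
    have hm : c₁ + c₂ ∈ sf H (A₃.map h.toLinearMap) B := by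
      have h4 := (mem_sf_map_iff S.trans S.two_le S.lt hB hh hA3).2 m3
      rw [hhB] at h4
      have h5 := Submodule.add_mem _ h4 (S.rad_le_sf hB hA3' e3)
      rwa [← add_assoc, add_self, zero_add] at h5
    have hfix : A₃.map h.toLinearMap = A₃ :=
      (huniq _ hA3' hm).trans (huniq _ hA3 m3).symm
    have hhy := (apply_mem_iff hfix).2 hy
    rw [hhτ y (hA3.1 hy), hτ, (zmod2_cases (f y)).resolve_left hf, one_smul] at hhy
    exact hz3 ((Submodule.add_mem_iff_right _ hy).1 hhy)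
  -- the sum of two vectors outside a hyperplane lies in it
  have hout : ∀ A ∈ hyps B, ∀ u v : V, u ∈ B → v ∈ B → u ∉ A → v ∉ A → u + v ∈ A := by
    intro A hA u v hu hv huA hvA
    have hv' : v ∈ A ⊔ Submodule.span (ZMod 2) {u} := eq_sup_of_hyp hA hu huA ▸ hv
    obtain ⟨a, ha, w, hw, rfl⟩ := Submodule.mem_sup.1 hv'
    obtain ⟨k, rfl⟩ := Submodule.mem_span_singleton.1 hw
    rcases zmod2_cases k with rfl | rfl
    · exact absurd (by simpa using ha) hvA
    · rwa [one_smul, add_comm a u, ← add_assoc, add_self, zero_add]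
  have hd12 : finrank (ZMod 2) ↥(A₁ ⊓ A₂) + 1 = finrank (ZMod 2) A₁ :=
    (inf_mem_hyps hA1 hA2 n12).2
  have hd13 : A₁ ⊓ A₃ = A₁ ⊓ A₂ := (Submodule.eq_of_le_of_finrank_eq
    (le_inf inf_le_left hI) (by have := (inf_mem_hyps hA1 hA3 n13).2; omega)).symm
  have hd23 : A₂ ⊓ A₃ = A₁ ⊓ A₂ := (Submodule.eq_of_le_of_finrank_eq
    (le_inf inf_le_right hI) (by
      have := (inf_mem_hyps hA2 hA3 n23).2; have := hA1.2; have := hA2.2; omega)).symm
  refine ⟨fun a b => ?_, fun a b => hI ⟨a, b⟩,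
    fun a b c => b (hd13 ▸ (show x ∈ A₁ ⊓ A₃ from ⟨a, c⟩) : x ∈ A₁ ⊓ A₂).2,
    fun a b c => a (hd23 ▸ (show x ∈ A₂ ⊓ A₃ from ⟨b, c⟩) : x ∈ A₁ ⊓ A₂).1⟩
  by_contra hx3
  obtain ⟨u, hu, hu2⟩ : ∃ u ∈ A₁, u ∉ A₂ := by
    by_contra hno
    push Not at hno
    exact n12 (Submodule.eq_of_le_of_finrank_eq hno (by have := hA1.2; have := hA2.2; omega))
  have hu3 : u ∉ A₃ := fun c => hu2 (hd13 ▸ (show u ∈ A₁ ⊓ A₃ from ⟨hu, c⟩) : u ∈ A₁ ⊓ A₂).2
  have h4 : x + u ∈ A₁ ⊓ A₂ :=
    hd23 ▸ ⟨hout A₂ hA2 x u hx (hA1.1 hu) b hu2, hout A₃ hA3 x u hx (hA1.1 hu) hx3 hu3⟩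
  exact a ((Submodule.add_mem_iff_left _ hu).1 h4.1)

end Point

omit S in
theorem two_out {C B₀ : Submodule (ZMod 2) V} (hB₀ : B₀ ∈ hyps C) {a b : V} (ha : a ∈ C)
    (hb : b ∈ C) (ha' : a ∉ B₀) (hb' : b ∉ B₀) : a + b ∈ B₀ := by
  have hm : b ∈ B₀ ⊔ Submodule.span (ZMod 2) {a} := eq_sup_of_hyp hB₀ ha ha' ▸ hb
  obtain ⟨r, hr, w, hw, rfl⟩ := Submodule.mem_sup.1 hm
  obtain ⟨k, rfl⟩ := Submodule.mem_span_singleton.1 hw
  rcases zmod2_cases k with rfl | rfl
  · exact absurd (by simpa using hr) hb'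
  · rwa [one_smul, add_comm r a, ← add_assoc, add_self, zero_add]

end Cfsg.Agent.TransLinTwo
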