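import Cfsg.Agent.Lib.Perm.TransLinTwo.AsymPoint

/-!
# The points do not occur in large dimension

The indicator of "the first vector lies outside the radical hyperplane of the span" is additive in
every other position and has degree at most three in the first one, and is invariant under an
element of order `2 ^ n - 1`.
-/

set_option autoImplicit false
set_option linter.unusedSectionVars false
set_option linter.style.haveILetI false

namespace Cfsg.Agent.TransLinTwo

open Module

variable {V : Type*} [AddCommGroup V] [Module (ZMod 2) V] [Finite V]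

open Classical in
/-- One when `a` lies outside the radical hyperplane of the regular space `C`. -/
noncomputable def outInd (H : Subgroup (V ≃ₗ[ZMod 2] V)) (i : ℕ) (a : V)
    (C : Submodule (ZMod 2) V) : ZMod 2 :=
  if Reg H i C ∧ a ∉ rad0 H C then 1 else 0

/-- The indicator on tuples. -/
noncomputable def radPoly (H : Subgroup (V ≃ₗ[ZMod 2] V)) (j : ℕ) (x : Fin (j + 1 + 1) → V) :
    ZMod 2 :=
  outInd H (j + 1) (x 0) (Submodule.span (ZMod 2) (Set.range x))

variable {H : Subgroup (V ≃ₗ[ZMod 2] V)} {j : ℕ}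

theorem outInd_one {i : ℕ} {a : V} {C : Submodule (ZMod 2) V} (h : Reg H i C ∧ a ∉ rad0 H C) :
    outInd H i a C = 1 := by rw [outInd, if_pos h]

theorem outInd_zero {i : ℕ} {a : V} {C : Submodule (ZMod 2) V}
    (h : ¬(Reg H i C ∧ a ∉ rad0 H C)) : outInd H i a C = 0 := by rw [outInd, if_neg h]

theorem exists_singer_of_prime (i : ℕ) (hT : TupleTrans H i) (hi1 : 1 ≤ i) (hi : i ≤ finrank (ZMod 2) V)
    (hp : (2 ^ finrank (ZMod 2) V - 1).Prime) :
    ∃ g ∈ H, orderOf g = 2 ^ finrank (ZMod 2) V - 1 := by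
  classical
  haveI : Fintype V := Fintype.ofFinite V
  haveI : Fact (2 ^ finrank (ZMod 2) V - 1).Prime := ⟨hp⟩
  haveI : Nontrivial V := Module.finrank_pos_iff.1 (by omega : 0 < finrank (ZMod 2) V)
  obtain ⟨v, hv⟩ := exists_ne (0 : V)
  have horb : MulAction.orbit H v = ({0}ᶜ : Set V) := by
    ext w
    constructor
    · rintro ⟨h, rfl⟩ h0
      exact hv ((LinearEquiv.map_eq_zero_iff (h : V ≃ₗ[ZMod 2] V)).1 h0)
    · intro hw
      obtain ⟨h, hh, -, hvw⟩ := hT.trans_off hi ⊥ (by rw [finrank_bot]; omega)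
        (show v ∉ (⊥ : Submodule (ZMod 2) V) by simpa using hv)
        (show w ∉ (⊥ : Submodule (ZMod 2) V) by simpa using hw)
      exact ⟨⟨h, hh⟩, hvw⟩
  have hdvd : 2 ^ finrank (ZMod 2) V - 1 ∣ Nat.card H := by
    rw [← Nat.card_congr (MulAction.orbitProdStabilizerEquivGroup H v), Nat.card_prod, horb,
      Nat.card_coe_set_eq, Set.ncard_compl, Set.ncard_singleton,
      Module.natCard_eq_pow_finrank (K := ZMod 2) (V := V), Nat.card_zmod]
    exact dvd_mul_right _ _
  obtain ⟨g, hg⟩ := exists_prime_orderOf_dvd_card' (2 ^ finrank (ZMod 2) V - 1) hdvd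
  exact ⟨g, g.2, by rw [Subgroup.orderOf_coe, hg]⟩

variable (S : Setup H (j + 1))
  (hs : ∀ B : Submodule (ZMod 2) V, finrank (ZMod 2) B = j + 1 → ∀ A ∈ hyps B,
    finrank (ZMod 2) (sf H A B) = finrank (ZMod 2) (rad H B) + 1)

include S hs

/-- The indicator as a function of the last vector. -/
theorem Setup.outInd_last {B : Submodule (ZMod 2) V} (hB : finrank (ZMod 2) B = j + 1) {a : V}
    (ha : a ∈ B) (c : V) :
    outInd H (j + 1) a (B ⊔ Submodule.span (ZMod 2) {c}) = 1 ↔
      c ∉ rad H B ∧ ∀ A ∈ hyps B, c ∈ sf H A B → a ∉ A := by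
  by_cases hc : c ∈ rad H B
  · have hz : ¬(Reg H (j + 1) (B ⊔ Submodule.span (ZMod 2) {c}) ∧
        a ∉ rad0 H (B ⊔ Submodule.span (ZMod 2) {c})) := by
      rintro ⟨hreg, ha'⟩
      have hBh : B ∈ hyps (B ⊔ Submodule.span (ZMod 2) {c}) :=
        ⟨le_sup_left, by rw [hreg.1, hB]⟩
      have hmem : B ∈ radSet H (B ⊔ Submodule.span (ZMod 2) {c}) :=
        ⟨hBh, sup_le (le_rad S.trans S.two_le S.lt hB)
          ((Submodule.span_singleton_le_iff_mem ..).2 hc)⟩
      rw [S.rad0_eq hreg hmem] at ha'
      exact ha' ha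
    rw [outInd_zero hz]
    simp [hc]
  · obtain ⟨hcB, hBh, hreg, hn⟩ := S.reg_sup hB hc
    obtain ⟨hI, hdeg⟩ := S.inter_deg hreg.1 hBh hn (S.rad0_mem hreg)
    obtain ⟨A₁, hA₁, m₁, huniq⟩ := S.exists_point hB (hs B hB) hc
    have hA : B ⊓ rad0 H (B ⊔ Submodule.span (ZMod 2) {c}) = A₁ :=
      huniq _ hI (hdeg (Submodule.mem_sup_right (Submodule.mem_span_singleton_self c)))
    constructor
    · intro h1
      by_cases h : Reg H (j + 1) (B ⊔ Submodule.span (ZMod 2) {c}) ∧
        a ∉ rad0 H (B ⊔ Submodule.span (ZMod 2) {c})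
      · exact ⟨hc, fun A hA' hm hAa => h.2 (by
          rw [huniq A hA' hm, ← hA] at hAa
          exact hAa.2)⟩
      · rw [outInd_zero h] at h1
        exact absurd h1 zero_ne_one
    · rintro ⟨-, h⟩
      refine outInd_one ⟨hreg, fun h0 => h A₁ hA₁ m₁ ?_⟩
      rw [← hA]
      exact ⟨ha, h0⟩

theorem Setup.outInd_add {B : Submodule (ZMod 2) V} (hB : finrank (ZMod 2) B = j + 1) {a : V}
    (ha : a ∈ B) (c c' : V) :
    outInd H (j + 1) a (B ⊔ Submodule.span (ZMod 2) {c + c'}) =
      outInd H (j + 1) a (B ⊔ Submodule.span (ZMod 2) {c}) +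
        outInd H (j + 1) a (B ⊔ Submodule.span (ZMod 2) {c'}) := by
  classical
  have hval : ∀ c, ∀ A ∈ hyps B, c ∈ sf H A B → c ∉ rad H B →
      outInd H (j + 1) a (B ⊔ Submodule.span (ZMod 2) {c}) = if a ∈ A then 0 else 1 := by
    intro c A hA hm hc
    obtain ⟨A₁, hA₁, m₁, huniq⟩ := S.exists_point hB (hs B hB) hc
    split_ifs with h
    · refine (zmod2_cases _).resolve_right fun h1 => ?_
      exact ((S.outInd_last hs hB ha c).1 h1).2 A hA hm h
    · refine (S.outInd_last hs hB ha c).2 ⟨hc, fun A' hA' hm' => ?_⟩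
      rwa [huniq A' hA' hm', ← huniq A hA hm]
  have hzero : ∀ c, c ∈ rad H B →
      outInd H (j + 1) a (B ⊔ Submodule.span (ZMod 2) {c}) = 0 := fun c hc =>
    (zmod2_cases _).resolve_right fun h1 => ((S.outInd_last hs hB ha c).1 h1).1 hc
  by_cases h1 : c ∈ rad H B
  · by_cases h2 : c' ∈ rad H B
    · rw [hzero c h1, hzero c' h2, hzero _ (Submodule.add_mem _ h1 h2), add_zero]
    · obtain ⟨A, hA, hm, -⟩ := S.exists_point hB (hs B hB) h2
      rw [hzero c h1, zero_add, hval c' A hA hm h2,
        hval _ A hA (Submodule.add_mem _ (S.rad_le_sf hB hA h1) hm)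
          (fun h => h2 ((Submodule.add_mem_iff_right _ h1).1 h))]
  · obtain ⟨A₁, hA₁, m₁, -⟩ := S.exists_point hB (hs B hB) h1
    by_cases h2 : c' ∈ rad H B
    · rw [hzero c' h2, add_zero, hval c A₁ hA₁ m₁ h1,
        hval _ A₁ hA₁ (Submodule.add_mem _ m₁ (S.rad_le_sf hB hA₁ h2))
          (fun h => h1 ((Submodule.add_mem_iff_left _ h2).1 h))]
    · obtain ⟨A₂, hA₂, m₂, -⟩ := S.exists_point hB (hs B hB) h2
      by_cases h3 : c + c' ∈ rad H B
      · have : c' ∈ sf H A₁ B := by
          have := Submodule.add_mem _ m₁ (S.rad_le_sf hB hA₁ h3)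
          rwa [← add_assoc, add_self, zero_add] at this
        rw [hzero _ h3, hval c A₁ hA₁ m₁ h1, hval c' A₁ hA₁ this h2, CharTwo.add_self_eq_zero]
      · obtain ⟨A₃, hA₃, m₃, -⟩ := S.exists_point hB (hs B hB) h3
        rw [hval c A₁ hA₁ m₁ h1, hval c' A₂ hA₂ m₂ h2, hval _ A₃ hA₃ m₃ h3]
        obtain ⟨q₁, q₂, q₃, q₄⟩ :=
          S.point_add hB (hs B hB) h1 h2 h3 hA₁ hA₂ hA₃ m₁ m₂ m₃ ha
        by_cases a1 : a ∈ A₁ <;> by_cases a2 : a ∈ A₂
        · rw [if_pos a1, if_pos a2, if_pos (q₂ a1 a2), add_zero]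
        · rw [if_pos a1, if_neg a2, if_neg (q₃ a1 a2), zero_add]
        · rw [if_neg a1, if_pos a2, if_neg (q₄ a1 a2), add_zero]
        · rw [if_neg a1, if_neg a2, if_pos (q₁ a1 a2), CharTwo.add_self_eq_zero]

theorem Setup.radPoly_snoc_add (y : Fin (j + 1) → V) (c c' : V) :
    radPoly H j (Fin.snoc y (c + c')) =
      radPoly H j (Fin.snoc y c) + radPoly H j (Fin.snoc y c') := by
  have hz : ∀ c : V, (Fin.snoc y c : Fin (j + 1 + 1) → V) 0 = y 0 := fun c => by
    rw [show (0 : Fin (j + 1 + 1)) = (0 : Fin (j + 1)).castSucc from rfl, Fin.snoc_castSucc]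
  simp only [radPoly, hz, Fin.range_snoc, Submodule.span_insert]
  simp only [sup_comm _ (Submodule.span (ZMod 2) (Set.range y))]
  set B := Submodule.span (ZMod 2) (Set.range y)
  by_cases hB : finrank (ZMod 2) B = j + 1
  · exact S.outInd_add hs hB (Submodule.subset_span ⟨0, rfl⟩) c c'
  · have hle : finrank (ZMod 2) B ≤ j + 1 :=
      (finrank_range_le_card y).trans (Fintype.card_fin _).le
    have h0 : ∀ d, outInd H (j + 1) (y 0) (B ⊔ Submodule.span (ZMod 2) {d}) = 0 := by
      intro d
      refine outInd_zero fun h => hB ?_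
      have h1 := h.1.1
      by_cases hd : d ∈ B
      · rw [sup_eq_left.2 ((Submodule.span_singleton_le_iff_mem ..).2 hd)] at h1
        omega
      · rw [finrank_sup_singleton hd] at h1
        omega
    rw [h0, h0, h0, add_zero]

omit S hs in
theorem radPoly_perm (x : Fin (j + 1 + 1) → V) (π : Equiv.Perm (Fin (j + 1 + 1))) (h : π 0 = 0) :
    radPoly H j (x ∘ π) = radPoly H j x := by
  simp only [radPoly, Function.comp_apply, h, π.surjective.range_comp]

theorem Setup.radPoly_update_add (x : Fin (j + 1 + 1) → V) {k : Fin (j + 1 + 1)} (hk : k ≠ 0)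
    (v w : V) :
    radPoly H j (Function.update x k (v + w)) =
      radPoly H j (Function.update x k v) + radPoly H j (Function.update x k w) := by
  set π := Equiv.swap k (Fin.last (j + 1))
  have hπ : π 0 = 0 := Equiv.swap_apply_of_ne_of_ne (Ne.symm hk) (by
    intro h
    have := congrArg Fin.val h
    simp at this)
  have key : ∀ v, radPoly H j (Function.update x k v) =
      radPoly H j (Fin.snoc (Fin.init (x ∘ π)) v) := by
    intro v
    rw [← radPoly_perm (Function.update x k v) π hπ]
    congr 1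
    funext l
    induction l using Fin.lastCases with
    | last => simp [π]
    | cast l =>
      have hne : π l.castSucc ≠ k := by
        intro h
        have h' := congrArg π h
        simp only [π, Equiv.swap_apply_self, Equiv.swap_apply_left] at h'
        exact (Fin.castSucc_lt_last l).ne h'
      simp [hne, Fin.init]
  rw [key, key, key]
  exact S.radPoly_snoc_add hs _ v w

theorem Setup.radPoly_first (x : Fin (j + 1 + 1) → V) :
    DegLe 3 fun a => radPoly H j (Function.update x 0 a) := by
  have h10 : (1 : Fin (j + 1 + 1)) ≠ 0 := by simp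
  let M : V → V → ZMod 2 := fun a b => radPoly H j (Function.update (Function.update x 1 b) 0 a)
  have hadd : ∀ a b b', M a (b + b') = M a b + M a b' := fun a b b' => by
    simp only [M, Function.update_comm h10]
    exact S.radPoly_update_add hs _ h10 b b'
  have hid : ∀ a b, M (a + b) b = M a b + M b a := by
    intro a b
    set R := x '' {k | k ≠ 0 ∧ k ≠ 1}
    have hspan : ∀ u v, Submodule.span (ZMod 2)
        (Set.range (Function.update (Function.update x 1 v) 0 u)) =
          Submodule.span (ZMod 2) (insert u (insert v R)) := by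
      intro u v
      refine congrArg _ (Set.ext fun z => ⟨?_, ?_⟩)
      · rintro ⟨k, rfl⟩
        by_cases hk0 : k = 0
        · exact Or.inl (by simp [hk0])
        by_cases hk1 : k = 1
        · exact Or.inr (Or.inl (by simp [hk1, h10]))
        exact Or.inr (Or.inr ⟨k, ⟨hk0, hk1⟩, by simp [hk0, hk1]⟩)
      · rintro (rfl | rfl | ⟨k, ⟨hk0, hk1⟩, rfl⟩)
        · exact ⟨0, by simp⟩
        · exact ⟨1, by simp [h10]⟩
        · exact ⟨k, by simp [hk0, hk1]⟩
    have hM : ∀ u v, M u v =
        outInd H (j + 1) u (Submodule.span (ZMod 2) (insert u (insert v R))) := by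
      intro u v
      simp only [M, radPoly, hspan, Function.update_self]
    rw [hM, hM, hM]
    set C := Submodule.span (ZMod 2) (insert a (insert b R)) with hC
    have haC : a ∈ C := Submodule.subset_span (Or.inl rfl)
    have hbC : b ∈ C := Submodule.subset_span (Or.inr (Or.inl rfl))
    have e1 : Submodule.span (ZMod 2) (insert (a + b) (insert b R)) = C := by
      refine le_antisymm (Submodule.span_le.2 ?_) (Submodule.span_le.2 ?_)
      · rintro z (rfl | hz)
        · exact C.add_mem haC hbC
        · exact Submodule.subset_span (Or.inr hz)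
      · rintro z (rfl | hz)
        · have := Submodule.add_mem _
            (Submodule.subset_span (R := ZMod 2) (Set.mem_insert (z + b) (insert b R)))
            (Submodule.subset_span (R := ZMod 2)
              (Set.mem_insert_of_mem (z + b) (Set.mem_insert b R)))
          rwa [add_assoc, add_self, add_zero] at this
        · exact Submodule.subset_span (Or.inr hz)
    have e2 : Submodule.span (ZMod 2) (insert b (insert a R)) = C := by rw [hC, Set.insert_comm]
    rw [e1, e2]
    by_cases hreg : Reg H (j + 1) C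
    · have hB0 := (S.rad0_mem hreg).1
      by_cases ha : a ∈ rad0 H C <;> by_cases hb : b ∈ rad0 H C
      · rw [outInd_zero fun h => h.2 (Submodule.add_mem _ ha hb), outInd_zero fun h => h.2 ha,
          outInd_zero fun h => h.2 hb, add_zero]
      · rw [outInd_one ⟨hreg, fun h => hb ((Submodule.add_mem_iff_right _ ha).1 h)⟩,
          outInd_zero fun h => h.2 ha, outInd_one ⟨hreg, hb⟩, zero_add]
      · rw [outInd_one ⟨hreg, fun h => ha ((Submodule.add_mem_iff_left _ hb).1 h)⟩,
          outInd_zero fun h => h.2 hb, outInd_one ⟨hreg, ha⟩, add_zero]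
      · rw [outInd_zero fun h => h.2 (two_out hB0 haC hbC ha hb), outInd_one ⟨hreg, ha⟩,
          outInd_one ⟨hreg, hb⟩, CharTwo.add_self_eq_zero]
    · rw [outInd_zero fun h => hreg h.1, outInd_zero fun h => hreg h.1,
        outInd_zero fun h => hreg h.1, add_zero]
  have h := deg_three_of_identity M hadd hid (x 1)
  simpa only [M, Function.update_eq_self] using h

/-- The lifted subspaces are not preimages of points when `j + 4 < n`. -/
theorem Setup.false_point (hp : (2 ^ finrank (ZMod 2) V - 1).Prime)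
    (hn : j + 4 < finrank (ZMod 2) V) : False := by
  classical
  let δ : Fin (j + 1 + 1) → ℕ := fun k => if k = 0 then 3 else 1
  have hdeg : DegLe (∑ k, δ k) (radPoly H j) := degLe_pi _ δ fun k x => by
    by_cases hk : k = 0
    · subst hk
      simpa [δ] using S.radPoly_first hs x
    · simp only [δ, if_neg hk]
      exact degLe_of_additive fun v w => S.radPoly_update_add hs x hk v w
  have hsum : ∑ k, δ k = j + 4 := by
    rw [Fin.sum_univ_succ]
    simp [δ, Fin.succ_ne_zero]
    omega
  obtain ⟨g, hg, hord⟩ := exists_singer_of_prime (j + 1) S.trans (by omega) S.lt.le hp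
  have hinv : ∀ x : Fin (j + 1 + 1) → V, radPoly H j (fun k => g (x k)) = radPoly H j x := by
    intro x
    have hr : Submodule.span (ZMod 2) (Set.range fun k => g (x k)) =
        (Submodule.span (ZMod 2) (Set.range x)).map g.toLinearMap := by
      rw [Submodule.map_span, ← Set.range_comp]
      rfl
    simp only [radPoly, hr]
    set C := Submodule.span (ZMod 2) (Set.range x)
    by_cases h : Reg H (j + 1) C
    · by_cases h0 : x 0 ∈ rad0 H C
      · rw [outInd_zero fun h' => h'.2 (by rw [S.rad0_map hg h]; exact ⟨_, h0, rfl⟩),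
          outInd_zero fun h' => h'.2 h0]
      · refine (outInd_one ⟨S.reg_map hg h, ?_⟩).trans (outInd_one ⟨h, h0⟩).symm
        rw [S.rad0_map hg h]
        rintro ⟨z, hz, e⟩
        exact h0 (g.injective e ▸ hz)
    · rw [outInd_zero fun h' => h h'.1, outInd_zero fun h' => h ?_]
      have := S.reg_map (H.inv_mem hg) h'.1
      rwa [map_map_inv] at this
  have hconst := const_of_singer_invariant g hp hord (radPoly H j) (hsum ▸ hdeg) hn hinv
  -- a point where the indicator is one
  obtain ⟨B, hB⟩ : ∃ B : Submodule (ZMod 2) V, finrank (ZMod 2) B = j + 1 := by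
    let b := Module.finBasis (ZMod 2) V
    exact ⟨Submodule.span (ZMod 2) (Set.range fun k : Fin (j + 1) => b (Fin.castLE S.lt.le k)),
      (finrank_span_eq_card (b.linearIndependent.comp (Fin.castLE S.lt.le)
        (Fin.castLE_injective S.lt.le))).trans (Fintype.card_fin _)⟩
  obtain ⟨c, -, hc⟩ := exists_mem_not_mem (A := rad H B) (B := (⊤ : Submodule (ZMod 2) V)) (by
    rw [finrank_top]
    have := S.finrank_rad hB
    omega)
  obtain ⟨A, hA, hm, huniq⟩ := S.exists_point hB (hs B hB) hc
  obtain ⟨b₀, hb₀, hbA⟩ := exists_mem_not_mem (show finrank (ZMod 2) A < finrank (ZMod 2) B by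
    have := hA.2; omega)
  let t := Module.finBasisOfFinrankEq (ZMod 2) A (show finrank (ZMod 2) A = j by
    have := hA.2; omega)
  have hspanA : Submodule.span (ZMod 2) (Set.range (A.subtype ∘ t)) = A := by
    rw [Set.range_comp, Submodule.span_image, t.span_eq, Submodule.map_top,
      Submodule.range_subtype]
  have hspanB : Submodule.span (ZMod 2) (Set.range (Fin.cons b₀ (A.subtype ∘ t) : Fin (j + 1) → V))
      = B := by
    rw [Fin.range_cons, Submodule.span_insert, hspanA, sup_comm]
    exact (eq_sup_of_hyp hA hb₀ hbA).symm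
  have hone : radPoly H j (Fin.snoc (Fin.cons b₀ (A.subtype ∘ t)) c) = 1 := by
    simp only [radPoly, Fin.range_snoc, Submodule.span_insert, hspanB,
      show (0 : Fin (j + 1 + 1)) = (0 : Fin (j + 1)).castSucc from rfl, Fin.snoc_castSucc,
      Fin.cons_zero]
    rw [sup_comm]
    exact (S.outInd_last hs hB hb₀ c).2 ⟨hc, fun A' hA' hm' => by rwa [huniq A' hA' hm']⟩
  have hzero : radPoly H j (0 : Fin (j + 1 + 1) → V) = 0 := by
    refine outInd_zero fun h => ?_
    have h1 := h.1.1
    have h2 : Submodule.span (ZMod 2) (Set.range (0 : Fin (j + 1 + 1) → V)) = ⊥ := by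
      rw [Submodule.span_eq_bot]
      rintro _ ⟨k, rfl⟩
      rfl
    rw [h2, finrank_bot] at h1
    omega
  exact one_ne_zero (hone.symm.trans ((hconst _).trans hzero))

end Cfsg.Agent.TransLinTwo
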