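import Cfsg.Agent.Lib.Perm.TransLinTwo.Level
import Cfsg.Agent.Lib.Perm.TransLinTwo.Step

/-!
# The lifted subspace as a function of the hyperplane

Fix an `i`-space `B`. If the lifted subspace `sf H A B` depends on the hyperplane `A` of `B`, the
quotient of `V` by the intersection `rad H B` of all of them has dimension exactly `i`, its whole
linear group is induced by the stabiliser of `B`, and the images of the subspaces are either all
its points or all its hyperplanes.
-/

set_option autoImplicit false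
set_option linter.unusedSectionVars false
set_option linter.style.haveILetI false

namespace Cfsg.Agent.TransLinTwo

open Module

variable {V : Type*} [AddCommGroup V] [Module (ZMod 2) V] [Finite V]

/-- The hyperplanes of a subspace. -/
def hyps (B : Submodule (ZMod 2) V) : Set (Submodule (ZMod 2) V) :=
  {A | A ≤ B ∧ finrank (ZMod 2) A + 1 = finrank (ZMod 2) B}

/-- The lifted subspace of the flag `A < B`. -/
def sf (H : Subgroup (V ≃ₗ[ZMod 2] V)) (A B : Submodule (ZMod 2) V) : Submodule (ZMod 2) V :=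
  ⨅ b ∈ {b : V | b ∈ B ∧ b ∉ A}, liftS H A b

/-- The intersection of the lifted subspaces over the hyperplanes of `B`. -/
def rad (H : Subgroup (V ≃ₗ[ZMod 2] V)) (B : Submodule (ZMod 2) V) : Submodule (ZMod 2) V :=
  ⨅ A ∈ hyps B, sf H A B

theorem mem_rad {H : Subgroup (V ≃ₗ[ZMod 2] V)} {B : Submodule (ZMod 2) V} {z : V} :
    z ∈ rad H B ↔ ∀ A ∈ hyps B, z ∈ sf H A B := by
  simp only [rad, Submodule.mem_iInf]

theorem exists_not_mem_two {S S' : Submodule (ZMod 2) V} (hS : S ≠ ⊤) (hS' : S' ≠ ⊤) :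
    ∃ z, z ∉ S ∧ z ∉ S' := by
  obtain ⟨x, hx⟩ : ∃ x, x ∉ S := by
    by_contra h
    push Not at h
    exact hS (eq_top_iff.2 fun z _ => h z)
  obtain ⟨y, hy⟩ : ∃ y, y ∉ S' := by
    by_contra h
    push Not at h
    exact hS' (eq_top_iff.2 fun z _ => h z)
  by_cases hx' : x ∈ S'
  · by_cases hy' : y ∈ S
    · exact ⟨x + y, fun h => hx ((S.add_mem_iff_left hy').1 h),
        fun h => hy ((S'.add_mem_iff_right hx').1 h)⟩
    · exact ⟨y, hy', hy⟩
  · exact ⟨x, hx, hx'⟩

theorem exists_mem_not_mem {A B : Submodule (ZMod 2) V}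
    (h : finrank (ZMod 2) A < finrank (ZMod 2) B) : ∃ b ∈ B, b ∉ A := by
  by_contra hc
  push Not at hc
  have := Submodule.finrank_mono (show B ≤ A from hc)
  omega

theorem eq_sup_of_hyp {A B : Submodule (ZMod 2) V} (hA : A ∈ hyps B) {b : V} (hb : b ∈ B)
    (hbA : b ∉ A) : B = A ⊔ Submodule.span (ZMod 2) {b} :=
  (Submodule.eq_of_le_of_finrank_eq (sup_le hA.1 ((Submodule.span_singleton_le_iff_mem ..).2 hb))
    (by rw [finrank_sup_singleton hbA, hA.2])).symm

theorem map_sup_singleton (h : V ≃ₗ[ZMod 2] V) (A : Submodule (ZMod 2) V) (b : V) :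
    (A ⊔ Submodule.span (ZMod 2) {b}).map h.toLinearMap =
      A.map h.toLinearMap ⊔ Submodule.span (ZMod 2) {h b} := by
  rw [Submodule.map_sup, Submodule.map_span, Set.image_singleton]
  rfl

theorem hyps_map (h : V ≃ₗ[ZMod 2] V) {A B : Submodule (ZMod 2) V} (hA : A ∈ hyps B) :
    A.map h.toLinearMap ∈ hyps (B.map h.toLinearMap) :=
  ⟨Submodule.map_mono hA.1, by rw [LinearEquiv.finrank_map_eq, LinearEquiv.finrank_map_eq, hA.2]⟩

theorem map_map_inv (h : V ≃ₗ[ZMod 2] V) (A : Submodule (ZMod 2) V) :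
    (A.map h.toLinearMap).map (h⁻¹ : V ≃ₗ[ZMod 2] V).toLinearMap = A := by
  rw [← Submodule.map_comp]
  convert Submodule.map_id A
  exact LinearMap.ext fun x => h.symm_apply_apply x

theorem map_inv_map (h : V ≃ₗ[ZMod 2] V) (A : Submodule (ZMod 2) V) :
    (A.map (h⁻¹ : V ≃ₗ[ZMod 2] V).toLinearMap).map h.toLinearMap = A := by
  rw [← Submodule.map_comp]
  convert Submodule.map_id A
  exact LinearMap.ext fun x => h.apply_symm_apply x

theorem map_mul' (g h : V ≃ₗ[ZMod 2] V) (A : Submodule (ZMod 2) V) :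
    A.map (g * h).toLinearMap = (A.map h.toLinearMap).map g.toLinearMap := by
  rw [← Submodule.map_comp]; rfl

/-- A hyperplane of `B` containing one vector and avoiding another. -/
theorem exists_hyp_sep {B : Submodule (ZMod 2) V} {z w : V} (hz : z ∈ B) (hw : w ∈ B)
    (hz0 : z ≠ 0) (hne : w ≠ z) : ∃ A ∈ hyps B, w ∈ A ∧ z ∉ A := by
  have hz' : z ∉ Submodule.span (ZMod 2) {w} := by
    intro hm
    obtain ⟨c, hc⟩ := Submodule.mem_span_singleton.1 hm
    rcases zmod2_cases c with rfl | rfl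
    · exact hz0 (by rw [← hc, zero_smul])
    · exact hne (by rw [one_smul] at hc; exact hc)
  obtain ⟨f, hf, hfw⟩ := Submodule.exists_le_ker_of_notMem hz'
  have hf1 : f z = 1 := (zmod2_cases _).resolve_left hf
  exact ⟨B ⊓ LinearMap.ker f, ⟨inf_le_left, finrank_inf_ker hz hf1⟩,
    ⟨hw, hfw (Submodule.mem_span_singleton_self w)⟩, fun h => hf h.2⟩

/-- There are `2 ^ i - 1` hyperplanes in an `i`-space. -/
theorem ncard_hyps (B : Submodule (ZMod 2) V) :
    (hyps B).ncard = 2 ^ finrank (ZMod 2) B - 1 := by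
  classical
  haveI : Finite (Dual (ZMod 2) B) := finite_dual
  let F : Dual (ZMod 2) B → Submodule (ZMod 2) V := fun f => (LinearMap.ker f).map B.subtype
  have hone : ∀ f : Dual (ZMod 2) B, f ≠ 0 → ∃ z, f z = 1 := fun f hf => by
    by_contra h
    push Not at h
    exact hf (LinearMap.ext fun z => (zmod2_cases (f z)).resolve_right (h z))
  have himg : hyps B = F '' ({0}ᶜ : Set (Dual (ZMod 2) B)) := by
    ext A
    constructor
    · intro hA
      obtain ⟨b, hb, hbA⟩ := exists_mem_not_mem (show finrank (ZMod 2) A < finrank (ZMod 2) B by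
        have := hA.2; omega)
      have hb' : (⟨b, hb⟩ : B) ∉ A.comap B.subtype := hbA
      obtain ⟨f, hf, hfA⟩ := Submodule.exists_le_ker_of_notMem hb'
      refine ⟨f, fun h0 => hf (by rw [show f = 0 from h0]; rfl), ?_⟩
      refine (Submodule.eq_of_le_of_finrank_eq (S₁ := A) (S₂ := (LinearMap.ker f).map B.subtype)
        (fun a ha => ⟨⟨a, hA.1 ha⟩, hfA ha, rfl⟩) ?_).symm
      have h1 : finrank (ZMod 2) (LinearMap.ker f) < finrank (ZMod 2) B :=
        Submodule.finrank_lt fun h => hf (by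
          have : (⟨b, hb⟩ : B) ∈ LinearMap.ker f := h ▸ trivial
          exact this)
      have h2 : finrank (ZMod 2) ((LinearMap.ker f).map B.subtype) =
          finrank (ZMod 2) (LinearMap.ker f) := Submodule.finrank_map_subtype_eq B _
      have h3 : finrank (ZMod 2) A ≤ finrank (ZMod 2) ((LinearMap.ker f).map B.subtype) :=
        Submodule.finrank_mono fun a ha => ⟨⟨a, hA.1 ha⟩, hfA ha, rfl⟩
      have := hA.2
      show finrank (ZMod 2) A = finrank (ZMod 2) ((LinearMap.ker f).map B.subtype)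
      omega
    · rintro ⟨f, hf, rfl⟩
      obtain ⟨z, hz⟩ := hone f hf
      refine ⟨Submodule.map_subtype_le _ _, ?_⟩
      show finrank (ZMod 2) ((LinearMap.ker f).map B.subtype) + 1 = _
      rw [Submodule.finrank_map_subtype_eq]
      have h1 := LinearMap.finrank_range_add_finrank_ker f
      rw [LinearMap.range_eq_top.2 (fun c => ⟨c • z, by simp [hz]⟩), finrank_top,
        Module.finrank_self] at h1
      omega
  have hinj : Set.InjOn F ({0}ᶜ : Set (Dual (ZMod 2) B)) := by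
    intro f _ g _ h
    have h' : LinearMap.ker f = LinearMap.ker g :=
      Submodule.map_injective_of_injective B.injective_subtype h
    refine LinearMap.ext fun z => ?_
    rcases zmod2_cases (f z) with hz | hz
    · rw [hz]
      exact (LinearMap.mem_ker.1 (h' ▸ LinearMap.mem_ker.2 hz)).symm
    · rcases zmod2_cases (g z) with hz' | hz'
      · have : z ∈ LinearMap.ker f := h'.symm ▸ LinearMap.mem_ker.2 hz'
        rw [LinearMap.mem_ker, hz] at this
        exact absurd this one_ne_zero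
      · rw [hz, hz']
  rw [himg, hinj.ncard_image, Set.ncard_compl, Set.ncard_singleton,
    Module.natCard_eq_pow_finrank (K := ZMod 2), Subspace.dual_finrank_eq, Nat.card_zmod]

section Props

variable {H : Subgroup (V ≃ₗ[ZMod 2] V)} {i : ℕ} (hT : TupleTrans H i) (hi2 : 2 ≤ i)
  (hi : i < finrank (ZMod 2) V)

include hT hi

theorem exists_lift (B : Submodule (ZMod 2) V) (hB : finrank (ZMod 2) B = i) (e : B ≃ₗ[ZMod 2] B) :
    ∃ h ∈ H, B.map h.toLinearMap = B ∧ ∀ x : B, h x = e x := by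
  let b := Module.finBasisOfFinrankEq (ZMod 2) B hB
  obtain ⟨h, hh, hx⟩ := hT (B.subtype ∘ b) (B.subtype ∘ e ∘ b)
    (b.linearIndependent.map' _ (Submodule.ker_subtype B))
    ((b.linearIndependent.map' e.toLinearMap e.ker).map' _ (Submodule.ker_subtype B))
  have heq : h.toLinearMap.comp B.subtype = B.subtype.comp e.toLinearMap :=
    b.ext fun k => hx k
  exact ⟨h, hh, map_eq_of_le fun x hxB => by
    rw [show h x = e ⟨x, hxB⟩ from LinearMap.congr_fun heq ⟨x, hxB⟩]
    exact (e _).2, fun x => LinearMap.congr_fun heq x⟩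

theorem flag_trans {A A' : Submodule (ZMod 2) V} {b b' : V} (hA : finrank (ZMod 2) A + 1 = i)
    (hA' : finrank (ZMod 2) A' + 1 = i) (hb : b ∉ A) (hb' : b' ∉ A') :
    ∃ h ∈ H, A.map h.toLinearMap = A' ∧ h b = b' := by
  subst hA
  let x := Module.finBasisOfFinrankEq (ZMod 2) A rfl
  let y := Module.finBasisOfFinrankEq (ZMod 2) A'
    (show finrank (ZMod 2) A' = finrank (ZMod 2) A by omega)
  have hs : Submodule.span (ZMod 2) (Set.range (A.subtype ∘ x)) = A := by
    rw [Set.range_comp, Submodule.span_image, x.span_eq, Submodule.map_top,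
      Submodule.range_subtype]
  have hs' : Submodule.span (ZMod 2) (Set.range (A'.subtype ∘ y)) = A' := by
    rw [Set.range_comp, Submodule.span_image, y.span_eq, Submodule.map_top,
      Submodule.range_subtype]
  obtain ⟨h, hh, hk⟩ := hT (Fin.snoc (A.subtype ∘ x) b) (Fin.snoc (A'.subtype ∘ y) b')
    (linearIndependent_finSnoc.2 ⟨x.linearIndependent.map' _ (Submodule.ker_subtype A), by rwa [hs]⟩)
    (linearIndependent_finSnoc.2 ⟨y.linearIndependent.map' _ (Submodule.ker_subtype A'),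
      by rwa [hs']⟩)
  refine ⟨h, hh, ?_, by simpa using hk (Fin.last _)⟩
  conv_lhs => rw [← hs]
  rw [Submodule.map_span, ← Set.range_comp]
  conv_rhs => rw [← hs']
  refine congrArg _ (congrArg Set.range (funext fun k => ?_))
  simpa using hk k.castSucc

include hi2

theorem pair_trans {B B' A₁ A₂ A₁' A₂' : Submodule (ZMod 2) V} (hB : finrank (ZMod 2) B = i)
    (hB' : finrank (ZMod 2) B' = i) (h1 : A₁ ∈ hyps B) (h2 : A₂ ∈ hyps B) (hne : A₁ ≠ A₂)
    (h1' : A₁' ∈ hyps B') (h2' : A₂' ∈ hyps B') (hne' : A₁' ≠ A₂') :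
    ∃ h ∈ H, B.map h.toLinearMap = B' ∧ A₁.map h.toLinearMap = A₁' ∧
      A₂.map h.toLinearMap = A₂' := by
  have data : ∀ {B A₁ A₂ : Submodule (ZMod 2) V}, finrank (ZMod 2) B = i → A₁ ∈ hyps B →
      A₂ ∈ hyps B → A₁ ≠ A₂ → ∃ (j : ℕ) (hj : j + 1 + 1 = i) (x : Fin (j + 1 + 1) → V),
      LinearIndependent (ZMod 2) x ∧
      Submodule.span (ZMod 2) (x '' {k | k ≠ Fin.last _}) = A₁ ∧
      Submodule.span (ZMod 2) (x '' {k | k ≠ (Fin.last j).castSucc}) = A₂ ∧
      Submodule.span (ZMod 2) (Set.range x) = B := by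
    intro B A₁ A₂ hB h1 h2 hne
    have hnle : ¬A₁ ≤ A₂ := fun h => hne (Submodule.eq_of_le_of_finrank_eq h (by
      have := h1.2; have := h2.2; omega))
    obtain ⟨a, ha, ha2⟩ := SetLike.not_le_iff_exists.1 hnle
    have hnle' : ¬A₂ ≤ A₁ := fun h => hne (Submodule.eq_of_le_of_finrank_eq h (by
      have := h1.2; have := h2.2; omega)).symm
    obtain ⟨a', ha', ha1⟩ := SetLike.not_le_iff_exists.1 hnle'
    have hI : finrank (ZMod 2) ↥(A₁ ⊓ A₂) + 1 = finrank (ZMod 2) A₁ := by
      have e := Submodule.finrank_sup_add_finrank_inf_eq A₁ A₂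
      have hsup : A₁ ⊔ A₂ = B := le_antisymm (sup_le h1.1 h2.1) (by
        rw [eq_sup_of_hyp h2 (h1.1 ha) ha2]
        exact sup_le le_sup_right ((Submodule.span_singleton_le_iff_mem ..).2
          (Submodule.mem_sup_left ha)))
      rw [hsup] at e
      have := h1.2; have := h2.2
      omega
    let t := Module.finBasis (ZMod 2) ↥(A₁ ⊓ A₂)
    set u : Fin (finrank (ZMod 2) ↥(A₁ ⊓ A₂)) → V := (A₁ ⊓ A₂).subtype ∘ t
    have hu : Submodule.span (ZMod 2) (Set.range u) = A₁ ⊓ A₂ := by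
      rw [Set.range_comp, Submodule.span_image, t.span_eq, Submodule.map_top,
        Submodule.range_subtype]
    have hA1 : Submodule.span (ZMod 2) (Set.range (Fin.snoc u a : Fin (_ + 1) → V)) = A₁ := by
      rw [Fin.range_snoc, Submodule.span_insert, hu, sup_comm]
      exact (eq_sup_of_hyp (B := A₁) ⟨inf_le_left, hI⟩ ha (fun h => ha2 h.2)).symm
    refine ⟨finrank (ZMod 2) ↥(A₁ ⊓ A₂), by have := h1.2; omega, Fin.snoc (Fin.snoc u a) a',
      linearIndependent_finSnoc.2 ⟨linearIndependent_finSnoc.2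
        ⟨t.linearIndependent.map' _ (Submodule.ker_subtype _), by rw [hu]; exact fun h => ha2 h.2⟩,
        by rwa [hA1]⟩, ?_, ?_, ?_⟩
    · refine Eq.trans (congrArg _ ?_) hA1
      ext v
      constructor
      · rintro ⟨k, hk, rfl⟩
        induction k using Fin.lastCases with
        | last => exact absurd rfl hk
        | cast k => exact ⟨k, by simp⟩
      · rintro ⟨k, rfl⟩
        exact ⟨k.castSucc, (Fin.castSucc_lt_last k).ne, by simp⟩
    · have hA2 : Submodule.span (ZMod 2) (insert a' (Set.range u)) = A₂ := by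
        rw [Submodule.span_insert, hu, sup_comm]
        exact (eq_sup_of_hyp (A := A₁ ⊓ A₂) (B := A₂) ⟨inf_le_right, by
          have := h1.2; have := h2.2; omega⟩ ha' (fun h => ha1 h.1)).symm
      refine Eq.trans (congrArg _ ?_) hA2
      ext v
      constructor
      · rintro ⟨k, hk, rfl⟩
        induction k using Fin.lastCases with
        | last => exact Or.inl (by simp)
        | cast k =>
          induction k using Fin.lastCases with
          | last => exact absurd rfl hk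
          | cast k => exact Or.inr ⟨k, by simp⟩
      · rintro (rfl | ⟨k, rfl⟩)
        · exact ⟨Fin.last _, (Fin.castSucc_lt_last _).ne', by simp⟩
        · exact ⟨k.castSucc.castSucc, fun h => (Fin.castSucc_lt_last k).ne
            (Fin.castSucc_injective _ h), by simp⟩
    · rw [Fin.range_snoc, Submodule.span_insert, hA1, sup_comm]
      exact (eq_sup_of_hyp h1 (h2.1 ha') ha1).symm
  obtain ⟨j, hj, x, hx, x1, x2, x3⟩ := data hB h1 h2 hne
  obtain ⟨j', hj', y, hy, y1, y2, y3⟩ := data hB' h1' h2' hne'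
  obtain rfl : j' = j := by omega
  subst hj
  obtain ⟨h, hh, hk⟩ := hT x y hx hy
  have him : ∀ s : Set (Fin (j' + 1 + 1)),
      (Submodule.span (ZMod 2) (x '' s)).map h.toLinearMap = Submodule.span (ZMod 2) (y '' s) := by
    intro s
    rw [Submodule.map_span, Set.image_image]
    exact congrArg _ (Set.image_congr fun k _ => hk k)
  refine ⟨h, hh, ?_, ?_, ?_⟩
  · rw [← x3, ← y3, ← Set.image_univ, him, Set.image_univ]
  · rw [← x1, him, y1]
  · rw [← x2, him, y2]

theorem sf_eq_liftS {A B : Submodule (ZMod 2) V} (hA : A ∈ hyps B)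
    (hB : finrank (ZMod 2) B = i) {b : V} (hb : b ∈ B) (hbA : b ∉ A) :
    sf H A B = liftS H A b := by
  have hA1 : finrank (ZMod 2) A + 1 = i := hA.2.trans hB
  refine le_antisymm (iInf₂_le b ⟨hb, hbA⟩) (le_iInf₂ fun b' ⟨hb', hbA'⟩ => ?_)
  rw [liftS_eq hT hi2 hi hA1 hbA, liftS_eq hT hi2 hi hA1 hbA']
  have hmem : b' ∈ A ⊔ Submodule.span (ZMod 2) {b} := eq_sup_of_hyp hA hb hbA ▸ hb'
  obtain ⟨a, ha, w, hw, rfl⟩ := Submodule.mem_sup.1 hmem
  obtain ⟨c, rfl⟩ := Submodule.mem_span_singleton.1 hw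
  rcases zmod2_cases c with rfl | rfl
  · exact absurd (show a + (0 : ZMod 2) • b ∈ A by simpa using ha) hbA'
  · rw [one_smul, map_add, show A.mkQ a = 0 from (Submodule.Quotient.mk_eq_zero A).2 ha,
      zero_add]

variable {A B : Submodule (ZMod 2) V} (hA : A ∈ hyps B) (hB : finrank (ZMod 2) B = i)

include hA hB

theorem exists_base : ∃ b, b ∈ B ∧ b ∉ A ∧ finrank (ZMod 2) A + 1 = i ∧
    sf H A B = liftS H A b := by
  obtain ⟨b, hb, hbA⟩ := exists_mem_not_mem (show finrank (ZMod 2) A < finrank (ZMod 2) B by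
    have := hA.2; omega)
  exact ⟨b, hb, hbA, hA.2.trans hB, sf_eq_liftS hT hi2 hi hA hB hb hbA⟩

theorem le_sf : B ≤ sf H A B := by
  obtain ⟨b, hb, hbA, hA1, e⟩ := exists_base hT hi2 hi hA hB
  rw [e, eq_sup_of_hyp hA hb hbA]
  exact sup_le (le_liftS hT hi2 hi hA1 hbA)
    ((Submodule.span_singleton_le_iff_mem ..).2 (self_mem_liftS hT hi2 hi hA1 hbA))

theorem sf_ne_top : sf H A B ≠ ⊤ := by
  obtain ⟨b, -, hbA, hA1, e⟩ := exists_base hT hi2 hi hA hB
  rw [e]
  exact liftS_ne_top hT hi2 hi hA1 hbA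

theorem sf_map {h : V ≃ₗ[ZMod 2] V} (hh : h ∈ H) :
    (sf H A B).map h.toLinearMap = sf H (A.map h.toLinearMap) (B.map h.toLinearMap) := by
  obtain ⟨b, hb, hbA, -, e⟩ := exists_base hT hi2 hi hA hB
  rw [e, liftS_map hh, sf_eq_liftS hT hi2 hi (hyps_map h hA)
    (by rw [LinearEquiv.finrank_map_eq, hB]) (b := h b) (Submodule.mem_map_of_mem hb)
    (fun hm => by
      obtain ⟨a, ha, hae⟩ := hm
      exact hbA (h.injective hae ▸ ha))]

theorem finrank_sf_eq {A' B' : Submodule (ZMod 2) V} (hA' : A' ∈ hyps B')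
    (hB' : finrank (ZMod 2) B' = i) :
    finrank (ZMod 2) (sf H A B) = finrank (ZMod 2) (sf H A' B') := by
  obtain ⟨b, hb, hbA, hA1, e⟩ := exists_base hT hi2 hi hA hB
  obtain ⟨b', hb', hbA', hA1', e'⟩ := exists_base hT hi2 hi hA' hB'
  obtain ⟨h, hh, hAA, hbb⟩ := flag_trans hT hi hA1 hA1' hbA hbA'
  rw [e, e', ← hAA, ← hbb, ← liftS_map hh, LinearEquiv.finrank_map_eq]

/-- Outside the lifted subspace the stabiliser of the flag is transitive modulo `A`. -/
theorem sf_link {c c' : V} (hc : c ∉ sf H A B) (hc' : c' ∉ sf H A B) :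
    ∃ h ∈ H, A.map h.toLinearMap = A ∧ B.map h.toLinearMap = B ∧ h c + c' ∈ A := by
  obtain ⟨b, hb, hbA, hA1, e⟩ := exists_base hT hi2 hi hA hB
  rw [e, liftS_eq hT hi2 hi hA1 hbA, Submodule.mem_comap] at hc hc'
  obtain ⟨⟨g, h, hh, hAh, hx⟩, hgb, hgc⟩ := (levelAF hT hi2 hi A hA1).off_S_trans hc hc'
  change g (A.mkQ b) = A.mkQ b at hgb
  change g (A.mkQ c) = A.mkQ c' at hgc
  rw [hx, Submodule.mkQ_apply, Submodule.mkQ_apply, Submodule.Quotient.eq] at hgb hgc
  refine ⟨h, hh, hAh, map_eq_of_le fun z hz => ?_, by rwa [← sub_eq_add']⟩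
  rw [eq_sup_of_hyp hA hb hbA] at hz ⊢
  obtain ⟨a, ha, w, hw, rfl⟩ := Submodule.mem_sup.1 hz
  obtain ⟨k, rfl⟩ := Submodule.mem_span_singleton.1 hw
  rw [map_add, map_smul, show h b = (h b - b) + b from (sub_add_cancel _ _).symm, smul_add,
    ← add_assoc]
  exact Submodule.add_mem_sup (A.add_mem ((apply_mem_iff hAh).2 ha) (A.smul_mem _ hgb))
    (Submodule.smul_mem _ _ (Submodule.mem_span_singleton_self b))

end Props

section Rad

variable {H : Subgroup (V ≃ₗ[ZMod 2] V)} {i : ℕ} (hT : TupleTrans H i) (hi2 : 2 ≤ i)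
  (hi : i < finrank (ZMod 2) V) {B : Submodule (ZMod 2) V} (hB : finrank (ZMod 2) B = i)

include hT hi2 hi hB

theorem le_rad : B ≤ rad H B := fun b hb => mem_rad.2 fun A hA => le_sf hT hi2 hi hA hB hb

theorem mem_sf_map_iff {h : V ≃ₗ[ZMod 2] V} (hh : h ∈ H) {A : Submodule (ZMod 2) V}
    (hA : A ∈ hyps B) {z : V} :
    h z ∈ sf H (A.map h.toLinearMap) (B.map h.toLinearMap) ↔ z ∈ sf H A B := by
  rw [← sf_map hT hi2 hi hA hB hh]
  exact ⟨fun ⟨w, hw, e⟩ => h.injective e ▸ hw, fun hz => Submodule.mem_map_of_mem hz⟩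

theorem mem_rad_map_iff {h : V ≃ₗ[ZMod 2] V} (hh : h ∈ H) {z : V} :
    h z ∈ rad H (B.map h.toLinearMap) ↔ z ∈ rad H B := by
  rw [mem_rad, mem_rad]
  constructor
  · exact fun hz A hA => (mem_sf_map_iff hT hi2 hi hB hh hA).1 (hz _ (hyps_map h hA))
  · intro hz A hA
    have hA' : A.map (h⁻¹ : V ≃ₗ[ZMod 2] V).toLinearMap ∈ hyps B := by
      have := hyps_map h⁻¹ hA
      rwa [map_map_inv] at this
    have := (mem_sf_map_iff hT hi2 hi hB hh hA').2 (hz _ hA')
    rwa [map_inv_map] at this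

/-- Outside the radical the stabiliser of `B` is transitive modulo `B`. -/
theorem rad_link {c c' : V} (hc : c ∉ rad H B) (hc' : c' ∉ rad H B) :
    ∃ h ∈ H, B.map h.toLinearMap = B ∧ h c + c' ∈ B := by
  rw [mem_rad] at hc hc'
  push Not at hc hc'
  obtain ⟨A, hA, hcA⟩ := hc
  obtain ⟨A', hA', hcA'⟩ := hc'
  obtain ⟨z, hz, hz'⟩ := exists_not_mem_two (sf_ne_top hT hi2 hi hA hB)
    (sf_ne_top hT hi2 hi hA' hB)
  obtain ⟨h, hh, -, hhB, e⟩ := sf_link hT hi2 hi hA hB hcA hz
  obtain ⟨h', hh', -, hhB', e'⟩ := sf_link hT hi2 hi hA' hB hz' hcA'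
  refine ⟨h' * h, H.mul_mem hh' hh, by rw [map_mul', hhB, hhB'], ?_⟩
  have h1 : h' (h c + z) + (h' z + c') ∈ B :=
    B.add_mem ((apply_mem_iff hhB').2 (hA.1 e)) (hA'.1 e')
  rwa [map_add, add_assoc, ← add_assoc (h' z) (h' z), add_self, zero_add] at h1

end Rad

end Cfsg.Agent.TransLinTwo
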