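import Mathlib.Algebra.CharP.Two
import Mathlib.Data.ZMod.Basic
import Mathlib.Data.Fin.VecNotation
import Mathlib.Tactic.NoncommRing
import Mathlib.Tactic.Abel

/-!
# Seven operators with `J² + J + 1 = 0`

There is no family `J` of seven elements of a nontrivial ring of characteristic two, indexed
by the nonzero vectors of `(ZMod 2)³`, with `J x ^ 2 + J x + 1 = 0` and `J (x + y)` equal to
`J x + J y` up to `{0, 1}`: any two of them anticommute to `1`, so the sum of three of them
is killed by `q(T) = T² + T`.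
-/

namespace Cfsg.Agent.TransLinTwo

private theorem sq_add_self_of_shift {R : Type*} [Ring R] [CharP R 2] (a b e : R)
    (he : e ∈ ({0, 1} : Set R)) :
    (a + b + e) ^ 2 + (a + b + e) = (a ^ 2 + a) + (b ^ 2 + b) + (a * b + b * a) := by
  rcases he with h | h
  · subst h
    noncomm_ring
  · rw [Set.mem_singleton_iff] at h
    subst h
    have hring : (a + b + 1) ^ 2 + (a + b + 1)
        = (a ^ 2 + a) + (b ^ 2 + b) + (a * b + b * a) + 2 * (a + b + 1) := by
      noncomm_ring
    have h2 : (2 : R) = 0 := CharTwo.two_eq_zero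
    rw [hring, h2, zero_mul, add_zero]

/-- The seven operators `J_x`, `x ≠ 0` in `(ZMod 2)³`, cannot exist. -/
theorem no_seven_omega {R : Type*} [Ring R] [Nontrivial R] [CharP R 2]
    (J : (Fin 3 → ZMod 2) → R) (hq : ∀ x, x ≠ 0 → J x ^ 2 + J x + 1 = 0)
    (hadd : ∀ x y, J (x + y) - (J x + J y) ∈ ({0, 1} : Set R)) : False := by
  have hq' : ∀ x, x ≠ 0 → J x ^ 2 + J x = 1 := fun x hx =>
    CharTwo.add_eq_zero.mp (hq x hx)
  have hanti : ∀ x y, x ≠ 0 → y ≠ 0 → x + y ≠ 0 → J x * J y + J y * J x = 1 := by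
    intro x y hx hy hxy
    have h1 := sq_add_self_of_shift (J x) (J y) _ (hadd x y)
    rw [add_sub_cancel, hq' x hx, hq' y hy, hq' _ hxy, CharTwo.add_self_eq_zero, zero_add] at h1
    exact h1.symm
  set x : Fin 3 → ZMod 2 := ![1, 0, 0] with hx
  set y : Fin 3 → ZMod 2 := ![0, 1, 0] with hy
  set z : Fin 3 → ZMod 2 := ![0, 0, 1] with hz
  have hx0 : x ≠ 0 := by rw [hx]; decide
  have hy0 : y ≠ 0 := by rw [hy]; decide
  have hz0 : z ≠ 0 := by rw [hz]; decide
  have hxy : x + y ≠ 0 := by rw [hx, hy]; decide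
  have hxz : x + z ≠ 0 := by rw [hx, hz]; decide
  have hyz : y + z ≠ 0 := by rw [hy, hz]; decide
  have hs : x + y + z ≠ 0 := by rw [hx, hy, hz]; decide
  have h1 := sq_add_self_of_shift (J (x + y)) (J z) _ (hadd (x + y) z)
  rw [add_sub_cancel, hq' _ hs, hq' _ hxy, hq' _ hz0, CharTwo.add_self_eq_zero, zero_add] at h1
  obtain ⟨e, he, hJ⟩ : ∃ e : R, Commute e (J z) ∧ J (x + y) = J x + J y + e := by
    refine ⟨J (x + y) - (J x + J y), ?_, (add_sub_cancel _ _).symm⟩
    rcases hadd x y with h | h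
    · rw [h]; exact Commute.zero_left _
    · rw [Set.mem_singleton_iff] at h
      rw [h]; exact Commute.one_left _
  have h2 : J (x + y) * J z + J z * J (x + y)
      = (J x * J z + J z * J x) + (J y * J z + J z * J y) + (e * J z + e * J z) := by
    rw [hJ, add_mul, add_mul, mul_add, mul_add, ← he.eq]
    abel
  rw [h2, hanti x z hx0 hz0 hxz, hanti y z hy0 hz0 hyz, CharTwo.add_self_eq_zero,
    CharTwo.add_self_eq_zero, zero_add] at h1
  exact one_ne_zero h1

end Cfsg.Agent.TransLinTwo
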