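import Mathlib

/-!
# Geometric spreads over the field with two elements

A geometric spread with at least three dimensions has a kernel which is a field of the size of the parts; a
group preserving it which is transitive on antiflags forces parts of dimension at most two.
-/

set_option autoImplicit false
set_option linter.unusedSectionVars false
set_option linter.style.haveILetI false

namespace Cfsg.Agent.TransLinTwo

universe u

variable {W : Type u} [AddCommGroup W] [Module (ZMod 2) W] [Finite W]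

/-- A geometric spread in which two parts never span the space: `P v` is the part of `v`. -/
structure GeomSpread (P : W → Submodule (ZMod 2) W) (f : ℕ) : Prop where
  mem : ∀ v : W, v ≠ 0 → v ∈ P v
  rank : ∀ v : W, v ≠ 0 → Module.finrank (ZMod 2) (P v) = f
  eq_of_mem : ∀ v u : W, v ≠ 0 → u ≠ 0 → u ∈ P v → P u = P v
  geom : ∀ a b c : W, a ≠ 0 → b ≠ 0 → c ≠ 0 → c ∈ P a ⊔ P b → P c ≤ P a ⊔ P b
  big : ∀ a b : W, a ≠ 0 → b ≠ 0 → ∃ c : W, c ∉ P a ⊔ P b

/-- The maps stabilising every part. -/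
def spreadKernel (P : W → Submodule (ZMod 2) W) (hP : ∀ v u : W, v ≠ 0 → u ≠ 0 → u ∈ P v → P u = P v)
    (hm : ∀ v : W, v ≠ 0 → v ∈ P v) : Subring (Module.End (ZMod 2) W) where
  carrier := {φ | ∀ v : W, v ≠ 0 → φ v ∈ P v}
  one_mem' v hv := hm v hv
  zero_mem' v _ := (P v).zero_mem
  add_mem' {φ ψ} hφ hψ v hv := (P v).add_mem (hφ v hv) (hψ v hv)
  neg_mem' {φ} hφ v hv := (P v).neg_mem (hφ v hv)
  mul_mem' {φ ψ} hφ hψ v hv := by
    show φ (ψ v) ∈ P v
    by_cases h : ψ v = 0
    · rw [h, map_zero]; exact (P v).zero_mem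
    · exact hP v _ hv h (hψ v hv) ▸ hφ _ h

theorem add_self_eq_zero' (x : W) : x + x = 0 := by
  rw [← two_smul (ZMod 2) x, show (2 : ZMod 2) = 0 from rfl, zero_smul]

namespace GeomSpread

variable {P : W → Submodule (ZMod 2) W} {f : ℕ} (hS : GeomSpread P f)
include hS

/-- The kernel of the spread. -/
def kernel : Subring (Module.End (ZMod 2) W) := spreadKernel P hS.eq_of_mem hS.mem

theorem mem_kernel {φ : Module.End (ZMod 2) W} : φ ∈ hS.kernel ↔ ∀ v : W, v ≠ 0 → φ v ∈ P v := Iff.rfl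

theorem not_mem_symm {a b : W} (ha : a ≠ 0) (hb : b ≠ 0) (h : b ∉ P a) : a ∉ P b := fun hab =>
  h (hS.eq_of_mem b a hb ha hab ▸ hS.mem b hb)

theorem inter_eq_zero {a b x : W} (ha : a ≠ 0) (hb : b ≠ 0) (h : b ∉ P a) (hxa : x ∈ P a) (hxb : x ∈ P b) :
    x = 0 := by
  by_contra hx
  exact h ((hS.eq_of_mem a x ha hx hxa).symm.trans (hS.eq_of_mem b x hb hx hxb) ▸ hS.mem b hb)

theorem finrank_sup {a b : W} (ha : a ≠ 0) (hb : b ≠ 0) (h : b ∉ P a) :
    Module.finrank (ZMod 2) (P a ⊔ P b : Submodule (ZMod 2) W) = f + f := by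
  have h0 : P a ⊓ P b = ⊥ :=
    (Submodule.eq_bot_iff _).2 fun x hx => hS.inter_eq_zero ha hb h hx.1 hx.2
  have h1 := Submodule.finrank_sup_add_finrank_inf_eq (P a) (P b)
  rw [h0, finrank_bot, hS.rank a ha, hS.rank b hb, add_zero] at h1
  exact h1

theorem sup_eq {a b c d : W} (ha : a ≠ 0) (hb : b ≠ 0) (hab : b ∉ P a) (hc : c ≠ 0) (hd : d ≠ 0)
    (hcd : d ∉ P c) (hcm : c ∈ P a ⊔ P b) (hdm : d ∈ P a ⊔ P b) : P c ⊔ P d = P a ⊔ P b :=
  Submodule.eq_of_le_of_finrank_le (sup_le (hS.geom a b c ha hb hc hcm) (hS.geom a b d ha hb hd hdm))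
    (by rw [hS.finrank_sup ha hb hab, hS.finrank_sup hc hd hcd])

theorem add_ne_zero_of_not_mem {a b : W} (ha : a ≠ 0) (h : b ∉ P a) : a + b ≠ 0 := fun e => by
  refine h ?_
  have hb : b = a := by
    calc b = a + a + b := by rw [add_self_eq_zero', zero_add]
      _ = a := by rw [add_assoc, e, add_zero]
  rw [hb]; exact hS.mem a ha

theorem add_not_mem {a b : W} (ha : a ≠ 0) (h : b ∉ P a) : a + b ∉ P a := fun hm =>
  h (by simpa using (P a).sub_mem hm (hS.mem a ha))

/-- The third part in the sum of two parts gives a bijection between them. -/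
theorem exists_partner {v x w : W} (hv : v ≠ 0) (hx : x ≠ 0) (hxv : x ∉ P v) (hw : w ∈ P v) :
    ∃ y, y ∈ P x ∧ w + y ∈ P (v + x) := by
  have hvx := hS.add_ne_zero_of_not_mem hv hxv
  have h1 : v + x ∉ P x := fun hm =>
    hS.not_mem_symm hv hx hxv (by simpa using (P x).sub_mem hm (hS.mem x hx))
  have h2 := hS.sup_eq hv hx hxv hx hvx h1 (Submodule.mem_sup_right (hS.mem x hx))
    ((P v ⊔ P x).add_mem (Submodule.mem_sup_left (hS.mem v hv)) (Submodule.mem_sup_right (hS.mem x hx)))
  have hwm : w ∈ P x ⊔ P (v + x) := by rw [h2]; exact Submodule.mem_sup_left hw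
  obtain ⟨y, hy, z, hz, hyz⟩ := Submodule.mem_sup.1 hwm
  refine ⟨y, hy, ?_⟩
  rw [← hyz, add_right_comm, add_self_eq_zero', zero_add]
  exact hz

/-- Compatibility passes through a triangle of independent parts. -/
theorem comp_trans {a b c a' b' c' : W} (ha : a ≠ 0) (hb : b ≠ 0) (hc : c ≠ 0) (hab : b ∉ P a)
    (hcab : c ∉ P a ⊔ P b) (ha' : a' ∈ P a) (hb' : b' ∈ P b) (hac : a' + c' ∈ P (a + c))
    (hbc : b' + c' ∈ P (b + c)) : a' + b' ∈ P (a + b) := by
  have hca : c ∉ P a := fun h => hcab (Submodule.mem_sup_left h)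
  have hcb : c ∉ P b := fun h => hcab (Submodule.mem_sup_right h)
  have hab0 := hS.add_ne_zero_of_not_mem ha hab
  have hac0 := hS.add_ne_zero_of_not_mem ha hca
  have hbc0 := hS.add_ne_zero_of_not_mem hb hcb
  by_cases hz : a' + b' = 0
  · rw [hz]; exact (P (a + b)).zero_mem
  have hz2 : a' + b' ∈ P (a + c) ⊔ P (b + c) := by
    have h1 := Submodule.add_mem_sup hac hbc
    rwa [add_add_add_comm, add_self_eq_zero', add_zero] at h1
  by_contra hne
  have e1 := hS.sup_eq ha hb hab hab0 hz hne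
    (Submodule.add_mem_sup (hS.mem a ha) (hS.mem b hb)) (Submodule.add_mem_sup ha' hb')
  have hab2 : a + b ∈ P (a + c) ⊔ P (b + c) := by
    have h1 := Submodule.add_mem_sup (hS.mem _ hac0) (hS.mem _ hbc0)
    rwa [add_add_add_comm, add_self_eq_zero', add_zero] at h1
  have hne2 : b + c ∉ P (a + c) := by
    intro hm
    have h1 : a + b ∈ P (a + c) := by
      have := (P (a + c)).add_mem (hS.mem _ hac0) hm
      rwa [add_add_add_comm, add_self_eq_zero', add_zero] at this
    have h2 : P (a + c) ≤ P a ⊔ P b := by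
      rw [← hS.eq_of_mem _ _ hac0 hab0 h1]
      exact hS.geom a b _ ha hb hab0 (Submodule.add_mem_sup (hS.mem a ha) (hS.mem b hb))
    exact hcab (by simpa using (P a ⊔ P b).sub_mem (h2 (hS.mem _ hac0)) (Submodule.mem_sup_left (hS.mem a ha)))
  have e2 := hS.sup_eq hac0 hbc0 hne2 hab0 hz hne hab2 hz2
  have h3 : a + c ∈ P a ⊔ P b := by
    rw [← e1, e2]; exact Submodule.mem_sup_left (hS.mem _ hac0)
  exact hcab (by simpa using (P a ⊔ P b).sub_mem h3 (Submodule.mem_sup_left (hS.mem a ha)))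

theorem partner_unique {v x w y y' : W} (hv : v ≠ 0) (hx : x ≠ 0) (hxv : x ∉ P v) (hy : y ∈ P x)
    (hy' : y' ∈ P x) (h : w + y ∈ P (v + x)) (h' : w + y' ∈ P (v + x)) : y = y' := by
  have h1 : y - y' ∈ P (v + x) := by simpa using (P (v + x)).sub_mem h h'
  have hne : v + x ∉ P x := fun hm =>
    hS.not_mem_symm hv hx hxv (by simpa using (P x).sub_mem hm (hS.mem x hx))
  exact sub_eq_zero.1 (hS.inter_eq_zero hx (hS.add_ne_zero_of_not_mem hv hxv) hne ((P x).sub_mem hy hy') h1)

theorem exists_outside {a b : W} (ha : a ≠ 0) (hb : b ≠ 0) : ∃ c, c ≠ 0 ∧ c ∉ P a ⊔ P b := by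
  obtain ⟨c, hc⟩ := hS.big a b ha hb
  exact ⟨c, fun e => hc (e ▸ Submodule.zero_mem _), hc⟩

theorem not_mem_sup_iff {a b c : W} (ha : a ≠ 0) (hb : b ≠ 0) (hc : c ≠ 0) (hab : b ∉ P a)
    (h : c ∉ P a ⊔ P b) : b ∉ P a ⊔ P c := fun hm => by
  have e := hS.sup_eq ha hc (fun h' => h (Submodule.mem_sup_left h')) ha hb hab
    (Submodule.mem_sup_left (hS.mem a ha)) hm
  exact h (e ▸ Submodule.mem_sup_right (hS.mem c hc))

/-- Some element of the kernel moves a vector to any vector of its part. -/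
theorem exists_kernel {v w : W} (hv : v ≠ 0) (hw : w ∈ P v) : ∃ φ ∈ hS.kernel, φ v = w := by
  classical
  obtain ⟨c, hc, hcv⟩ := hS.exists_outside hv hv
  rw [sup_idem] at hcv
  obtain ⟨c', hc', hcc⟩ := hS.exists_partner hv hc hcv hw
  let T : W → W := fun x =>
    if x = 0 then 0 else
      if h : x ∈ P v then (if h' : ∃ y, y ∈ P x ∧ c' + y ∈ P (c + x) then h'.choose else 0)
      else (if h' : ∃ y, y ∈ P x ∧ w + y ∈ P (v + x) then h'.choose else 0)
  have hTv : ∀ x, x ≠ 0 → x ∉ P v → T x ∈ P x ∧ w + T x ∈ P (v + x) := by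
    intro x hx hxv
    have h' := hS.exists_partner hv hx hxv hw
    simp only [T, if_neg hx, dif_neg hxv, dif_pos h']
    exact h'.choose_spec
  have hTin : ∀ x, x ≠ 0 → x ∈ P v → T x ∈ P x ∧ c' + T x ∈ P (c + x) := by
    intro x hx hxv
    have hxc : x ∉ P c := fun h => hcv (hS.eq_of_mem v x hv hx hxv ▸
      (hS.eq_of_mem c x hc hx h).symm ▸ hS.mem c hc)
    have h' := hS.exists_partner hc hx hxc hc'
    simp only [T, if_neg hx, dif_pos hxv, dif_pos h']
    exact h'.choose_spec
  have hT0 : T 0 = 0 := by simp [T]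
  have hTmem : ∀ x, x ≠ 0 → T x ∈ P x := fun x hx => by
    by_cases h : x ∈ P v
    exacts [(hTin x hx h).1, (hTv x hx h).1]
  have hTc : T c = c' := hS.partner_unique hv hc hcv (hTv c hc hcv).1 hc' (hTv c hc hcv).2 hcc
  have hTvv : T v = w := by
    have hvc : v ∉ P c := hS.not_mem_symm hv hc hcv
    refine hS.partner_unique hc hv hvc (hTin v hv (hS.mem v hv)).1 hw (hTin v hv (hS.mem v hv)).2 ?_
    rwa [add_comm c' w, add_comm c v]
  have hout : ∀ a b, a ≠ 0 → b ≠ 0 → a ∉ P v → b ∉ P v → b ∉ P a → T a + T b ∈ P (a + b) := by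
    intro a b ha hb hav hbv hba
    by_cases h : v ∈ P a ⊔ P b
    · obtain ⟨e, he, hev⟩ := hS.exists_outside ha hb
      have hev' : e ∉ P v := fun hm => hev
        (hS.geom a b v ha hb hv h hm)
      have hpair : ∀ z, z ≠ 0 → z ∉ P v → z ∈ P a ⊔ P b → T z + T e ∈ P (z + e) := by
        intro z hz hzv hzm
        have hez : e ∉ P z := fun hm => hev (hS.geom a b z ha hb hz hzm hm)
        refine hS.comp_trans hz he hv hez (fun hm => ?_) (hTmem z hz) (hTmem e he)
          (c' := w) (by rw [add_comm (T z), add_comm z]; exact (hTv z hz hzv).2)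
          (by rw [add_comm (T e), add_comm e]; exact (hTv e he hev').2)
        have e1 := hS.sup_eq hz he hez hz hv (hS.not_mem_symm hv hz hzv)
          (Submodule.mem_sup_left (hS.mem z hz)) hm
        exact hev ((sup_le (hS.geom a b z ha hb hz hzm) (hS.geom a b v ha hb hv h))
          (e1.symm ▸ Submodule.mem_sup_right (hS.mem e he)))
      exact hS.comp_trans ha hb he hba hev (hTmem a ha) (hTmem b hb)
        (hpair a ha hav (Submodule.mem_sup_left (hS.mem a ha)))
        (hpair b hb hbv (Submodule.mem_sup_right (hS.mem b hb)))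
    · exact hS.comp_trans ha hb hv hba h (hTmem a ha) (hTmem b hb)
        (c' := w) (by rw [add_comm (T a), add_comm a]; exact (hTv a ha hav).2)
        (by rw [add_comm (T b), add_comm b]; exact (hTv b hb hbv).2)
  have hin : ∀ a b, a ≠ 0 → b ≠ 0 → a ∈ P v → b ∉ P v → T a + T b ∈ P (a + b) := by
    intro a b ha hb hav hbv
    have hPa : P a = P v := hS.eq_of_mem v a hv ha hav
    have hba : b ∉ P a := hPa ▸ hbv
    have hcase : ∀ z, z ≠ 0 → z ∉ P a ⊔ P c → T a + T z ∈ P (a + z) := by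
      intro z hz hzm
      have hzv : z ∉ P v := fun h => hzm (Submodule.mem_sup_left (hPa.symm ▸ h))
      have hzc : z ∉ P c := fun h => hzm (Submodule.mem_sup_right h)
      have hza : z ∉ P a := hPa.symm ▸ hzv
      refine hS.comp_trans ha hz hc hza (hS.not_mem_sup_iff ha hc hz (hPa.symm ▸ hcv) hzm)
        (hTmem a ha) (hTmem z hz) (c' := c') ?_ ?_
      · rw [add_comm (T a), add_comm a]; exact (hTin a ha hav).2
      · rw [← hTc]
        exact hout z c hz hc hzv hcv (hS.not_mem_symm hc hz hzc)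
    by_cases h : b ∈ P a ⊔ P c
    · obtain ⟨e, he, hev⟩ := hS.exists_outside ha hc
      have hev' : e ∉ P v := fun hm => hev (Submodule.mem_sup_left (hPa.symm ▸ hm))
      have heb : e ∉ P a ⊔ P b := fun hm =>
        hev ((sup_le le_sup_left (hS.geom a c b ha hc hb h)) hm)
      exact hS.comp_trans ha hb he hba heb (hTmem a ha) (hTmem b hb) (hcase e he hev)
        (hout b e hb he hbv hev' fun hm => heb (Submodule.mem_sup_right hm))
    · exact hcase b hb h
  have hcomp : ∀ a b, a ≠ 0 → b ≠ 0 → b ∉ P a → T a + T b ∈ P (a + b) := by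
    intro a b ha hb hba
    by_cases hav : a ∈ P v
    · exact hin a b ha hb hav (hS.eq_of_mem v a hv ha hav ▸ hba)
    by_cases hbv : b ∈ P v
    · rw [add_comm (T a), add_comm a]
      exact hin b a hb ha hbv hav
    exact hout a b ha hb hav hbv hba
  have hadd : ∀ a b, a ≠ 0 → b ≠ 0 → b ∉ P a → T (a + b) = T a + T b := by
    intro a b ha hb hba
    have hab := hS.add_ne_zero_of_not_mem ha hba
    have hab' : a ∉ P b := hS.not_mem_symm ha hb hba
    have h1 := hcomp a (a + b) ha hab (hS.add_not_mem ha hba)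
    rw [← add_assoc, add_self_eq_zero', zero_add] at h1
    have h2 := hcomp b (a + b) hb hab (by rw [add_comm]; exact hS.add_not_mem hb hab')
    rw [add_comm a b, ← add_assoc b b a, add_self_eq_zero', zero_add, add_comm b a] at h2
    have h3 : T (a + b) + (T a + T b) = 0 := by
      refine hS.inter_eq_zero ha hb hba ?_ ?_
      · rw [show T (a + b) + (T a + T b) = (T b + T (a + b)) + T a by abel]
        exact (P a).add_mem h2 (hTmem a ha)
      · rw [show T (a + b) + (T a + T b) = (T a + T (a + b)) + T b by abel]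
        exact (P b).add_mem h1 (hTmem b hb)
    calc T (a + b) = T (a + b) + ((T a + T b) + (T a + T b)) := by rw [add_self_eq_zero', add_zero]
      _ = T a + T b := by rw [← add_assoc, h3, zero_add]
  have hadd' : ∀ a b, T (a + b) = T a + T b := by
    intro a b
    by_cases ha : a = 0
    · rw [ha, zero_add, hT0, zero_add]
    by_cases hb : b = 0
    · rw [hb, add_zero, hT0, add_zero]
    by_cases hba : b ∈ P a
    swap
    · exact hadd a b ha hb hba
    obtain ⟨e, he, hea⟩ := hS.exists_outside ha ha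
    rw [sup_idem] at hea
    have heb : e ∉ P b := (hS.eq_of_mem a b ha hb hba).symm ▸ hea
    have hbe := hS.add_ne_zero_of_not_mem hb heb
    have hbea : b + e ∉ P a := fun hm => hea (by simpa using (P a).sub_mem hm hba)
    have h1 : T (a + b + e) = T a + (T b + T e) := by
      rw [add_assoc, hadd a (b + e) ha hbe hbea, hadd b e hb he heb]
    by_cases hab : a + b = 0
    · rw [hab, zero_add] at h1
      rw [hab, hT0]
      calc (0 : W) = T e + T e := (add_self_eq_zero' _).symm
        _ = T a + T b := by nth_rw 1 [h1]; rw [add_assoc, add_assoc, add_self_eq_zero', add_zero]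
    · have hab' : e ∉ P (a + b) :=
        (hS.eq_of_mem a _ ha hab ((P a).add_mem (hS.mem a ha) hba)).symm ▸ hea
      rw [hadd (a + b) e hab he hab', ← add_assoc] at h1
      exact add_right_cancel h1
  let φ : Module.End (ZMod 2) W := (AddMonoidHom.mk' T hadd').toZModLinearMap 2
  exact ⟨φ, fun x hx => hTmem x hx, hTvv⟩

theorem eq_zero_of_apply {φ : Module.End (ZMod 2) W} (hφ : φ ∈ hS.kernel) {v : W} (hv : v ≠ 0)
    (h : φ v = 0) : φ = 0 := by
  have hout : ∀ x, x ∉ P v → φ x = 0 := by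
    intro x hxv
    have hx : x ≠ 0 := fun e => hxv (e ▸ (P v).zero_mem)
    have h1 := hφ (v + x) (hS.add_ne_zero_of_not_mem hv hxv)
    rw [map_add, h, zero_add] at h1
    exact hS.inter_eq_zero hx (hS.add_ne_zero_of_not_mem hv hxv)
      (fun hm => hS.not_mem_symm hv hx hxv (by simpa using (P x).sub_mem hm (hS.mem x hx))) (hφ x hx) h1
  refine LinearMap.ext fun x => ?_
  by_cases hxv : x ∈ P v
  · obtain ⟨c, hc, hcv⟩ := hS.exists_outside hv hv
    rw [sup_idem] at hcv
    have h1 := hout (x + c) fun hm => hcv (by simpa using (P v).sub_mem hm hxv)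
    rwa [map_add, hout c hcv, add_zero] at h1
  · exact hout x hxv

theorem eval_bijective {v : W} (hv : v ≠ 0) :
    Function.Bijective fun φ : hS.kernel => (⟨φ.1 v, φ.2 v hv⟩ : P v) := by
  refine ⟨fun φ ψ h => Subtype.ext (sub_eq_zero.1 (hS.eq_zero_of_apply (hS.kernel.sub_mem φ.2 ψ.2) hv ?_)),
    fun w => ?_⟩
  · rw [LinearMap.sub_apply, sub_eq_zero]
    exact congrArg Subtype.val h
  · obtain ⟨φ, hφ, h⟩ := hS.exists_kernel hv w.2
    exact ⟨⟨φ, hφ⟩, Subtype.ext h⟩

theorem card_kernel {v : W} (hv : v ≠ 0) : Nat.card hS.kernel = 2 ^ f := by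
  rw [Nat.card_congr (Equiv.ofBijective _ (hS.eval_bijective hv)),
    Module.natCard_eq_pow_finrank (K := ZMod 2), Nat.card_zmod, hS.rank v hv]

theorem isField (hW : ∃ v : W, v ≠ 0) : IsField hS.kernel := by
  obtain ⟨v, hv⟩ := hW
  haveI : Finite (Module.End (ZMod 2) W) :=
    Finite.of_injective (fun φ => (φ : W → W)) DFunLike.coe_injective
  haveI : Nontrivial hS.kernel := ⟨⟨0, 1, fun e => hv (by
    have := congrArg (fun φ : hS.kernel => φ.1 v) e
    simpa using this.symm)⟩⟩
  haveI : IsDomain hS.kernel := by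
    refine @NoZeroDivisors.to_isDomain _ _ _ ⟨fun {φ ψ} h => ?_⟩
    by_cases h0 : ψ.1 v = 0
    · exact Or.inr (Subtype.ext (hS.eq_zero_of_apply ψ.2 hv h0))
    · refine Or.inl (Subtype.ext (hS.eq_zero_of_apply φ.2 h0 ?_))
      simpa using congrArg (fun χ : hS.kernel => χ.1 v) h
  exact (Finite.isDomain_to_isField hS.kernel)

/-- A linear equivalence permuting the parts normalises the kernel. -/
theorem conj_mem {g : W ≃ₗ[ZMod 2] W} (hg : ∀ v x : W, x ∈ P v → g x ∈ P (g v))
    {φ : Module.End (ZMod 2) W} (hφ : φ ∈ hS.kernel) :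
    g.conjRingEquiv φ ∈ hS.kernel := by
  intro x hx
  have hx' : g.symm x ≠ 0 := fun e => hx (by simpa using congrArg g e)
  have := hg _ _ (hφ _ hx')
  rwa [g.apply_symm_apply] at this

/-- The automorphism of the kernel induced by a linear equivalence permuting the parts. -/
noncomputable def sigma {g : W ≃ₗ[ZMod 2] W} (hg : ∀ v x : W, x ∈ P v → g x ∈ P (g v)) :
    hS.kernel →+* hS.kernel :=
  (g.conjRingEquiv.toRingHom.comp hS.kernel.subtype).codRestrict hS.kernel fun φ => hS.conj_mem hg φ.2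

theorem apply_smul {g : W ≃ₗ[ZMod 2] W} (hg : ∀ v x : W, x ∈ P v → g x ∈ P (g v)) (φ : hS.kernel) (x : W) :
    g (φ.1 x) = (hS.sigma hg φ).1 (g x) := by
  show g (φ.1 x) = g (φ.1 (g.symm (g x)))
  rw [g.symm_apply_apply]

/-- Antiflag transitivity leaves parts of dimension at most two. -/
theorem galois_bound (hne : ∃ v : W, v ≠ 0) (G : Subgroup (W ≃ₗ[ZMod 2] W)) (hGP : ∀ g ∈ G, ∀ v x : W, x ∈ P v → g x ∈ P (g v))
    (hG : ∀ (v v' : W) (φ φ' : Module.Dual (ZMod 2) W), φ v = 1 → φ' v' = 1 →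
      ∃ g ∈ G, g v = v' ∧ φ'.comp g.toLinearMap = φ) : f ≤ 2 := by
  classical
  obtain ⟨v, hv⟩ := hne
  have hev : ∃ φ : Module.Dual (ZMod 2) W, φ v = 1 := by
    obtain ⟨φ, hφ⟩ := Module.Projective.exists_dual_ne_zero (ZMod 2) hv
    exact ⟨φ, ((Fin.exists_fin_two).1 ⟨φ v, rfl⟩ : φ v = 0 ∨ φ v = 1).resolve_left hφ⟩
  obtain ⟨φ₀, hφ₀⟩ := hev
  let vP : P v := ⟨v, hS.mem v hv⟩
  let D₁ := {ψ : Module.Dual (ZMod 2) (P v) // ψ vP = 1}
  let D₀ := {ψ : Module.Dual (ZMod 2) (P v) // ψ vP = 0}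
  haveI : Finite (Module.Dual (ZMod 2) (P v)) :=
    Finite.of_injective (fun φ => (φ : P v → ZMod 2)) DFunLike.coe_injective
  have hcard : 2 * Nat.card D₁ = 2 ^ f := by
    have h1 : Nat.card D₁ = Nat.card D₀ := Nat.card_congr
      { toFun := fun ψ => ⟨ψ.1 + φ₀.comp (P v).subtype, by
          show ψ.1 vP + φ₀ v = 0
          rw [ψ.2, hφ₀]; rfl⟩
        invFun := fun ψ => ⟨ψ.1 + φ₀.comp (P v).subtype, by
          show ψ.1 vP + φ₀ v = 1
          rw [ψ.2, hφ₀]; rfl⟩
        left_inv := fun ψ => Subtype.ext (by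
          show ψ.1 + φ₀.comp (P v).subtype + φ₀.comp (P v).subtype = ψ.1
          rw [add_assoc, add_self_eq_zero', add_zero])
        right_inv := fun ψ => Subtype.ext (by
          show ψ.1 + φ₀.comp (P v).subtype + φ₀.comp (P v).subtype = ψ.1
          rw [add_assoc, add_self_eq_zero', add_zero]) }
    have h2 : Nat.card (Module.Dual (ZMod 2) (P v)) = 2 ^ f := by
      rw [Module.natCard_eq_pow_finrank (K := ZMod 2), Nat.card_zmod, Subspace.dual_finrank_eq, hS.rank v hv]
    haveI := Fintype.ofFinite (Module.Dual (ZMod 2) (P v))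
    have h3 : Nat.card (Module.Dual (ZMod 2) (P v)) = Nat.card D₁ + Nat.card D₀ := by
      rw [← Nat.card_sum]
      refine Nat.card_congr ((Equiv.sumCompl (fun ψ : Module.Dual (ZMod 2) (P v) => ψ vP = 1)).symm.trans
        (Equiv.sumCongr (Equiv.refl _) (Equiv.subtypeEquivRight fun ψ => ?_)))
      generalize ψ vP = z
      revert z
      exact Fin.forall_fin_two.2 ⟨iff_of_true zero_ne_one rfl, iff_of_false (fun h => h rfl) one_ne_zero⟩
    omega
  have hres : Function.Surjective (fun ψ : Module.Dual (ZMod 2) W => ψ.comp (P v).subtype) :=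
    LinearMap.dualMap_surjective_of_injective (P v).injective_subtype
  haveI : Finite (Module.End (ZMod 2) W) :=
    Finite.of_injective (fun φ => (φ : W → W)) DFunLike.coe_injective
  letI : Field hS.kernel := (hS.isField ⟨v, hv⟩).toField
  haveI : Fintype hS.kernel := Fintype.ofFinite _
  have hex : ∀ ψ : D₁, ∃ σ : hS.kernel →+* hS.kernel, ∀ χ : hS.kernel,
      ψ.1 ⟨χ.1 v, χ.2 v hv⟩ = φ₀ ((σ χ).1 v) := by
    intro ψ
    obtain ⟨φ, hφ⟩ := hres ψ.1
    have hφv : φ v = 1 := by rw [← ψ.2, ← hφ]; rfl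
    obtain ⟨g, hg, hgv, hgφ⟩ := hG v v φ φ₀ hφv hφ₀
    refine ⟨hS.sigma (hGP g hg), fun χ => ?_⟩
    rw [← hφ]
    show φ (χ.1 v) = _
    rw [← hgφ]
    show φ₀ (g (χ.1 v)) = _
    rw [hS.apply_smul (hGP g hg), hgv]
  choose σ hσ using hex
  have hinj : Function.Injective σ := by
    intro a b hab
    refine Subtype.ext (LinearMap.ext fun x => ?_)
    obtain ⟨χ, hχ⟩ := (hS.eval_bijective hv).2 x
    rw [← hχ, hσ a χ, hσ b χ, hab]
  haveI : CharP hS.kernel 2 := CharTwo.of_one_ne_zero_of_two_eq_zero one_ne_zero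
    (by
      refine (one_add_one_eq_two (R := hS.kernel)).symm.trans ?_
      exact Subtype.ext (LinearMap.ext fun x => add_self_eq_zero' (W := W) x))
  letI : Algebra (ZMod 2) hS.kernel := ZMod.algebra _ 2
  let alg : (hS.kernel →+* hS.kernel) → (hS.kernel →ₐ[ZMod 2] hS.kernel) := fun τ =>
    { τ with commutes' := fun z => RingHom.congr_fun (RingHom.ext_zmod (τ.comp (algebraMap _ _)) (algebraMap _ _)) z }
  have halg : Function.Injective alg := fun a b h =>
    RingHom.ext fun x => congrArg (fun τ : hS.kernel →ₐ[ZMod 2] hS.kernel => τ x) h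
  have hfr : @Module.finrank (ZMod 2) hS.kernel _ _ Algebra.toModule = f := by
    have h1 : Nat.card hS.kernel = 2 ^ @Module.finrank (ZMod 2) hS.kernel _ _ Algebra.toModule := by
      have h2 := @Module.natCard_eq_pow_finrank (ZMod 2) hS.kernel _ _ Algebra.toModule _
      rwa [Nat.card_zmod] at h2
    exact (Nat.pow_right_injective le_rfl (h1.symm.trans (hS.card_kernel hv)))
  have hle : Nat.card D₁ ≤ f := by
    rw [← hfr]
    refine (Nat.card_le_card_of_injective (alg ∘ σ) (halg.comp hinj)).trans ?_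
    rw [Nat.card_eq_fintype_card]
    exact AlgHom.card_le
  by_contra hf
  have : ∀ k, 3 ≤ k → 2 * k < 2 ^ k := by
    intro k hk
    induction k, hk using Nat.le_induction with
    | base => norm_num
    | succ k hk ih => rw [pow_succ]; omega
  have := this f (by omega)
  omega

end GeomSpread

end Cfsg.Agent.TransLinTwo
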