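import Cfsg.Agent.Lib.Perm.TransLinTwo.Level
import Cfsg.Agent.Lib.Perm.TransLinTwo.JOps
import Cfsg.Agent.Lib.Perm.TransLinTwo.SpreadField

/-!
# The two spread cases of the quotient level

When the special space above a flag depends only on the `i`-space, spreads at the quotient level
lift to blocks partitioning the `i`-spaces.  Half-dimensional spreads die by counting, spreads of
lines over the field with four elements give seven operators `J` with `J ^ 2 + J + 1 = 0`.
-/

set_option autoImplicit false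
set_option linter.unusedSectionVars false
set_option linter.style.haveILetI false

namespace Cfsg.Agent.TransLinTwo

open Module

variable {V : Type*} [AddCommGroup V] [Module (ZMod 2) V] [Finite V]

section Blocks

variable {H : Subgroup (V ≃ₗ[ZMod 2] V)} {i : ℕ} (hT : TupleTrans H i) (hi2 : 2 ≤ i)
  (hi : i < finrank (ZMod 2) V) {A0 : Submodule (ZMod 2) V}
  (hA0 : finrank (ZMod 2) A0 + 2 = i) (hind : LiftIndep H i)
  (hsp : ∀ (A : Submodule (ZMod 2) V) (hA : finrank (ZMod 2) A + 1 = i) (z : V ⧸ A), z ≠ 0 →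
    ∀ u ∈ (levelAF hT hi2 hi A hA).S z, u ≠ 0 →
      (levelAF hT hi2 hi A hA).S u = (levelAF hT hi2 hi A hA).S z)

/-- The hyperplane through `A0` and a point. -/
def ext1 (A0 : Submodule (ZMod 2) V) (x : V) : Submodule (ZMod 2) V :=
  A0 ⊔ Submodule.span (ZMod 2) {x}

/-- The block of a pair. -/
def blk (H : Subgroup (V ≃ₗ[ZMod 2] V)) (A0 : Submodule (ZMod 2) V) (x y : V) :
    Submodule (ZMod 2) V :=
  liftS H (ext1 A0 x) y

theorem mem_ext1_self (x : V) : x ∈ ext1 A0 x :=
  Submodule.mem_sup_right (Submodule.mem_span_singleton_self x)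

theorem le_ext1 (x : V) : A0 ≤ ext1 A0 x := le_sup_left

theorem mem_ext1 {x y : V} : y ∈ ext1 A0 x ↔ y ∈ A0 ∨ y + x ∈ A0 := by
  constructor
  · intro h
    obtain ⟨a, ha, c, hc, rfl⟩ := Submodule.mem_sup.1 h
    obtain ⟨c, rfl⟩ := Submodule.mem_span_singleton.1 hc
    rcases zmod2_cases c with rfl | rfl
    · left; simpa using ha
    · right; rw [one_smul, add_assoc, add_self, add_zero]; exact ha
  · rintro (h | h)
    · exact le_ext1 x h
    · have := Submodule.add_mem _ (le_ext1 x h) (mem_ext1_self (A0 := A0) x)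
      rwa [add_assoc, add_self, add_zero] at this

theorem not_mem_ext1_symm {x y : V} (hx : x ∉ A0) (hy : y ∉ ext1 A0 x) : x ∉ ext1 A0 y := by
  intro h
  rcases mem_ext1.1 h with h | h
  · exact hx h
  · exact hy (mem_ext1.2 (Or.inr (by rwa [add_comm])))

theorem not_mem_of_not_mem_ext1 {x y : V} (hy : y ∉ ext1 A0 x) : y ∉ A0 :=
  fun h => hy (le_ext1 x h)

include hA0

theorem finrank_ext1 {x : V} (hx : x ∉ A0) : finrank (ZMod 2) (ext1 A0 x) + 1 = i := by
  have hle : finrank (ZMod 2) (ext1 A0 x) ≤ finrank (ZMod 2) A0 + 1 := by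
    refine (Submodule.finrank_add_le_finrank_add_finrank _ _).trans ?_
    rw [finrank_span_singleton (fun h : x = 0 => hx (h ▸ A0.zero_mem))]
  have hlt : A0 < ext1 A0 x := lt_of_le_of_ne (le_ext1 x) fun h => hx (h ▸ mem_ext1_self x)
  have := Submodule.finrank_lt_finrank_of_lt hlt
  omega

include hind in
theorem blk_symm {x y : V} (hx : x ∉ A0) (hy : y ∉ ext1 A0 x) : blk H A0 x y = blk H A0 y x := by
  have hy0 := not_mem_of_not_mem_ext1 hy
  let B := ext1 A0 x ⊔ Submodule.span (ZMod 2) {y}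
  have h1 := finrank_ext1 hA0 hx
  have hle : finrank (ZMod 2) B ≤ i := by
    refine (Submodule.finrank_add_le_finrank_add_finrank _ _).trans ?_
    rw [finrank_span_singleton (fun h : y = 0 => hy0 (h ▸ A0.zero_mem))]
    omega
  have hlt : ext1 A0 x < B := lt_of_le_of_ne le_sup_left fun h => hy (h ▸
    (Submodule.mem_sup_right (Submodule.mem_span_singleton_self y) : y ∈ B))
  have := Submodule.finrank_lt_finrank_of_lt hlt
  exact hind _ _ B h1 (finrank_ext1 hA0 hy0) (by omega) le_sup_left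
    (sup_le ((le_ext1 x).trans le_sup_left) le_sup_right) y x
    (Submodule.mem_sup_right (Submodule.mem_span_singleton_self y)) hy
    (Submodule.mem_sup_left (mem_ext1_self x)) (not_mem_ext1_symm hx hy)

include hT hi2 hi

theorem le_blk {x y : V} (hx : x ∉ A0) (hy : y ∉ ext1 A0 x) :
    A0 ≤ blk H A0 x y ∧ x ∈ blk H A0 x y ∧ y ∈ blk H A0 x y :=
  ⟨(le_ext1 x).trans (le_liftS hT hi2 hi (finrank_ext1 hA0 hx) hy),
    le_liftS hT hi2 hi (finrank_ext1 hA0 hx) hy (mem_ext1_self x),
    self_mem_liftS hT hi2 hi (finrank_ext1 hA0 hx) hy⟩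

include hsp in
theorem blk_step {x y y' : V} (hx : x ∉ A0) (hy : y ∉ ext1 A0 x) (hy' : y' ∉ ext1 A0 x)
    (hm : y' ∈ blk H A0 x y) : blk H A0 x y' = blk H A0 x y := by
  have hA := finrank_ext1 hA0 hx
  have hne : ∀ {z : V}, z ∉ ext1 A0 x → (ext1 A0 x).mkQ z ≠ 0 :=
    fun hz h => hz ((Submodule.Quotient.mk_eq_zero _).1 h)
  unfold blk at *
  rw [liftS_eq hT hi2 hi hA hy, Submodule.mem_comap] at hm
  rw [liftS_eq hT hi2 hi hA hy, liftS_eq hT hi2 hi hA hy', hsp _ hA _ (hne hy) _ hm (hne hy')]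

include hind hsp in
theorem blk_eq {x y x' y' : V} (hx : x ∉ A0) (hy : y ∉ ext1 A0 x) (hx' : x' ∉ A0)
    (hy' : y' ∉ ext1 A0 x') (hxm : x' ∈ blk H A0 x y) (hym : y' ∈ blk H A0 x y) :
    blk H A0 x' y' = blk H A0 x y := by
  by_cases h : y' ∈ ext1 A0 x
  · have hx'' : x' ∉ ext1 A0 x := fun h' => by
      rcases mem_ext1.1 h with h | h
      · exact not_mem_of_not_mem_ext1 hy' h
      rcases mem_ext1.1 h' with h' | h'
      · exact hx' h'
      refine hy' (mem_ext1.2 (Or.inr ?_))
      have := A0.add_mem h h'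
      rwa [add_add_add_comm, add_self, add_zero] at this
    have e1 := blk_step hT hi2 hi hA0 hsp hx hy hx'' hxm
    have e2 : blk H A0 x' x = blk H A0 x y := (blk_symm hA0 hind hx hx'').symm.trans e1
    rw [← e2] at hym ⊢
    exact blk_step hT hi2 hi hA0 hsp hx' (not_mem_ext1_symm hx hx'') hy' hym
  · have e1 := blk_step hT hi2 hi hA0 hsp hx hy h hym
    have e2 : blk H A0 y' x = blk H A0 x y := (blk_symm hA0 hind hx h).symm.trans e1
    have hy0 := not_mem_of_not_mem_ext1 hy'
    rw [← e2] at hxm ⊢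
    rw [blk_symm hA0 hind hx' hy']
    exact blk_step hT hi2 hi hA0 hsp hy0 (not_mem_ext1_symm hx h) (not_mem_ext1_symm hx' hy') hxm

end Blocks

open Classical in
/-- The pairs in `K` independent modulo `A0`. -/
noncomputable def pairsIn [Fintype V] (A0 K : Submodule (ZMod 2) V) : Finset (Σ _ : V, V) :=
  (Finset.univ.filter fun x => x ∈ K ∧ x ∉ A0).sigma
    fun x => Finset.univ.filter fun y => y ∈ K ∧ y ∉ ext1 A0 x

theorem card_filter_mem_sdiff [Fintype V] {A K : Submodule (ZMod 2) V} (h : A ≤ K)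
    [DecidablePred fun x => x ∈ K ∧ x ∉ A] :
    (Finset.univ.filter fun x => x ∈ K ∧ x ∉ A).card = Nat.card K - Nat.card A := by
  classical
  rw [show (Finset.univ.filter fun x => x ∈ K ∧ x ∉ A) =
      (Finset.univ.filter fun x => x ∈ K) \ (Finset.univ.filter fun x => x ∈ A) by
    ext x; simp]
  rw [Finset.card_sdiff_of_subset (fun x hx => by
    simp only [Finset.mem_filter, Finset.mem_univ, true_and] at hx ⊢
    exact h hx)]
  rw [Nat.card_eq_fintype_card, Nat.card_eq_fintype_card, Fintype.card_subtype,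
    Fintype.card_subtype]

theorem card_pairsIn [Fintype V] {A0 K : Submodule (ZMod 2) V} (h : A0 ≤ K) {k a : ℕ}
    (hk : finrank (ZMod 2) K = k) (ha : finrank (ZMod 2) A0 = a) :
    (pairsIn A0 K).card = (2 ^ k - 2 ^ a) * (2 ^ k - 2 ^ (a + 1)) := by
  classical
  have hc : ∀ U : Submodule (ZMod 2) V, Nat.card U = 2 ^ finrank (ZMod 2) U := fun U => by
    rw [Module.natCard_eq_pow_finrank (K := ZMod 2), Nat.card_zmod]
  rw [pairsIn, Finset.card_sigma, Finset.sum_congr rfl (g := fun _ => 2 ^ k - 2 ^ (a + 1))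
      (fun x hx => ?_), Finset.sum_const, smul_eq_mul, card_filter_mem_sdiff h, hc, hc, hk, ha]
  simp only [Finset.mem_filter, Finset.mem_univ, true_and] at hx
  have hle : ext1 A0 x ≤ K :=
    sup_le h ((Submodule.span_singleton_le_iff_mem ..).2 hx.1)
  have hx1 := finrank_ext1 (i := a + 2) (by omega : finrank (ZMod 2) A0 + 2 = a + 2) hx.2
  rw [card_filter_mem_sdiff hle, hc, hc, hk, show finrank (ZMod 2) (ext1 A0 x) = a + 1 by omega]

section Cases

variable {H : Subgroup (V ≃ₗ[ZMod 2] V)} {i : ℕ} (hT : TupleTrans H i) (hi2 : 2 ≤ i)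
  (hi : i < finrank (ZMod 2) V) (hind : LiftIndep H i)

include hT hi2 hi in
theorem finrank_liftS_of {A : Submodule (ZMod 2) V} (hA : finrank (ZMod 2) A + 1 = i) {b : V}
    (hb : b ∉ A) {f : ℕ}
    (hr : finrank (ZMod 2) ((levelAF hT hi2 hi A hA).S (A.mkQ b)) = f) :
    finrank (ZMod 2) (liftS H A b) + 1 = f + i := by
  have h1 := finrank_liftS_add hT hi2 hi hA hb
  have h2 := (levelAF hT hi2 hi A hA).finrank_S_add_E (A.mkQ b)
  have h3 := finrank_quot_level hT hi2 hi hA
  omega

include hT hi2 hi hind in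
/-- Half-dimensional spreads are impossible. -/
theorem no_half_spread {f : ℕ} (hf : 2 ≤ f)
    (hsp : ∀ (A : Submodule (ZMod 2) V) (hA : finrank (ZMod 2) A + 1 = i) (z : V ⧸ A), z ≠ 0 →
      ∀ u ∈ (levelAF hT hi2 hi A hA).S z, u ≠ 0 →
        (levelAF hT hi2 hi A hA).S u = (levelAF hT hi2 hi A hA).S z)
    (hrank : ∀ (A : Submodule (ZMod 2) V) (hA : finrank (ZMod 2) A + 1 = i) (z : V ⧸ A), z ≠ 0 →
      finrank (ZMod 2) ((levelAF hT hi2 hi A hA).S z) = f)
    (hd : finrank (ZMod 2) V + 1 = 2 * f + i) : False := by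
  classical
  haveI : Fintype V := Fintype.ofFinite V
  obtain ⟨t, ht, -⟩ := exists_tuple_ge (i - 2) (by omega : i - 2 ≤ finrank (ZMod 2) V) ⊥ (by simp)
  set A0 := Submodule.span (ZMod 2) (Set.range t)
  have hA0 : finrank (ZMod 2) A0 + 2 = i := by
    rw [finrank_span_eq_card ht, Fintype.card_fin]; omega
  set a := finrank (ZMod 2) A0
  have hK : ∀ x y, x ∉ A0 → y ∉ ext1 A0 x →
      finrank (ZMod 2) (blk H A0 x y) = f + 1 + a := by
    intro x y hx hy
    have := finrank_liftS_of hT hi2 hi (finrank_ext1 hA0 hx) hy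
      (hrank _ (finrank_ext1 hA0 hx) _ fun h => hy ((Submodule.Quotient.mk_eq_zero _).1 h))
    unfold blk
    omega
  set P := pairsIn A0 (⊤ : Submodule (ZMod 2) V)
  set φ : (Σ _ : V, V) → Submodule (ZMod 2) V := fun p => blk H A0 p.1 p.2
  have hmem : ∀ {K : Submodule (ZMod 2) V} {p : Σ _ : V, V},
      p ∈ pairsIn A0 K ↔ (p.1 ∈ K ∧ p.1 ∉ A0) ∧ p.2 ∈ K ∧ p.2 ∉ ext1 A0 p.1 := by
    intro K p; simp [pairsIn]
  have hfib : ∀ K ∈ P.image φ, (P.filter fun p => φ p = K).card =
      (2 ^ (f + 1 + a) - 2 ^ a) * (2 ^ (f + 1 + a) - 2 ^ (a + 1)) := by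
    intro K hKm
    obtain ⟨⟨x, y⟩, hxy, rfl⟩ := Finset.mem_image.1 hKm
    obtain ⟨⟨-, hx⟩, -, hy⟩ := hmem.1 hxy
    obtain ⟨h0, -, -⟩ := le_blk hT hi2 hi hA0 hx hy
    rw [← card_pairsIn h0 (hK x y hx hy) rfl]
    congr 1
    ext ⟨x', y'⟩
    rw [Finset.mem_filter, hmem, hmem]
    constructor
    · rintro ⟨⟨⟨-, hx'⟩, -, hy'⟩, e⟩
      obtain ⟨-, h1, h2⟩ := le_blk hT hi2 hi hA0 hx' hy'
      change blk H A0 x' y' = blk H A0 x y at e
      exact ⟨⟨e ▸ h1, hx'⟩, e ▸ h2, hy'⟩
    · rintro ⟨⟨h1, hx'⟩, h2, hy'⟩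
      exact ⟨⟨⟨trivial, hx'⟩, trivial, hy'⟩, blk_eq hT hi2 hi hA0 hind hsp hx hy hx' hy' h1 h2⟩
  have htot := Finset.card_eq_sum_card_image φ P
  rw [Finset.sum_congr rfl hfib, Finset.sum_const, smul_eq_mul,
    card_pairsIn le_top (show finrank (ZMod 2) (⊤ : Submodule (ZMod 2) V) = 2 * f + 1 + a by
      rw [finrank_top]; omega) rfl] at htot
  set N := (P.image φ).card
  -- the arithmetic
  have e1 : ∀ m, 2 ^ (m + 1 + a) - 2 ^ a = (2 ^ (m + 1) - 1) * 2 ^ a := fun m => by
    rw [pow_add, Nat.sub_mul, one_mul]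
  have e2 : ∀ m, 2 ^ (m + 1 + a) - 2 ^ (a + 1) = (2 ^ m - 1) * 2 ^ (a + 1) := fun m => by
    rw [show m + 1 + a = m + (a + 1) by ring, pow_add, Nat.sub_mul, one_mul]
  rw [e1, e2, e1, e2, show 2 ^ (2 * f) - 1 = (2 ^ f + 1) * (2 ^ f - 1) by
    have := Nat.one_le_two_pow (n := f)
    have h2 : 2 ^ (2 * f) = 2 ^ f * 2 ^ f := by rw [two_mul, pow_add]
    have h3 : (2 ^ f + 1) * (2 ^ f - 1) + 1 = 2 ^ f * 2 ^ f := by
      obtain ⟨q, hq⟩ : ∃ q, 2 ^ f = q + 1 := ⟨2 ^ f - 1, by omega⟩
      rw [hq, Nat.add_sub_cancel]; ring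
    omega] at htot
  have hpos : 0 < (2 ^ f - 1) * 2 ^ (a + 1) * 2 ^ a := by
    have : 2 ^ 1 ≤ 2 ^ f := Nat.pow_le_pow_right (by norm_num) (by omega)
    have h2 : 0 < 2 ^ f - 1 := by omega
    positivity
  have key : (2 ^ (2 * f + 1) - 1) * (2 ^ f + 1) = N * (2 ^ (f + 1) - 1) := by
    refine Nat.eq_of_mul_eq_mul_right hpos ?_
    linarith [htot]
  have hcop : Nat.Coprime (2 ^ (f + 1) - 1) (2 ^ (2 * f + 1) - 1) := by
    rw [Nat.coprime_iff_gcd_eq_one, Nat.pow_sub_one_gcd_pow_sub_one]
    have : Nat.gcd (f + 1) (2 * f + 1) = 1 := by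
      have h1 := Nat.gcd_dvd_left (f + 1) (2 * f + 1)
      have h2 := Nat.gcd_dvd_right (f + 1) (2 * f + 1)
      have h3 : Nat.gcd (f + 1) (2 * f + 1) ∣ 2 * (f + 1) := h1.mul_left 2
      have h4 := Nat.dvd_sub h3 h2
      rw [show 2 * (f + 1) - (2 * f + 1) = 1 by omega] at h4
      exact Nat.dvd_one.1 h4
    rw [this]; norm_num
  have hdvd : 2 ^ (f + 1) - 1 ∣ 2 ^ f + 1 := hcop.dvd_of_dvd_mul_left ⟨N, by rw [key]; ring⟩
  have h1 := Nat.le_of_dvd (Nat.succ_pos _) hdvd
  have h2 : 2 ^ 2 ≤ 2 ^ f := Nat.pow_le_pow_right (by norm_num) hf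
  rw [pow_succ] at h1
  omega

include hT hi2 hi hind in
/-- Geometric spreads of lines over the field with four elements are impossible. -/
theorem no_four_spread
    (hG : ∀ (A : Submodule (ZMod 2) V) (hA : finrank (ZMod 2) A + 1 = i),
      GeomSpread (levelAF hT hi2 hi A hA).S 2) : False := by
  classical
  have hsp : ∀ (A : Submodule (ZMod 2) V) (hA : finrank (ZMod 2) A + 1 = i) (z : V ⧸ A), z ≠ 0 →
      ∀ u ∈ (levelAF hT hi2 hi A hA).S z, u ≠ 0 →
        (levelAF hT hi2 hi A hA).S u = (levelAF hT hi2 hi A hA).S z :=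
    fun A hA z hz u hu hu0 => (hG A hA).eq_of_mem z u hz hu0 hu
  obtain ⟨t, ht, -⟩ := exists_tuple_ge (i - 2) (by omega : i - 2 ≤ finrank (ZMod 2) V) ⊥ (by simp)
  set A0 := Submodule.span (ZMod 2) (Set.range t)
  have hA0 : finrank (ZMod 2) A0 + 2 = i := by
    rw [finrank_span_eq_card ht, Fintype.card_fin]; omega
  have hAx : ∀ {x : V}, x ∉ A0 → finrank (ZMod 2) (ext1 A0 x) + 1 = i :=
    fun hx => finrank_ext1 hA0 hx
  obtain ⟨x0, -, hx0⟩ := SetLike.exists_of_lt (show A0 < ⊤ from lt_top_iff_ne_top.2 fun h => by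
    rw [h, finrank_top] at hA0; omega)
  obtain ⟨y0, -, hy0⟩ := SetLike.exists_of_lt (show ext1 A0 x0 < ⊤ from lt_top_iff_ne_top.2 fun h => by
    have := hAx hx0
    rw [h, finrank_top] at this; omega)
  set K := blk H A0 x0 y0
  obtain ⟨hA0K, -, -⟩ := le_blk hT hi2 hi hA0 hx0 hy0
  have hmk0 : ∀ {A : Submodule (ZMod 2) V} {z : V}, z ∉ A → A.mkQ z ≠ 0 :=
    fun hz h => hz ((Submodule.Quotient.mk_eq_zero _).1 h)
  have hKdim : finrank (ZMod 2) K = i + 1 := by
    have := finrank_liftS_of hT hi2 hi (hAx hx0) hy0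
      ((hG _ (hAx hx0)).rank _ (hmk0 hy0))
    unfold K blk
    omega
  -- the kernel element of order three of a spread
  have homega : ∀ (A : Submodule (ZMod 2) V) (hA : finrank (ZMod 2) A + 1 = i),
      ∃ w : Module.End (ZMod 2) (V ⧸ A), (∀ z, w (w z) + w z + z = 0) ∧
        ∀ u, u ≠ 0 → w u ∈ (levelAF hT hi2 hi A hA).S u ∧
          ∀ z ∈ (levelAF hT hi2 hi A hA).S u, z ∈ Submodule.span (ZMod 2) {u} ∨
            z + w u ∈ Submodule.span (ZMod 2) {u} := by
    intro A hA
    set S := (levelAF hT hi2 hi A hA).S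
    have hS := hG A hA
    haveI : Nontrivial (V ⧸ A) := Submodule.Quotient.nontrivial_iff.2 fun h => by
      rw [h, finrank_top] at hA; omega
    obtain ⟨v, hv⟩ := exists_ne (0 : V ⧸ A)
    have span_v : ∀ {u : V ⧸ A}, u ≠ 0 → ∀ {z : V ⧸ A}, z ∉ Submodule.span (ZMod 2) {u} →
        z ≠ 0 ∧ z ≠ u ∧ z + u ≠ 0 := by
      intro u hu z hz
      have h2 : z ≠ u := fun h => hz (by rw [h]; exact Submodule.mem_span_singleton_self u)
      refine ⟨fun h => hz (h ▸ zero_mem _), h2, fun h => h2 ?_⟩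
      have := congrArg (· + u) h
      simpa [add_assoc, add_self_eq_zero'] using this
    obtain ⟨w0, hw0, hw0'⟩ : ∃ w0 ∈ S v, w0 ∉ Submodule.span (ZMod 2) {v} :=
      SetLike.exists_of_lt (lt_of_le_of_ne ((Submodule.span_singleton_le_iff_mem ..).2 (hS.mem v hv))
        fun h => by
          have : finrank (ZMod 2) (S v) = 2 := hS.rank v hv
          rw [← h, finrank_span_singleton hv] at this
          omega)
    obtain ⟨w, hw, hwv⟩ := hS.exists_kernel hv hw0
    obtain ⟨hw00, hw01, hw02⟩ := span_v hv hw0'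
    have hne : ∀ u, u ≠ 0 → w u ∉ Submodule.span (ZMod 2) {u} := by
      intro u hu h
      obtain ⟨c, hc⟩ := Submodule.mem_span_singleton.1 h
      rcases zmod2_cases c with rfl | rfl
      · have := hS.eq_zero_of_apply hw hu (by rw [← hc, zero_smul])
        rw [this] at hwv
        exact hw00 hwv.symm
      · have := hS.eq_zero_of_apply (hS.kernel.add_mem hw hS.kernel.one_mem) hu
          (by rw [LinearMap.add_apply, ← hc, one_smul]; exact add_self_eq_zero' u)
        have := LinearMap.congr_fun this v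
        rw [LinearMap.add_apply, hwv] at this
        exact hw02 this
    have hspan : ∀ u, u ≠ 0 → ∀ z ∈ S u, z ∈ Submodule.span (ZMod 2) {u} ∨
        z + w u ∈ Submodule.span (ZMod 2) {u} := by
      intro u hu z hz
      have he : Submodule.span (ZMod 2) {u} ⊔ Submodule.span (ZMod 2) {w u} = S u := by
        refine Submodule.eq_of_le_of_finrank_le (sup_le
          ((Submodule.span_singleton_le_iff_mem ..).2 (hS.mem u hu))
          ((Submodule.span_singleton_le_iff_mem ..).2 (hw u hu))) ?_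
        rw [hS.rank u hu]
        have hlt : Submodule.span (ZMod 2) {u} <
            Submodule.span (ZMod 2) {u} ⊔ Submodule.span (ZMod 2) {w u} :=
          lt_of_le_of_ne le_sup_left fun h => hne u hu
            (h ▸ Submodule.mem_sup_right (Submodule.mem_span_singleton_self _))
        have := Submodule.finrank_lt_finrank_of_lt hlt
        rw [finrank_span_singleton hu] at this
        omega
      rw [← he] at hz
      obtain ⟨p, hp, q, hq, rfl⟩ := Submodule.mem_sup.1 hz
      obtain ⟨c, rfl⟩ := Submodule.mem_span_singleton.1 hq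
      rcases zmod2_cases c with rfl | rfl
      · left; simpa using hp
      · right; rw [one_smul, add_assoc, add_self_eq_zero', add_zero]; exact hp
    refine ⟨w, ?_, fun u hu => ⟨hw u hu, hspan u hu⟩⟩
    -- the quadratic relation, checked at `v`
    have hsum : w * w + w + 1 ∈ hS.kernel :=
      hS.kernel.add_mem (hS.kernel.add_mem (hS.kernel.mul_mem hw hw) hw) hS.kernel.one_mem
    have hz : (w * w + w + 1) v = 0 := by
      show w (w v) + w v + v = 0
      rw [hwv]
      have hmem : w w0 ∈ S v := by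
        rw [← show S w0 = S v from hS.eq_of_mem v w0 hv hw00 hw0]; exact hw w0 hw00
      have hw0w : w w0 ∉ Submodule.span (ZMod 2) {w0} := hne w0 hw00
      obtain ⟨-, h01, -⟩ := span_v hw00 hw0w
      rcases hspan v hv _ hmem with h | h
      · obtain ⟨c, hc⟩ := Submodule.mem_span_singleton.1 h
        rcases zmod2_cases c with rfl | rfl
        · exact absurd (by rw [← hc, zero_smul]; exact zero_mem _) hw0w
        · rw [one_smul] at hc
          exfalso
          have := hS.eq_zero_of_apply (hS.kernel.mul_mem (hS.kernel.add_mem hw hS.kernel.one_mem)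
            (hS.kernel.add_mem hw hS.kernel.one_mem)) hv (by
            show w (w v + v) + (w v + v) = 0
            rw [map_add, hwv, ← hc, add_comm v w0, add_self_eq_zero'])
          have h2 := LinearMap.congr_fun this (w v + v)
          have h3 : w v + v ≠ 0 := by rw [hwv]; exact hw02
          have h4 := hS.eq_zero_of_apply (hS.kernel.add_mem hw hS.kernel.one_mem) h3 (by
            have h5 := LinearMap.congr_fun this v
            exact h5)
          have := LinearMap.congr_fun h4 v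
          exact h3 this
      · obtain ⟨c, hc⟩ := Submodule.mem_span_singleton.1 h
        rw [hwv] at hc
        rcases zmod2_cases c with rfl | rfl
        · rw [zero_smul] at hc
          have := congrArg (· + w0) hc.symm
          simp only [add_assoc, add_self_eq_zero', add_zero, zero_add] at this
          exact absurd this h01
        · rw [one_smul] at hc
          rw [← hc]; exact add_self_eq_zero' v
    have hzero := hS.eq_zero_of_apply hsum hv hz
    exact fun z => LinearMap.congr_fun hzero z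
  -- the operator of a point of `K`
  have hJ : ∀ a, a ∈ K → a ∉ A0 → ∃ J : Module.End (ZMod 2) (V ⧸ K), (J ^ 2 + J + 1 = 0) ∧
      ∀ x, x ∉ K → ∃ z, K.mkQ z = J (K.mkQ x) ∧ z ∈ blk H A0 a x ∧
        (ext1 A0 a).mkQ z ∉ Submodule.span (ZMod 2) {(ext1 A0 a).mkQ x} := by
    intro a haK ha
    have hle : ext1 A0 a ≤ K := sup_le hA0K ((Submodule.span_singleton_le_iff_mem ..).2 haK)
    obtain ⟨b, hbK, hb⟩ := SetLike.exists_of_lt (lt_of_le_of_ne hle fun h => by
      have := hAx ha
      rw [h, hKdim] at this; omega)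
    obtain ⟨w, hw2, hwS⟩ := homega _ (hAx ha)
    set S := (levelAF hT hi2 hi (ext1 A0 a) (hAx ha)).S
    set π := (ext1 A0 a).mapQ K LinearMap.id (by simpa using hle)
    have hπ : ∀ y, π ((ext1 A0 a).mkQ y) = K.mkQ y := fun y => rfl
    have hKS : K = (S ((ext1 A0 a).mkQ b)).comap (ext1 A0 a).mkQ := by
      rw [← liftS_eq hT hi2 hi (hAx ha) hb]
      exact (blk_eq hT hi2 hi hA0 hind hsp hx0 hy0 ha hb haK hbK).symm
    have hker : ∀ q, π q = 0 → q ∈ S ((ext1 A0 a).mkQ b) := by
      intro q hq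
      obtain ⟨y, rfl⟩ := (ext1 A0 a).mkQ_surjective q
      rw [hπ] at hq
      have := (Submodule.Quotient.mk_eq_zero K).1 hq
      rwa [hKS, Submodule.mem_comap] at this
    have hinv : K ≤ LinearMap.ker (π ∘ₗ w ∘ₗ (ext1 A0 a).mkQ) := by
      intro y hy
      show π (w ((ext1 A0 a).mkQ y)) = 0
      rw [hKS, Submodule.mem_comap] at hy
      set q := (ext1 A0 a).mkQ y
      by_cases hq : q = 0
      · rw [hq, map_zero, map_zero]
      have h1 := (hwS q hq).1
      change w q ∈ S q at h1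
      rw [show S q = S ((ext1 A0 a).mkQ b) from (hG _ (hAx ha)).eq_of_mem _ q (hmk0 hb) hq hy] at h1
      obtain ⟨y', hy'⟩ := (ext1 A0 a).mkQ_surjective (w q)
      rw [← hy', hπ]
      refine (Submodule.Quotient.mk_eq_zero K).2 ?_
      rw [hKS, Submodule.mem_comap, hy']
      exact h1
    refine ⟨K.liftQ _ hinv, LinearMap.ext fun q => ?_, fun x hx => ?_⟩
    · obtain ⟨y, rfl⟩ := K.mkQ_surjective q
      obtain ⟨y', hy'⟩ := (ext1 A0 a).mkQ_surjective (w ((ext1 A0 a).mkQ y))
      have e1 : (K.liftQ _ hinv) (K.mkQ y) = K.mkQ y' := by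
        show π (w ((ext1 A0 a).mkQ y)) = _
        rw [← hy', hπ]
      rw [pow_two]
      show (K.liftQ _ hinv) ((K.liftQ _ hinv) (K.mkQ y)) + (K.liftQ _ hinv) (K.mkQ y) + K.mkQ y = 0
      rw [e1]
      show π (w ((ext1 A0 a).mkQ y')) + K.mkQ y' + K.mkQ y = 0
      rw [← hπ y', ← hπ y, hy', ← map_add, ← map_add, hw2, map_zero]
    · have hxa : x ∉ ext1 A0 a := fun h => hx (hle h)
      obtain ⟨y', hy'⟩ := (ext1 A0 a).mkQ_surjective (w ((ext1 A0 a).mkQ x))
      refine ⟨y', ?_, ?_, ?_⟩
      · show _ = π (w ((ext1 A0 a).mkQ x))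
        rw [← hy', hπ]
      · unfold blk
        rw [liftS_eq hT hi2 hi (hAx ha) hxa, Submodule.mem_comap, hy']
        exact (hwS _ (hmk0 hxa)).1
      · rw [hy']
        intro h
        obtain ⟨c, hc⟩ := Submodule.mem_span_singleton.1 h
        have h2 := hw2 ((ext1 A0 a).mkQ x)
        rcases zmod2_cases c with rfl | rfl
        · rw [← hc, zero_smul, map_zero, zero_add, zero_add] at h2
          exact hmk0 hxa h2
        · rw [one_smul] at hc
          rw [← hc, ← hc, add_self_eq_zero', zero_add] at h2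
          exact hmk0 hxa h2
  choose! J hJq hJx using hJ
  -- additivity up to `0, 1`
  have hadd : ∀ a b, a ∈ K → b ∈ K → a ∉ A0 → b ∉ A0 → a + b ∉ A0 →
      J (a + b) + J a + J b = 0 ∨ J (a + b) + J a + J b = 1 := by
    intro a b haK hbK ha hb hab
    set T := J (a + b) + J a + J b
    have hline : ∀ q, T q = 0 ∨ T q = q := by
      intro q
      obtain ⟨x, rfl⟩ := K.mkQ_surjective q
      by_cases hx : x ∈ K
      · left; rw [show K.mkQ x = 0 from (Submodule.Quotient.mk_eq_zero K).2 hx, map_zero]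
      have hxA0 : x ∉ A0 := fun h => hx (hA0K h)
      obtain ⟨w, -, hwS⟩ := homega _ (hAx hxA0)
      set M := K ⊔ Submodule.span (ZMod 2) {x}
      have hleM : ext1 A0 x ≤ M := sup_le (hA0K.trans le_sup_left) le_sup_right
      set π := (ext1 A0 x).mapQ M LinearMap.id (by simpa using hleM)
      have key : ∀ c, c ∈ K → c ∉ A0 →
          ∃ z, K.mkQ z = J c (K.mkQ x) ∧ M.mkQ z = π (w ((ext1 A0 x).mkQ c)) := by
        intro c hcK hc
        obtain ⟨z, hz1, hz2, hz3⟩ := hJx c hcK hc x hx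
        refine ⟨z, hz1, ?_⟩
        have hxc : x ∉ ext1 A0 c := fun h => hx
          (sup_le hA0K ((Submodule.span_singleton_le_iff_mem ..).2 hcK) h)
        rw [blk_symm hA0 hind hc hxc] at hz2
        unfold blk at hz2
        have hcx := not_mem_ext1_symm hc hxc
        rw [liftS_eq hT hi2 hi (hAx hxA0) hcx, Submodule.mem_comap] at hz2
        have hπc : ∀ q ∈ Submodule.span (ZMod 2) {(ext1 A0 x).mkQ c}, π q = 0 := by
          intro q hq
          obtain ⟨e, rfl⟩ := Submodule.mem_span_singleton.1 hq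
          rw [map_smul, show π ((ext1 A0 x).mkQ c) = M.mkQ c from rfl,
            show M.mkQ c = 0 from (Submodule.Quotient.mk_eq_zero M).2 (Submodule.mem_sup_left hcK),
            smul_zero]
        rcases (hwS _ (hmk0 hcx)).2 _ hz2 with h | h
        · exfalso
          obtain ⟨e, he⟩ := Submodule.mem_span_singleton.1 h
          have hzm : z + e • c ∈ ext1 A0 x := by
            rw [← sub_eq_add', ← Submodule.Quotient.eq]
            exact he.symm
          refine hz3 ?_
          rcases mem_ext1.1 hzm with h1 | h1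
          · refine (?_ : (ext1 A0 c).mkQ z = 0) ▸ zero_mem _
            refine (Submodule.Quotient.mk_eq_zero _).2 ?_
            have := Submodule.add_mem _ (le_ext1 c h1) (Submodule.smul_mem _ e (mem_ext1_self c))
            rwa [add_assoc, add_self, add_zero] at this
          · refine (?_ : (ext1 A0 c).mkQ z = (ext1 A0 c).mkQ x) ▸
              Submodule.mem_span_singleton_self _
            refine (Submodule.Quotient.eq _).2 ?_
            rw [sub_eq_add']
            have := Submodule.add_mem _ (le_ext1 c h1) (Submodule.smul_mem _ e (mem_ext1_self c))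
            rwa [show z + e • c + x + e • c = z + x + (e • c + e • c) by abel, add_self,
              add_zero] at this
        · have h0 := hπc _ h
          rw [map_add] at h0
          have := congrArg (· + π (w ((ext1 A0 x).mkQ c))) h0
          simp only [add_assoc, add_self_eq_zero', add_zero, zero_add] at this
          exact this
      obtain ⟨z1, e1, f1⟩ := key (a + b) (K.add_mem haK hbK) hab
      obtain ⟨z2, e2, f2⟩ := key a haK ha
      obtain ⟨z3, e3, f3⟩ := key b hbK hb
      have hTz : T (K.mkQ x) = K.mkQ (z1 + z2 + z3) := by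
        rw [map_add, map_add, e1, e2, e3]; rfl
      have hMz : M.mkQ (z1 + z2 + z3) = 0 := by
        rw [map_add, map_add, f1, f2, f3]
        simp only [map_add]
        rw [add_assoc, add_self_eq_zero']
      obtain ⟨k, hk, c, hc, e⟩ := Submodule.mem_sup.1 ((Submodule.Quotient.mk_eq_zero M).1 hMz)
      obtain ⟨c, rfl⟩ := Submodule.mem_span_singleton.1 hc
      rw [hTz, ← e, map_add, show K.mkQ k = 0 from (Submodule.Quotient.mk_eq_zero K).2 hk, zero_add,
        map_smul]
      rcases zmod2_cases c with rfl | rfl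
      · left; rw [zero_smul]
      · right; rw [one_smul]
    by_cases h0 : ∀ q, T q = 0
    · exact Or.inl (LinearMap.ext h0)
    push Not at h0
    obtain ⟨y, hy⟩ := h0
    have hy1 : T y = y := (hline y).resolve_left hy
    refine Or.inr (LinearMap.ext fun q => ?_)
    rcases hline q with h | h
    · rcases hline (q + y) with h' | h'
      · rw [map_add, h, hy1, zero_add] at h'
        exact absurd (hy1.trans h') hy
      · rw [map_add, h, hy1, zero_add] at h'
        rw [show q = 0 from add_eq_right.1 h'.symm, map_zero]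
        rfl
    · exact h
  -- coordinates on `K / A0`
  obtain ⟨C, hC⟩ := (Submodule.comap K.subtype A0).exists_isCompl
  have hCdim : finrank (ZMod 2) C = 3 := by
    have h1 := Submodule.finrank_add_eq_of_isCompl hC
    rw [(Submodule.comapSubtypeEquivOfLe hA0K).finrank_eq, hKdim] at h1
    omega
  let e : (Fin 3 → ZMod 2) ≃ₗ[ZMod 2] C := ((Module.finBasisOfFinrankEq (ZMod 2) C hCdim).equivFun).symm
  set g : (Fin 3 → ZMod 2) →ₗ[ZMod 2] V := K.subtype ∘ₗ C.subtype ∘ₗ e.toLinearMap
  have hgK : ∀ c, g c ∈ K := fun c => ((e c : C) : K).2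
  have hgA : ∀ c, c ≠ 0 → g c ∉ A0 := by
    intro c hc h
    have h0 : ((e c : C) : K) ∈ Submodule.comap K.subtype A0 ⊓ C := ⟨h, (e c).2⟩
    rw [hC.inf_eq_bot, Submodule.mem_bot] at h0
    exact hc (e.map_eq_zero_iff.1 (Subtype.ext h0))
  haveI : Nontrivial (V ⧸ K) := Submodule.Quotient.nontrivial_iff.2 fun h => by
    obtain ⟨z, hz⟩ := (hG _ (hAx hx0)).big _ _ (hmk0 hy0) (hmk0 hy0)
    obtain ⟨z, rfl⟩ := (ext1 A0 x0).mkQ_surjective z
    refine hz (Submodule.mem_sup_left ?_)
    have hzK : z ∈ K := h ▸ Submodule.mem_top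
    unfold K blk at hzK
    rwa [liftS_eq hT hi2 hi (hAx hx0) hy0, Submodule.mem_comap] at hzK
  have htwo : ∀ T : Module.End (ZMod 2) (V ⧸ K), T + T = 0 := fun T =>
    LinearMap.ext fun q => add_self_eq_zero' (T q)
  haveI : CharP (Module.End (ZMod 2) (V ⧸ K)) 2 :=
    CharTwo.of_one_ne_zero_of_two_eq_zero one_ne_zero ((one_add_one_eq_two).symm.trans (htwo 1))
  refine no_seven_omega (fun c => if c = 0 then 0 else J (g c))
    (fun c hc => by simp only [if_neg hc]; exact hJq _ (hgK c) (hgA c hc)) (fun c c' => ?_)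
  rw [CharTwo.sub_eq_add]
  by_cases hc : c = 0
  · left; rw [hc, zero_add, if_pos rfl, zero_add]; exact htwo _
  by_cases hc' : c' = 0
  · left; rw [hc', add_zero, if_pos rfl, add_zero]; exact htwo _
  by_cases hcc : c + c' = 0
  · left
    rw [if_pos hcc, zero_add, show c' = c by
      have h := congrArg (c + ·) hcc
      simpa [← add_assoc, CharTwo.add_self_eq_zero] using h]
    exact htwo _
  rw [if_neg hcc, if_neg hc, if_neg hc', ← add_assoc, show g (c + c') = g c + g c' from map_add g c c']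
  rcases hadd (g c) (g c') (hgK c) (hgK c') (hgA c hc) (hgA c' hc')
    (by rw [← map_add]; exact hgA _ hcc) with h | h
  · exact Or.inl h
  · exact Or.inr h

end Cases

end Cfsg.Agent.TransLinTwo
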