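import Cfsg.Agent.Lib.Perm.TransLinTwo.SylowTwo

/-!
# Counting in an antiflag transitive linear group over the field with two elements

With `S x`, `E x`, `R y` as in `SylowTwo`: either the `S x` form a geometric spread, or two generic
`E x` meet trivially; then the classes `T x = {u | S u = S x}` either have the dimension of `E x`
(and form a geometric spread), or a point has exactly `2 ^ h * (2 ^ e - 1)` further neighbours with
a common functional.
-/

set_option autoImplicit false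
set_option linter.unusedSectionVars false

namespace Cfsg.Agent.TransLinTwo

theorem two_pow_ineq {c e f : ℕ} (hc : 1 ≤ c) (he : 1 ≤ e)
    (h : 2 ^ f * ((2 ^ e - 1) * (2 ^ c - 1)) ≤ (2 ^ f - 2) * (2 ^ f - 4)) (hf : 2 ≤ f) :
    c + e ≤ f := by
  by_contra hlt
  have h2 : 2 ^ f * 2 ≤ 2 ^ (c + e) := by
    rw [← pow_succ]
    exact Nat.pow_le_pow_right (by norm_num) (by omega)
  obtain ⟨a, ha⟩ : ∃ a, 2 ^ c = a + 2 := ⟨2 ^ c - 2, by
    have := Nat.le_self_pow (show c ≠ 0 by omega) 2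
    omega⟩
  obtain ⟨q, hq⟩ : ∃ q, 2 ^ e = q + 2 := ⟨2 ^ e - 2, by
    have := Nat.le_self_pow (show e ≠ 0 by omega) 2
    omega⟩
  obtain ⟨F, hF⟩ : ∃ F, 2 ^ f = F + 4 := ⟨2 ^ f - 4, by
    have := Nat.pow_le_pow_right (show 1 ≤ 2 by norm_num) hf
    omega⟩
  rw [pow_add, ha, hq, hF] at h2
  rw [ha, hq, hF] at h
  simp only [Nat.add_sub_cancel, show F + 4 - 2 = F + 2 by omega, show a + 2 - 1 = a + 1 by omega,
    show q + 2 - 1 = q + 1 by omega] at h
  obtain ⟨P, hP⟩ : ∃ P, (q + 1) * (a + 1) = P := ⟨_, rfl⟩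
  have h6 : a + q + 1 ≤ P := by
    have h7 : (q + 1) * (a + 1) = q * a + q + a + 1 := by ring
    omega
  have h5 : (a + 2) * (q + 2) = P + (a + q + 3) := by
    rw [← hP]
    ring
  have h8 : F + 3 ≤ P := by omega
  rw [hP] at h
  have h9 := Nat.mul_le_mul_left (F + 4) h8
  nlinarith

theorem level_arith {e h j n N : ℕ} (he : h < e) (hh : 1 ≤ h) (hj : 1 ≤ j) (hje : j < e)
    (hid : (2 ^ e - 1) * (n * 2 ^ (e - j)) = N * (2 ^ (e - j) - 1))
    (hN : ∃ m, Odd m ∧ N = 2 ^ h * m) (hn : 2 ^ h - 1 ∣ n)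
    (hle : N * (2 ^ j - 1) ≤ (2 ^ e - 1) * (2 ^ e - 2 ^ h)) :
    j = e - h ∧ n = 2 ^ h - 1 ∧ N = 2 ^ h * (2 ^ e - 1) := by
  obtain ⟨m, hm, rfl⟩ := hN
  obtain ⟨l, hl⟩ : ∃ l, e = j + l := ⟨e - j, by omega⟩
  have hl1 : 1 ≤ l := by omega
  rw [show e - j = l by omega] at hid
  have hE : 1 < 2 ^ e := Nat.one_lt_two_pow (by omega)
  have hL : 1 < 2 ^ l := Nat.one_lt_two_pow (by omega)
  have hH : 1 < 2 ^ h := Nat.one_lt_two_pow (by omega)
  have hJ : 1 < 2 ^ j := Nat.one_lt_two_pow (by omega)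
  have oddsub : ∀ k, 1 ≤ k → Odd (2 ^ k - 1) := fun k hk =>
    Nat.Even.sub_odd (Nat.one_le_two_pow) (Nat.even_pow.2 ⟨even_two, by omega⟩) odd_one
  have hmL : Odd (m * (2 ^ l - 1)) := hm.mul (oddsub l hl1)
  -- the two-parts
  have hlh : l ≤ h := by
    have hd : 2 ^ l ∣ 2 ^ h * (m * (2 ^ l - 1)) :=
      ⟨(2 ^ e - 1) * n, by rw [← mul_assoc, ← hid]; ring⟩
    have hd' := (Nat.Coprime.pow_left l (Nat.coprime_two_left.2 hmL)).dvd_of_dvd_mul_right hd
    exact (Nat.pow_dvd_pow_iff_le_right (by norm_num)).1 hd'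
  have hbig : 2 ^ h * (2 ^ h - 1) ∣ n * 2 ^ l := by
    refine Nat.Coprime.mul_dvd_of_dvd_of_dvd ?_ ?_ (hn.mul_right _)
    · exact Nat.Coprime.pow_left h (Nat.coprime_two_left.2 (oddsub h hh))
    · have hd : 2 ^ h ∣ n * 2 ^ l * (2 ^ e - 1) :=
        ⟨m * (2 ^ l - 1), by rw [← mul_assoc, ← hid]; ring⟩
      exact (Nat.Coprime.pow_left h (Nat.coprime_two_left.2 (oddsub e (by omega)))).dvd_of_dvd_mul_right hd
  have hnpos : 0 < n * 2 ^ l := by
    refine Nat.pos_of_ne_zero fun h0 => ?_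
    rw [h0, mul_zero] at hid
    have h1 : 0 < 2 ^ h * m * (2 ^ l - 1) :=
      Nat.mul_pos (Nat.mul_pos (by omega) hm.pos) (by omega)
    omega
  have hge := Nat.le_of_dvd hnpos hbig
  have hup : n * 2 ^ l * (2 ^ j - 1) ≤ (2 ^ e - 2 ^ h) * (2 ^ l - 1) := by
    refine Nat.le_of_mul_le_mul_left (c := 2 ^ e - 1) ?_ (by omega)
    rw [← mul_assoc, hid, ← mul_assoc (2 ^ e - 1) (2 ^ e - 2 ^ h)]
    calc 2 ^ h * m * (2 ^ l - 1) * (2 ^ j - 1) = 2 ^ h * m * (2 ^ j - 1) * (2 ^ l - 1) := by ring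
      _ ≤ _ := Nat.mul_le_mul_right _ hle
  obtain ⟨i, hi⟩ : ∃ i, e = h + i := ⟨e - h, by omega⟩
  have hEh : 2 ^ e - 2 ^ h = 2 ^ h * (2 ^ i - 1) := by
    rw [hi, pow_add, Nat.mul_sub, mul_one]
  have hkey : (2 ^ h - 1) * (2 ^ j - 1) ≤ (2 ^ i - 1) * (2 ^ l - 1) := by
    refine Nat.le_of_mul_le_mul_left (c := 2 ^ h) ?_ (by omega)
    rw [← mul_assoc, ← mul_assoc, ← hEh]
    exact (Nat.mul_le_mul_right _ hge).trans hup
  have hlh' : l = h := by
    by_contra hne
    have h1 : 2 ^ l - 1 < 2 ^ h - 1 := by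
      have := Nat.pow_lt_pow_right (show 1 < 2 by norm_num) (show l < h by omega)
      omega
    have h2 : 2 ^ i - 1 < 2 ^ j - 1 := by
      have := Nat.pow_lt_pow_right (show 1 < 2 by norm_num) (show i < j by omega)
      have := Nat.one_le_two_pow (n := i)
      omega
    have h3 := Nat.mul_lt_mul_of_lt_of_lt h2 h1
    rw [mul_comm (2 ^ j - 1)] at h3
    omega
  subst hlh'
  obtain rfl : i = j := by omega
  have hnle : n ≤ 2 ^ l - 1 := by
    have h1 : n * (2 ^ l * (2 ^ i - 1)) ≤ (2 ^ l - 1) * (2 ^ l * (2 ^ i - 1)) := by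
      rw [← mul_assoc, mul_comm (2 ^ l - 1), ← hEh]
      exact hup
    exact Nat.le_of_mul_le_mul_right h1 (Nat.mul_pos (by omega) (by omega))
  have hneq : n = 2 ^ l - 1 := by
    refine le_antisymm hnle (Nat.le_of_dvd (Nat.pos_of_ne_zero fun h0 => ?_) hn)
    simp [h0] at hnpos
  refine ⟨by omega, hneq, ?_⟩
  subst hneq
  refine Nat.eq_of_mul_eq_mul_right (show 0 < 2 ^ l - 1 by omega) ?_
  rw [← hid]
  ring

namespace AF

variable {G X Y : Type*} [Group G] [Finite G] [AddCommGroup X] [Module (ZMod 2) X] [Finite X]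
  [AddCommGroup Y] [Module (ZMod 2) Y] [Finite Y] (A : AF G X Y)

/-- The functionals vanishing on a subspace. -/
def perp (U : Submodule (ZMod 2) X) : Submodule (ZMod 2) Y where
  carrier := {y | ∀ z ∈ U, A.b z y = 0}
  zero_mem' := fun z _ => by simp
  add_mem' := fun ha hc z hz => by rw [map_add, ha z hz, hc z hz, add_zero]
  smul_mem' := fun c y hy z hz => by rw [map_smul, hy z hz, smul_zero]

theorem E_eq_perp (x : X) : A.E x = A.perp (A.S x) := rfl

theorem mem_perp {U : Submodule (ZMod 2) X} {y : Y} : y ∈ A.perp U ↔ ∀ z ∈ U, A.b z y = 0 := Iff.rfl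

theorem finrank_add_perp (U : Submodule (ZMod 2) X) :
    Module.finrank (ZMod 2) U + Module.finrank (ZMod 2) (A.perp U) =
      Module.finrank (ZMod 2) X := by
  rw [← Subspace.finrank_add_finrank_dualAnnihilator_eq U]
  congr 1
  have hm : (A.perp U).map A.b.flip = U.dualAnnihilator := by
    ext f
    rw [Submodule.mem_map, Submodule.mem_dualAnnihilator]
    constructor
    · rintro ⟨y, hy, rfl⟩ z hz
      exact hy z hz
    · intro hf
      obtain ⟨y, rfl⟩ := A.flip_bijective.2 f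
      exact ⟨y, fun z hz => hf z hz, rfl⟩
  rw [← hm]
  exact LinearEquiv.finrank_eq (Submodule.equivMapOfInjective _ A.flip_bijective.1 _)

theorem mem_of_perp {U : Submodule (ZMod 2) X} {z : X}
    (h : ∀ y ∈ A.perp U, A.b z y = 0) : z ∈ U := by
  by_contra hz
  have hlt : U < U ⊔ Submodule.span (ZMod 2) {z} :=
    lt_of_le_of_ne le_sup_left fun he => hz (by
      rw [he]
      exact Submodule.mem_sup_right (Submodule.mem_span_singleton_self z))
  have heq : A.perp (U ⊔ Submodule.span (ZMod 2) {z}) = A.perp U := by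
    refine le_antisymm (fun y hy w hw => hy w (Submodule.mem_sup_left hw)) fun y hy w hw => ?_
    obtain ⟨u, hu, s, hs, rfl⟩ := Submodule.mem_sup.1 hw
    obtain ⟨r, rfl⟩ := Submodule.mem_span_singleton.1 hs
    rw [map_add, LinearMap.add_apply, hy u hu, map_smul, LinearMap.smul_apply, h y hy, smul_zero,
      add_zero]
  have h1 := A.finrank_add_perp U
  have h2 := A.finrank_add_perp (U ⊔ Submodule.span (ZMod 2) {z})
  rw [heq] at h2
  have h3 := Submodule.finrank_lt_finrank_of_lt hlt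
  omega

theorem card_sub {V : Type*} [AddCommGroup V] [Module (ZMod 2) V] [Finite V]
    (U : Submodule (ZMod 2) V) : Nat.card U = 2 ^ Module.finrank (ZMod 2) U := by
  rw [Module.natCard_eq_pow_finrank (K := ZMod 2), Nat.card_zmod]

theorem card_filter_mem {V : Type*} [AddCommGroup V] [Module (ZMod 2) V] [Fintype V]
    (U : Submodule (ZMod 2) V) [DecidablePred (· ∈ U)] :
    (Finset.univ.filter fun z => z ∈ U).card = 2 ^ Module.finrank (ZMod 2) U := by
  rw [← card_sub, Nat.card_eq_fintype_card, Fintype.card_subtype]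

theorem finrank_S_eq {x x' : X} (hx : x ≠ 0) (hx' : x' ≠ 0) :
    Module.finrank (ZMod 2) (A.S x) = Module.finrank (ZMod 2) (A.S x') := by
  have h1 := A.finrank_S_add_E x
  have h2 := A.finrank_S_add_E x'
  have h3 := A.finrank_E_eq hx hx'
  omega

theorem ne_zero_of_not_mem {x z : X} (hz : z ∉ A.S x) : z ≠ 0 :=
  fun h => hz (h ▸ zero_mem _)

theorem not_mem_symm {x z : X} (hz : z ∉ A.S x) : x ∉ A.S z :=
  fun h => hz (A.S_symm (A.ne_zero_of_not_mem hz) h)

theorem one_le_finrank_E {x : X} (hx : x ≠ 0) : 1 ≤ Module.finrank (ZMod 2) (A.E x) := by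
  obtain ⟨y, hy⟩ := A.exists_I hx
  rw [Nat.one_le_iff_ne_zero, ne_eq, Submodule.finrank_eq_zero]
  intro h
  refine hy.2.1 ?_
  have := (A.mem_E_iff hx).2 (Or.inr hy)
  rwa [h, Submodule.mem_bot] at this

theorem exists_not_mem_S {x : X} (hx : x ≠ 0) : ∃ z, z ∉ A.S x := by
  obtain ⟨y, hy⟩ := A.exists_I hx
  obtain ⟨z, hz⟩ := A.exists_one' hy.2.1
  exact ⟨z, fun h => one_ne_zero (hz.symm.trans (h y hy))⟩

theorem mem_R_iff_mem_E {x : X} (hx : x ≠ 0) {y : Y} (hy : y ≠ 0) :
    x ∈ A.R y ↔ y ∈ A.E x := by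
  rw [A.mem_R_iff hy, A.mem_E_iff hx, or_iff_right hx, or_iff_right hy]

theorem E_add {u v : X} (hu : u ≠ 0) (hv : v ≠ 0) : A.E (u + v) ≤ A.E u ⊔ A.E v := by
  intro y hy
  refine A.swap.mem_of_perp fun z hz => hy z ?_
  exact A.mem_S_add hu hv
    (A.mem_of_perp fun w hw => hz w (Submodule.mem_sup_left hw))
    (A.mem_of_perp fun w hw => hz w (Submodule.mem_sup_right hw))

theorem R_add {y y' : Y} (hy : y ≠ 0) (hy' : y' ≠ 0) : A.R (y + y') ≤ A.R y ⊔ A.R y' :=
  A.swap.E_add hy hy'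

/-- Pairs `(u, w)` with `w ∈ S u` outside `S x`, counted from both sides. -/
theorem count_off [Fintype X] [∀ x, DecidablePred (· ∈ A.S x)] {x : X} (hx : x ≠ 0) (K : Finset X)
    (hK : ∀ u ∈ K, u ≠ 0 ∧ u ∈ A.S x)
    (hinv : ∀ g, A.px g x = x → ∀ u ∈ K, A.px g u ∈ K) {w : X} (hw : w ∉ A.S x) :
    ∑ u ∈ K, (2 ^ Module.finrank (ZMod 2) (A.S x) -
        2 ^ Module.finrank (ZMod 2) ↥(A.S u ⊓ A.S x)) =
      (2 ^ Module.finrank (ZMod 2) X - 2 ^ Module.finrank (ZMod 2) (A.S x)) *
        (K.filter fun u => u ∈ A.S w).card := by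
  classical
  let O : Finset X := Finset.univ.filter fun z => z ∉ A.S x
  have hO : O.card = 2 ^ Module.finrank (ZMod 2) X - 2 ^ Module.finrank (ZMod 2) (A.S x) := by
    simp only [O]
    rw [Finset.filter_not, Finset.card_sdiff, Finset.inter_univ, card_filter_mem, Finset.card_univ,
      ← Nat.card_eq_fintype_card, Module.natCard_eq_pow_finrank (K := ZMod 2), Nat.card_zmod]
  have hL : ∀ u ∈ K, (O.filter fun z => z ∈ A.S u).card =
      2 ^ Module.finrank (ZMod 2) (A.S x) - 2 ^ Module.finrank (ZMod 2) ↥(A.S u ⊓ A.S x) := by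
    intro u hu
    rw [← A.finrank_S_eq (hK u hu).1 hx]
    have hs : (O.filter fun z => z ∈ A.S u) =
        (Finset.univ.filter fun z => z ∈ A.S u) \ (Finset.univ.filter fun z => z ∈ A.S u ⊓ A.S x) := by
      ext z
      simp only [O, Finset.mem_filter, Finset.mem_sdiff, Finset.mem_univ, true_and, Submodule.mem_inf]
      tauto
    rw [hs, Finset.card_sdiff_of_subset, card_filter_mem, card_filter_mem]
    intro z hz
    simp only [Finset.mem_filter, Finset.mem_univ, true_and, Submodule.mem_inf] at hz ⊢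
    exact hz.1
  rw [← Finset.sum_congr rfl hL,
    show (∑ u ∈ K, (O.filter fun z => z ∈ A.S u).card) =
        ∑ z ∈ O, (K.filter fun u => z ∈ A.S u).card from
      Finset.sum_card_bipartiteAbove_eq_sum_card_bipartiteBelow (fun u z => z ∈ A.S u)]
  rw [← hO, Finset.sum_congr rfl (g := fun _ => (K.filter fun u => u ∈ A.S w).card) ?_,
    Finset.sum_const, smul_eq_mul]
  intro z hz
  simp only [O, Finset.mem_filter, Finset.mem_univ, true_and] at hz
  obtain ⟨g, hg, rfl⟩ := A.off_S_trans hw hz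
  have hg' : A.px g⁻¹ x = x := by
    conv_lhs => rw [← hg]
    exact A.px_inv g x
  refine Finset.card_bij' (fun u _ => A.px g⁻¹ u) (fun u _ => A.px g u) ?_ ?_ ?_ ?_
  · intro u hu
    simp only [Finset.mem_filter] at hu ⊢
    refine ⟨hinv _ hg' u hu.1, ?_⟩
    rw [← A.S_map (g := g), A.px_inv']
    exact A.S_symm (hK u hu.1).1 hu.2
  · intro u hu
    simp only [Finset.mem_filter] at hu ⊢
    exact ⟨hinv _ hg u hu.1, A.S_map.2 (A.S_symm (A.ne_zero_of_not_mem hw) hu.2)⟩
  · intro u _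
    exact A.px_inv' g u
  · intro u _
    exact A.px_inv g u

/-- Either the subspaces `S x` form a spread, or generic ones span the space. -/
theorem spread_or_span {x : X} (hx : x ≠ 0) :
    (∀ u ∈ A.S x, u ≠ 0 → A.S u = A.S x) ∨
      ∀ w, w ∉ A.S x → Module.finrank (ZMod 2) ↥(A.S x ⊓ A.S w) +
          Module.finrank (ZMod 2) (A.E x) = Module.finrank (ZMod 2) (A.S x) ∧
        A.S x ⊔ A.S w = ⊤ ∧ A.E x ⊓ A.E w = ⊥ ∧
        2 * Module.finrank (ZMod 2) (A.E x) < Module.finrank (ZMod 2) X := by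
  classical
  haveI : Fintype X := Fintype.ofFinite X
  obtain ⟨w, hw⟩ := A.exists_not_mem_S hx
  let K : Finset X := Finset.univ.filter fun u => u ∈ A.S x ∧ u ≠ 0 ∧ u ≠ x
  have hinv : ∀ g, A.px g x = x → ∀ u ∈ K, A.px g u ∈ K := by
    intro g hg u hu
    simp only [K, Finset.mem_filter, Finset.mem_univ, true_and] at hu ⊢
    refine ⟨?_, fun h => hu.2.1 ((A.px g).map_eq_zero_iff.1 h), fun h => hu.2.2 ?_⟩
    · conv_lhs => rw [← hg]
      exact A.S_map.2 hu.1
    · rw [← hg] at h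
      exact (A.px g).injective h
  have hid := A.count_off hx K (fun u hu => by
    simp only [K, Finset.mem_filter, Finset.mem_univ, true_and] at hu
    exact ⟨hu.2.1, hu.1⟩) hinv hw
  have hwc : ∀ z, z ∉ A.S x → Module.finrank (ZMod 2) ↥(A.S x ⊓ A.S z) =
      Module.finrank (ZMod 2) ↥(A.S x ⊓ A.S w) := by
    intro z hz
    obtain ⟨g, hg, rfl⟩ := A.off_S_trans hw hz
    have : (A.S x ⊓ A.S w).map (A.px g).toLinearMap = A.S x ⊓ A.S (A.px g w) := by
      ext u
      rw [Submodule.mem_map]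
      constructor
      · rintro ⟨v, hv, rfl⟩
        refine ⟨?_, A.S_map.2 hv.2⟩
        conv_lhs => rw [← hg]
        exact A.S_map.2 hv.1
      · intro hu
        refine ⟨A.px g⁻¹ u, ⟨?_, ?_⟩, A.px_inv' g u⟩
        · have h1 := hu.1
          rw [← A.px_inv' g u, ← hg] at h1
          exact A.S_map.1 h1
        · have h1 := hu.2
          rw [← A.px_inv' g u] at h1
          exact A.S_map.1 h1
    rw [← this, LinearEquiv.finrank_map_eq]
  have hfe := A.finrank_S_add_E x
  have he1 := A.one_le_finrank_E hx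
  by_cases hc0 : Module.finrank (ZMod 2) ↥(A.S x ⊓ A.S w) = 0
  · left
    intro u hu hu0
    by_cases hux : u = x
    · rw [hux]
    have h0 : (K.filter fun u => u ∈ A.S w) = ∅ := by
      refine Finset.filter_eq_empty_iff.2 fun v hv hvw => ?_
      simp only [K, Finset.mem_filter, Finset.mem_univ, true_and] at hv
      rw [Submodule.finrank_eq_zero] at hc0
      have hvm : v ∈ A.S x ⊓ A.S w := ⟨hv.1, hvw⟩
      rw [hc0, Submodule.mem_bot] at hvm
      exact hv.2.1 hvm
    rw [h0, Finset.card_empty, mul_zero, Finset.sum_eq_zero_iff] at hid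
    have h1 := hid u (by simp [K, hu, hu0, hux])
    have h2 : Module.finrank (ZMod 2) ↥(A.S u ⊓ A.S x) = Module.finrank (ZMod 2) (A.S x) := by
      refine le_antisymm (Submodule.finrank_mono inf_le_right) ?_
      exact (Nat.pow_le_pow_iff_right (show 1 < 2 by norm_num)).1 (by omega)
    have h3 := Submodule.eq_of_le_of_finrank_eq inf_le_right h2
    exact Submodule.eq_of_le_of_finrank_eq (h3.ge.trans inf_le_left) (A.finrank_S_eq hx hu0) |>.symm
  · right
    have hsplit := Submodule.finrank_sup_add_finrank_inf_eq (A.S x) (A.S w)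
    rw [A.finrank_S_eq (A.ne_zero_of_not_mem hw) hx] at hsplit
    have hsup := Submodule.finrank_le (A.S x ⊔ A.S w)
    have hKf : (K.filter fun u => u ∈ A.S w).card =
        2 ^ Module.finrank (ZMod 2) ↥(A.S x ⊓ A.S w) - 1 := by
      have hs : (K.filter fun u => u ∈ A.S w) =
          (Finset.univ.filter fun u => u ∈ A.S x ⊓ A.S w).erase 0 := by
        ext u
        simp only [K, Finset.mem_filter, Finset.mem_univ, true_and, Finset.mem_erase,
          Submodule.mem_inf]
        exact ⟨fun h => ⟨h.1.2.1, h.1.1, h.2⟩, fun h => ⟨⟨h.2.1, h.1, fun h' =>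
          A.not_mem_symm hw (h' ▸ h.2.2)⟩, h.2.2⟩⟩
      rw [hs, Finset.card_erase_of_mem (by simp), card_filter_mem]
    have hf2 : 2 ≤ Module.finrank (ZMod 2) (A.S x) := by
      have h1 := Submodule.finrank_lt_finrank_of_lt
        (lt_of_le_of_ne (inf_le_left : A.S x ⊓ A.S w ≤ A.S x) fun h =>
          A.not_mem_symm hw (inf_eq_left.1 h (A.self_mem_S x)))
      omega
    have hKc : K.card = 2 ^ Module.finrank (ZMod 2) (A.S x) - 2 := by
      have hs : K = ((Finset.univ.filter fun u => u ∈ A.S x).erase 0).erase x := by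
        ext u
        simp only [K, Finset.mem_filter, Finset.mem_univ, true_and, Finset.mem_erase]
        tauto
      rw [hs, Finset.card_erase_of_mem (by simp [hx, A.self_mem_S x]),
        Finset.card_erase_of_mem (by simp), card_filter_mem]
      omega
    have hbound : ∑ u ∈ K, (2 ^ Module.finrank (ZMod 2) (A.S x) -
        2 ^ Module.finrank (ZMod 2) ↥(A.S u ⊓ A.S x)) ≤
        K.card * (2 ^ Module.finrank (ZMod 2) (A.S x) - 4) := by
      rw [← smul_eq_mul, ← Finset.sum_const]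
      refine Finset.sum_le_sum fun u hu => ?_
      simp only [K, Finset.mem_filter, Finset.mem_univ, true_and] at hu
      have h4 : 4 ≤ 2 ^ Module.finrank (ZMod 2) ↥(A.S u ⊓ A.S x) := by
        have hmem : ∀ z ∈ ({0, u, x, u + x} : Finset X), z ∈ A.S u ⊓ A.S x := by
          intro z hz
          simp only [Finset.mem_insert, Finset.mem_singleton] at hz
          have hux : u ∈ A.S u ⊓ A.S x := ⟨A.self_mem_S u, hu.1⟩
          have hxx : x ∈ A.S u ⊓ A.S x := ⟨A.S_symm hx hu.1, A.self_mem_S x⟩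
          rcases hz with rfl | rfl | rfl | rfl
          · exact zero_mem _
          · exact hux
          · exact hxx
          · exact add_mem hux hxx
        have hcard : ({0, u, x, u + x} : Finset X).card = 4 := by
          have h1 : u + x ≠ 0 := fun h => hu.2.2 (by
            rw [add_eq_zero_iff_eq_neg, ZModModule.neg_eq_self] at h
            exact h)
          have h2 : u + x ≠ u := fun h => hx (by simpa using h)
          have h3 : u + x ≠ x := fun h => hu.2.1 (by simpa using h)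
          rw [Finset.card_insert_of_notMem (by simp [Ne.symm hu.2.1, Ne.symm hx, Ne.symm h1]),
            Finset.card_insert_of_notMem (by simp [hu.2.2, Ne.symm h2]),
            Finset.card_insert_of_notMem (by simp [Ne.symm h3]), Finset.card_singleton]
        rw [← card_filter_mem, ← hcard]
        exact Finset.card_le_card fun z hz => Finset.mem_filter.2 ⟨Finset.mem_univ z, hmem z hz⟩
      omega
    rw [hid, hKf, hKc] at hbound
    have hce : Module.finrank (ZMod 2) ↥(A.S x ⊓ A.S w) + Module.finrank (ZMod 2) (A.E x) ≤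
        Module.finrank (ZMod 2) (A.S x) := by
      refine two_pow_ineq (by omega) he1 ?_ hf2
      refine le_trans (le_of_eq ?_) hbound
      rw [← hfe, pow_add, ← mul_assoc, Nat.mul_sub (2 ^ Module.finrank (ZMod 2) (A.S x))
        (2 ^ Module.finrank (ZMod 2) (A.E x)) 1, mul_one]
    intro z hz
    have hz' := hwc z hz
    have hsplit' := Submodule.finrank_sup_add_finrank_inf_eq (A.S x) (A.S z)
    rw [A.finrank_S_eq (A.ne_zero_of_not_mem hz) hx] at hsplit'
    have htop : A.S x ⊔ A.S z = ⊤ := Submodule.eq_top_of_finrank_eq (by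
      have := Submodule.finrank_le (A.S x ⊔ A.S z)
      omega)
    refine ⟨by omega, htop, ?_, by omega⟩
    rw [eq_bot_iff]
    intro y hy
    rw [Submodule.mem_bot]
    refine A.sepY y fun u => ?_
    have hu : u ∈ A.S x ⊔ A.S z := htop ▸ Submodule.mem_top
    obtain ⟨a, ha, c, hc, rfl⟩ := Submodule.mem_sup.1 hu
    rw [map_add, LinearMap.add_apply, hy.1 a ha, hy.2 c hc, add_zero]

/-- In the spread case the spread is geometric. -/
theorem spread_geom (hsp : ∀ x, x ≠ 0 → ∀ u ∈ A.S x, u ≠ 0 → A.S u = A.S x) {x z u : X}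
    (hx : x ≠ 0) (hz : z ≠ 0) (hu : u ≠ 0) (h : u ∈ A.S x ⊔ A.S z) :
    A.S u ≤ A.S x ⊔ A.S z := by
  intro v hv
  refine A.mem_of_perp fun y hy => ?_
  rcases eq_or_ne y 0 with rfl | hy0
  · simp
  have key : ∀ a, a ≠ 0 → y ∈ A.E a → A.S a ≤ A.R y := by
    intro a ha hya p hp
    rcases eq_or_ne p 0 with rfl | hp0
    · exact zero_mem _
    rw [A.mem_R_iff_mem_E hp0 hy0, A.E_eq_perp, hsp a ha p hp hp0]
    exact hya
  have hle : A.S x ⊔ A.S z ≤ A.R y :=
    sup_le (key x hx fun p hp => hy p (Submodule.mem_sup_left hp))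
      (key z hz fun p hp => hy p (Submodule.mem_sup_right hp))
  exact ((A.mem_R_iff_mem_E hu hy0).1 (hle h)) v hv

section Span

/-- The class of `x`: the points with the same subspace. -/
def T (x : X) : Submodule (ZMod 2) X where
  carrier := {u | u = 0 ∨ (x ≠ 0 ∧ A.S u = A.S x)}
  zero_mem' := Or.inl rfl
  add_mem' := by
    rintro u v (rfl | ⟨hx, hu⟩) hv
    · rw [zero_add]
      exact hv
    rcases hv with rfl | ⟨-, hv⟩
    · rw [add_zero]
      exact Or.inr ⟨hx, hu⟩
    rcases eq_or_ne (u + v) 0 with huv | huv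
    · exact Or.inl huv
    have hu0 : u ≠ 0 := by
      rintro rfl
      obtain ⟨w, hw⟩ := A.exists_not_mem_S hx
      exact hw (hu ▸ fun y hy => absurd rfl hy.1)
    have hv0 : v ≠ 0 := by
      rintro rfl
      obtain ⟨w, hw⟩ := A.exists_not_mem_S hx
      exact hw (hv ▸ fun y hy => absurd rfl hy.1)
    refine Or.inr ⟨hx, (Submodule.eq_of_le_of_finrank_eq (fun z hz => ?_)
      (A.finrank_S_eq hx huv)).symm⟩
    exact A.mem_S_add hu0 hv0 (hu.symm ▸ hz) (hv.symm ▸ hz)
  smul_mem' := fun c u hu => by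
    rcases zmod_two_cases c with rfl | rfl
    · rw [zero_smul]
      exact Or.inl rfl
    · rwa [one_smul]

theorem mem_T {x u : X} (hx : x ≠ 0) : u ∈ A.T x ↔ u = 0 ∨ A.S u = A.S x :=
  ⟨fun h => h.imp_right And.right, fun h => h.imp_right fun h => ⟨hx, h⟩⟩

theorem self_mem_T {x : X} (hx : x ≠ 0) : x ∈ A.T x := Or.inr ⟨hx, rfl⟩

theorem T_eq {x u : X} (hx : x ≠ 0) (hu : u ∈ A.T x) (hu0 : u ≠ 0) : A.T u = A.T x := by
  obtain rfl | h := (A.mem_T hx).1 hu
  · exact absurd rfl hu0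
  ext v
  rw [A.mem_T hx, A.mem_T hu0, h]

theorem E_eq_of_mem_T {x u : X} (hx : x ≠ 0) (hu : u ∈ A.T x) (hu0 : u ≠ 0) : A.E u = A.E x := by
  rw [A.E_eq_perp, A.E_eq_perp, ((A.mem_T hx).1 hu).resolve_left hu0]

theorem T_le_S {x : X} (hx : x ≠ 0) : A.T x ≤ A.S x := by
  intro u hu
  rcases eq_or_ne u 0 with rfl | hu0
  · exact zero_mem _
  rw [← ((A.mem_T hx).1 hu).resolve_left hu0]
  exact A.self_mem_S u

theorem T_le_R {x : X} (hx : x ≠ 0) {y : Y} (hy : y ≠ 0) (hyx : y ∈ A.E x) : A.T x ≤ A.R y := by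
  intro u hu
  rcases eq_or_ne u 0 with rfl | hu0
  · exact zero_mem _
  rw [A.mem_R_iff_mem_E hu0 hy, A.E_eq_of_mem_T hx hu hu0]
  exact hyx

theorem T_map {g : G} {x : X} (hx : x ≠ 0) :
    (A.T x).map (A.px g).toLinearMap = A.T (A.px g x) := by
  have hgx : A.px g x ≠ 0 := fun h => hx ((A.px g).map_eq_zero_iff.1 h)
  have hiff : ∀ u, A.S (A.px g u) = A.S (A.px g x) ↔ A.S u = A.S x := by
    intro u
    constructor
    · intro h
      ext v
      rw [← A.S_map (g := g), h, A.S_map]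
    · intro h
      ext v
      rw [← A.px_inv' g v, A.S_map, A.S_map, h]
  ext v
  rw [Submodule.mem_map]
  constructor
  · rintro ⟨u, hu, rfl⟩
    rcases (A.mem_T hx).1 hu with rfl | h
    · simp
    · exact Or.inr ⟨hgx, (hiff u).2 h⟩
  · intro hv
    refine ⟨A.px g⁻¹ v, ?_, A.px_inv' g v⟩
    rcases (A.mem_T hgx).1 hv with rfl | h
    · simp
    · refine Or.inr ⟨hx, (hiff _).1 ?_⟩
      rw [A.px_inv']
      exact h

theorem finrank_T_eq {x x' : X} (hx : x ≠ 0) (hx' : x' ≠ 0) :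
    Module.finrank (ZMod 2) (A.T x) = Module.finrank (ZMod 2) (A.T x') := by
  obtain ⟨g, rfl⟩ := A.point_trans hx hx'
  rw [← A.T_map hx, LinearEquiv.finrank_map_eq]

variable (hspan : ∀ x w : X, x ≠ 0 → w ∉ A.S x →
  Module.finrank (ZMod 2) ↥(A.S x ⊓ A.S w) + Module.finrank (ZMod 2) (A.E x) =
    Module.finrank (ZMod 2) (A.S x) ∧ A.E x ⊓ A.E w = ⊥)
include hspan

theorem R_le_S {x : X} (hx : x ≠ 0) {y : Y} (hy : y ≠ 0) (hyx : y ∈ A.E x) : A.R y ≤ A.S x := by
  intro u hu
  rcases eq_or_ne u 0 with rfl | hu0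
  · exact zero_mem _
  by_contra hn
  have h := (hspan x u hx hn).2
  have : y ∈ A.E x ⊓ A.E u := ⟨hyx, (A.mem_R_iff_mem_E hu0 hy).1 hu⟩
  rw [h, Submodule.mem_bot] at this
  exact hy this

theorem finrank_T_le_E {x : X} (hx : x ≠ 0) :
    Module.finrank (ZMod 2) (A.T x) ≤ Module.finrank (ZMod 2) (A.E x) := by
  obtain ⟨y, hy⟩ := A.exists_I hx
  rw [← A.finrank_R_eq_E hx hy.2.1]
  exact Submodule.finrank_mono (A.T_le_R hx hy.2.1 ((A.mem_E_iff hx).2 (Or.inr hy)))

theorem finrank_inf_S {x u : X} (hx : x ≠ 0) (hu : u ≠ 0) :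
    Module.finrank (ZMod 2) ↥(A.S u ⊓ A.S x) + Module.finrank (ZMod 2) (A.E x) =
      Module.finrank (ZMod 2) (A.S x) + Module.finrank (ZMod 2) ↥(A.E x ⊓ A.E u) := by
  have h1 := Submodule.finrank_sup_add_finrank_inf_eq (A.S u) (A.S x)
  have h2 := A.finrank_add_perp (A.S u ⊔ A.S x)
  have h3 : A.perp (A.S u ⊔ A.S x) = A.E x ⊓ A.E u := by
    ext y
    refine ⟨fun h => ⟨fun z hz => h z (Submodule.mem_sup_right hz),
      fun z hz => h z (Submodule.mem_sup_left hz)⟩, fun h z hz => ?_⟩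
    obtain ⟨a, ha, c, hc, rfl⟩ := Submodule.mem_sup.1 hz
    rw [map_add, LinearMap.add_apply, h.2 a ha, h.1 c hc, add_zero]
  rw [h3] at h2
  have h4 := A.finrank_S_add_E x
  have h5 := A.finrank_S_eq hu hx
  omega

/-- Distinct classes see a proper part of each other's functionals. -/
theorem inf_E_lt {x u : X} (hx : x ≠ 0) (hu : u ≠ 0) (huT : u ∉ A.T x) :
    Module.finrank (ZMod 2) ↥(A.E x ⊓ A.E u) < Module.finrank (ZMod 2) (A.E x) := by
  refine Submodule.finrank_lt_finrank_of_lt (lt_of_le_of_ne inf_le_left fun h => huT ?_)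
  have hle : A.E x ≤ A.E u := inf_eq_left.1 h
  refine (A.mem_T hx).2 (Or.inr ?_)
  refine Submodule.eq_of_le_of_finrank_eq (fun z hz => ?_) (A.finrank_S_eq hu hx)
  exact A.mem_of_perp fun y hy => (hle hy : y ∈ A.E u) z hz

/-- If the classes are as large as the `E x`, they form a geometric spread. -/
theorem class_geom (hT : ∀ x, x ≠ 0 →
      Module.finrank (ZMod 2) (A.T x) = Module.finrank (ZMod 2) (A.E x))
    {x z u : X} (hx : x ≠ 0) (hz : z ≠ 0) (hu : u ≠ 0) (h : u ∈ A.T x ⊔ A.T z) :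
    A.T u ≤ A.T x ⊔ A.T z := by
  have hR : ∀ a, a ≠ 0 → ∀ y, y ≠ 0 → y ∈ A.E a → A.R y = A.T a := fun a ha y hy hya =>
    (Submodule.eq_of_le_of_finrank_eq (A.T_le_R ha hy hya)
      ((hT a ha).trans (A.finrank_R_eq_E ha hy).symm)).symm
  obtain ⟨a, ha, c, hc, rfl⟩ := Submodule.mem_sup.1 h
  rcases eq_or_ne a 0 with rfl | ha0
  · rw [zero_add] at hu ⊢
    rw [A.T_eq hz hc hu]
    exact le_sup_right
  rcases eq_or_ne c 0 with rfl | hc0
  · rw [add_zero] at hu ⊢
    rw [A.T_eq hx ha hu]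
    exact le_sup_left
  obtain ⟨y, hy⟩ := A.exists_I hu
  have hyE := (A.mem_E_iff hu).2 (Or.inr hy)
  obtain ⟨p, hp, q, hq, hpq⟩ := Submodule.mem_sup.1 (A.E_add ha0 hc0 hyE)
  rw [← hR _ hu y hy.2.1 hyE, ← A.T_eq hx ha ha0, ← A.T_eq hz hc hc0]
  rcases eq_or_ne p 0 with rfl | hp0
  · rw [zero_add] at hpq
    subst hpq
    rw [hR c hc0 q hy.2.1 hq]
    exact le_sup_right
  rcases eq_or_ne q 0 with rfl | hq0
  · rw [add_zero] at hpq
    subst hpq
    rw [hR a ha0 p hy.2.1 hp]
    exact le_sup_left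
  rw [← hpq]
  refine (A.R_add hp0 hq0).trans (le_of_eq ?_)
  rw [hR a ha0 p hp0 hp, hR c hc0 q hq0 hq]

/-- The points outside the class of `x` sharing a functional with `x`. -/
def Kset (x : X) : Set X := {u | u ≠ 0 ∧ u ∉ A.T x ∧ u ∈ A.S x ∧ A.E x ⊓ A.E u ≠ ⊥}

theorem finrank_T_dvd {x : X} (hx : x ≠ 0) :
    2 ^ Module.finrank (ZMod 2) (A.T x) - 1 ∣ 2 ^ Module.finrank (ZMod 2) (A.E x) - 1 := by
  classical
  haveI : Fintype X := Fintype.ofFinite X
  obtain ⟨y, hy⟩ := A.exists_I hx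
  have h1 : ((Finset.univ.filter fun u => u ∈ A.R y).erase 0).card =
      2 ^ Module.finrank (ZMod 2) (A.E x) - 1 := by
    rw [Finset.card_erase_of_mem (by simp), card_filter_mem, A.finrank_R_eq_E hx hy.2.1]
  rw [← h1, Finset.card_eq_sum_card_image (fun u => A.T u)]
  refine Finset.dvd_sum fun t ht => ?_
  obtain ⟨u, hu, rfl⟩ := Finset.mem_image.1 ht
  simp only [Finset.mem_erase, Finset.mem_filter, Finset.mem_univ, true_and] at hu
  rw [A.finrank_T_eq hx hu.1]
  refine dvd_of_eq ?_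
  rw [← card_filter_mem (A.T u), ← Finset.card_erase_of_mem
    (show (0 : X) ∈ Finset.univ.filter fun z => z ∈ A.T u by simp)]
  refine Finset.card_bij (fun a _ => a) ?_ (fun _ _ _ _ h => h) (fun a ha => ⟨a, ?_, rfl⟩)
  · intro a ha
    simp only [Finset.mem_erase, Finset.mem_filter, Finset.mem_univ, true_and] at ha ⊢
    refine ⟨⟨ha.1, ?_⟩, A.T_eq hu.1 ha.2 ha.1⟩
    exact A.T_le_R hu.1 hy.2.1 ((A.mem_R_iff_mem_E hu.1 hy.2.1).1 hu.2) ha.2
  · simp only [Finset.mem_erase, Finset.mem_filter, Finset.mem_univ, true_and] at ha ⊢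
    exact ⟨ha.1.1, by rw [← ha.2]; exact A.self_mem_T ha.1.1⟩

/-- The level dichotomy: if the classes are smaller than the `E x`, all non-trivial meets have
codimension `h`, the further neighbours number `2 ^ h * (2 ^ e - 1)`, and the subspace of a generic
point holds exactly one class of them. -/
theorem level_structure {x : X} (hx : x ≠ 0)
    (hlt : Module.finrank (ZMod 2) (A.T x) < Module.finrank (ZMod 2) (A.E x)) :
    (∀ u ∈ A.Kset x, Module.finrank (ZMod 2) ↥(A.E x ⊓ A.E u) +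
        Module.finrank (ZMod 2) (A.T x) = Module.finrank (ZMod 2) (A.E x)) ∧
      Nat.card (A.Kset x) = 2 ^ Module.finrank (ZMod 2) (A.T x) *
        (2 ^ Module.finrank (ZMod 2) (A.E x) - 1) ∧
      ∀ w, w ∉ A.S x → ∃ u ∈ A.Kset x, u ∈ A.S w ∧
        ∀ v ∈ A.Kset x, v ∈ A.S w → v ∈ A.T u := by
  classical
  haveI : Fintype X := Fintype.ofFinite X
  haveI : Fintype Y := Fintype.ofFinite Y
  set e := Module.finrank (ZMod 2) (A.E x) with he
  set h := Module.finrank (ZMod 2) (A.T x) with hh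
  have hh1 : 1 ≤ h := by
    rw [hh, Nat.one_le_iff_ne_zero, ne_eq, Submodule.finrank_eq_zero]
    intro h0
    have hm := A.self_mem_T hx
    rw [h0, Submodule.mem_bot] at hm
    exact hx hm
  let j : X → ℕ := fun u => Module.finrank (ZMod 2) ↥(A.E x ⊓ A.E u)
  let L : ℕ → Finset X := fun i =>
    Finset.univ.filter fun u => u ∈ A.S x ∧ u ∉ A.T x ∧ j u = i
  have hne0 : ∀ u, u ∉ A.T x → u ≠ 0 := fun u hu h => hu (h ▸ zero_mem _)
  -- the levels are invariant
  have hinv : ∀ i g, A.px g x = x → ∀ u ∈ L i, A.px g u ∈ L i := by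
    intro i g hg u hu
    simp only [L, j, Finset.mem_filter, Finset.mem_univ, true_and] at hu ⊢
    refine ⟨?_, fun hT => hu.2.1 ?_, ?_⟩
    · conv_lhs => rw [← hg]
      exact A.S_map.2 hu.1
    · rw [← hg, ← A.T_map hx] at hT
      obtain ⟨v, hv, hvu⟩ := Submodule.mem_map.1 hT
      exact (A.px g).injective hvu ▸ hv
    · rw [← hu.2.2]
      have hm : (A.E x ⊓ A.E u).map (A.py g).toLinearMap = A.E x ⊓ A.E (A.px g u) := by
        have hE : ∀ a y, A.py g y ∈ A.E (A.px g a) ↔ y ∈ A.E a := by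
          intro a y
          constructor
          · intro hy z hz
            rw [← A.inv g z y]
            exact hy _ (A.S_map.2 hz)
          · intro hy z hz
            rw [← A.px_inv' g z] at hz ⊢
            rw [A.inv]
            exact hy _ (A.S_map.1 hz)
        ext y
        rw [Submodule.mem_map]
        constructor
        · rintro ⟨v, hv, rfl⟩
          exact ⟨hg ▸ (hE x v).2 hv.1, (hE u v).2 hv.2⟩
        · intro hy
          refine ⟨A.py g⁻¹ y, ⟨(hE x _).1 ?_, (hE u _).1 ?_⟩, A.swap.px_inv' g y⟩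
          · rw [show A.py g (A.py g⁻¹ y) = y from A.swap.px_inv' g y, hg]
            exact hy.1
          · rw [show A.py g (A.py g⁻¹ y) = y from A.swap.px_inv' g y]
            exact hy.2
      rw [← hm, LinearEquiv.finrank_map_eq]
  -- the levels are unions of cosets of the class
  have hcoset : ∀ i, ∀ u ∈ L i, ∀ t ∈ A.T x, u + t ∈ L i := by
    intro i u hu t ht
    simp only [L, j, Finset.mem_filter, Finset.mem_univ, true_and] at hu ⊢
    have huT : u + t ∉ A.T x := fun h => hu.2.1 ((Submodule.add_mem_iff_left _ ht).1 h)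
    refine ⟨add_mem hu.1 (A.T_le_S hx ht), huT, ?_⟩
    have hmeet : A.E x ⊓ A.E (u + t) = A.E x ⊓ A.E u := by
      ext y
      rcases eq_or_ne y 0 with rfl | hy
      · simp
      simp only [Submodule.mem_inf]
      refine and_congr_right fun hyx => ?_
      rw [← A.mem_R_iff_mem_E (hne0 _ hu.2.1) hy, ← A.mem_R_iff_mem_E (hne0 _ huT) hy]
      exact Submodule.add_mem_iff_left _ (A.T_le_R hx hy hyx ht)
    rw [hmeet, hu.2.2]
  have hdvd : ∀ i, 2 ^ h ∣ (L i).card := by
    intro i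
    rw [Finset.card_eq_sum_card_image (fun u => (A.T x).mkQ u)]
    refine Finset.dvd_sum fun q hq => ?_
    obtain ⟨u, hu, rfl⟩ := Finset.mem_image.1 hq
    refine dvd_of_eq ?_
    rw [hh, ← card_filter_mem (A.T x)]
    refine Finset.card_bij (fun t _ => u + t) ?_ (fun _ _ _ _ h => add_left_cancel h) ?_
    · intro t ht
      simp only [Finset.mem_filter, Finset.mem_univ, true_and] at ht ⊢
      refine ⟨hcoset i u hu t ht, ?_⟩
      rw [map_add, (A.T x).mkQ_apply t, (Submodule.Quotient.mk_eq_zero _).2 ht, add_zero]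
    · intro v hv
      simp only [Finset.mem_filter, Finset.mem_univ, true_and] at hv ⊢
      refine ⟨v - u, ?_, add_sub_cancel u v⟩
      rw [← Submodule.Quotient.mk_eq_zero, ← Submodule.mkQ_apply, map_sub, hv.2, sub_self]
  -- the total number of incidences
  have htot : ∑ u ∈ Finset.univ.filter (fun u => u ∈ A.S x ∧ u ∉ A.T x), (2 ^ j u - 1) =
      (2 ^ e - 1) * (2 ^ e - 2 ^ h) := by
    let Ex : Finset Y := (Finset.univ.filter fun y => y ∈ A.E x).erase 0
    have h1 : ∀ u, (Ex.filter fun y => y ∈ A.E u).card = 2 ^ j u - 1 := by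
      intro u
      have hs : (Ex.filter fun y => y ∈ A.E u) =
          (Finset.univ.filter fun y => y ∈ A.E x ⊓ A.E u).erase 0 := by
        ext y
        simp only [Ex, Finset.mem_filter, Finset.mem_erase, Finset.mem_univ, true_and,
          Submodule.mem_inf]
        tauto
      rw [hs, Finset.card_erase_of_mem (by simp), card_filter_mem]
    rw [← Finset.sum_congr rfl fun u _ => h1 u,
      show (∑ u ∈ Finset.univ.filter (fun u => u ∈ A.S x ∧ u ∉ A.T x),
          (Ex.filter fun y => y ∈ A.E u).card) =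
          ∑ y ∈ Ex, ((Finset.univ.filter (fun u => u ∈ A.S x ∧ u ∉ A.T x)).filter
            fun u => y ∈ A.E u).card from
        Finset.sum_card_bipartiteAbove_eq_sum_card_bipartiteBelow (fun u y => y ∈ A.E u)]
    have h2 : ∀ y ∈ Ex, ((Finset.univ.filter (fun u => u ∈ A.S x ∧ u ∉ A.T x)).filter
        fun u => y ∈ A.E u).card = 2 ^ e - 2 ^ h := by
      intro y hy
      simp only [Ex, Finset.mem_erase, Finset.mem_filter, Finset.mem_univ, true_and] at hy
      have hs : ((Finset.univ.filter (fun u => u ∈ A.S x ∧ u ∉ A.T x)).filter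
          fun u => y ∈ A.E u) = (Finset.univ.filter fun u => u ∈ A.R y) \
            (Finset.univ.filter fun u => u ∈ A.T x) := by
        ext u
        simp only [Finset.mem_filter, Finset.mem_univ, true_and, Finset.mem_sdiff]
        constructor
        · rintro ⟨⟨-, hu⟩, hyu⟩
          exact ⟨(A.mem_R_iff_mem_E (hne0 u hu) hy.1).2 hyu, hu⟩
        · rintro ⟨hR, hu⟩
          exact ⟨⟨A.R_le_S hspan hx hy.1 hy.2 hR, hu⟩, (A.mem_R_iff_mem_E (hne0 u hu) hy.1).1 hR⟩
      rw [hs, Finset.card_sdiff_of_subset (fun u hu => by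
        simp only [Finset.mem_filter, Finset.mem_univ, true_and] at hu ⊢
        exact A.T_le_R hx hy.1 hy.2 hu), card_filter_mem, card_filter_mem,
        A.finrank_R_eq_E hx hy.1]
    rw [Finset.sum_congr rfl h2, Finset.sum_const, smul_eq_mul,
      Finset.card_erase_of_mem (by simp), card_filter_mem]
  -- some level has an odd number of cosets
  have hjlt : ∀ u, u ∉ A.T x → j u < e := fun u hu => A.inf_E_lt hspan hx (hne0 u hu) hu
  have hsum : ∑ i ∈ Finset.range e, (L i).card * (2 ^ i - 1) = (2 ^ e - 1) * (2 ^ e - 2 ^ h) := by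
    rw [← htot, ← Finset.sum_fiberwise_of_maps_to (g := j) (t := Finset.range e)]
    · refine Finset.sum_congr rfl fun i _ => ?_
      rw [Finset.filter_filter, ← smul_eq_mul, ← Finset.sum_const]
      refine Finset.sum_congr ?_ fun u hu => ?_
      · ext u
        simp [L, and_assoc]
      · simp only [Finset.mem_filter] at hu
        rw [hu.2.2]
    · intro u hu
      exact Finset.mem_range.2 (hjlt u (Finset.mem_filter.1 hu).2.2)
  obtain ⟨i, hi, hodd⟩ : ∃ i ∈ Finset.range e, Odd ((L i).card / 2 ^ h * (2 ^ i - 1)) := by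
    by_contra hall
    push Not at hall
    have h1 : (2 ^ e - 1) * (2 ^ e - 2 ^ h) =
        2 ^ h * ∑ i ∈ Finset.range e, (L i).card / 2 ^ h * (2 ^ i - 1) := by
      rw [← hsum, Finset.mul_sum]
      refine Finset.sum_congr rfl fun i _ => ?_
      rw [← mul_assoc, Nat.mul_div_cancel' (hdvd i)]
    have h2 : Even (∑ i ∈ Finset.range e, (L i).card / 2 ^ h * (2 ^ i - 1)) :=
      Finset.even_sum _ fun i hi => Nat.not_odd_iff_even.1 (hall i hi)
    have h3 : 2 ^ e - 2 ^ h = 2 ^ h * (2 ^ (e - h) - 1) := by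
      rw [Nat.mul_sub, mul_one, ← pow_add, Nat.add_sub_cancel' hlt.le]
    rw [h3, mul_left_comm] at h1
    rw [← Nat.eq_of_mul_eq_mul_left (by positivity) h1] at h2
    refine Nat.not_odd_iff_even.2 h2 (Odd.mul ?_ ?_)
    all_goals
      refine Nat.Even.sub_odd Nat.one_le_two_pow (Nat.even_pow.2 ⟨even_two, ?_⟩) odd_one
      omega
  rw [Finset.mem_range] at hi
  rw [Nat.odd_mul] at hodd
  have hi1 : 1 ≤ i := by
    rcases Nat.eq_zero_or_pos i with rfl | hp
    · simp at hodd
    · exact hp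
  obtain ⟨w, hw⟩ := A.exists_not_mem_S hx
  -- the double count on a level
  have hid : ∀ i, i < e → ∀ w, w ∉ A.S x →
      (2 ^ e - 1) * (((L i).filter fun u => u ∈ A.S w).card * 2 ^ (e - i)) =
        (L i).card * (2 ^ (e - i) - 1) := by
    intro i hi w hw
    have hc := A.count_off hx (L i) (fun u hu => by
      simp only [L, Finset.mem_filter, Finset.mem_univ, true_and] at hu
      exact ⟨hne0 u hu.2.1, hu.1⟩) (hinv i) hw
    obtain ⟨hcw, -⟩ := hspan x w hx hw
    have hm : ∀ u ∈ L i, Module.finrank (ZMod 2) ↥(A.S u ⊓ A.S x) =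
        Module.finrank (ZMod 2) ↥(A.S x ⊓ A.S w) + i := by
      intro u hu
      simp only [L, j, Finset.mem_filter, Finset.mem_univ, true_and] at hu
      have h1 := A.finrank_inf_S hspan hx (hne0 u hu.2.1)
      omega
    rw [Finset.sum_congr rfl fun u hu => by rw [hm u hu], Finset.sum_const, smul_eq_mul] at hc
    have hfe := A.finrank_S_add_E x
    set c := Module.finrank (ZMod 2) ↥(A.S x ⊓ A.S w)
    rw [← hcw] at hc hfe
    rw [← hfe, show c + Module.finrank (ZMod 2) ↥(A.E x) + Module.finrank (ZMod 2) ↥(A.E x) =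
      (c + i) + ((e - i) + e) by omega, show c + Module.finrank (ZMod 2) ↥(A.E x) =
      (c + i) + (e - i) by omega] at hc
    refine Nat.eq_of_mul_eq_mul_left (show 0 < 2 ^ (c + i) by positivity) ?_
    have hp : ∀ a b : ℕ, 2 ^ (a + b) - 2 ^ a = 2 ^ a * (2 ^ b - 1) := fun a b => by
      rw [Nat.mul_sub, mul_one, ← pow_add]
    rw [← add_assoc, hp, hp, pow_add] at hc
    linear_combination -hc
  have hnd : ∀ i, ∀ w, w ∉ A.S x → 2 ^ h - 1 ∣ ((L i).filter fun u => u ∈ A.S w).card := by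
    intro i w hw
    rw [Finset.card_eq_sum_card_image (fun u => A.T u)]
    refine Finset.dvd_sum fun t ht => ?_
    obtain ⟨u, hu, rfl⟩ := Finset.mem_image.1 ht
    simp only [L, j, Finset.mem_filter, Finset.mem_univ, true_and] at hu
    obtain ⟨⟨huS, huT, hju⟩, huw⟩ := hu
    have hu0 := hne0 u huT
    refine dvd_of_eq ?_
    rw [hh, A.finrank_T_eq hx hu0, ← card_filter_mem (A.T u), ← Finset.card_erase_of_mem
      (show (0 : X) ∈ Finset.univ.filter fun z => z ∈ A.T u by simp)]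
    refine Finset.card_bij (fun a _ => a) ?_ (fun _ _ _ _ h => h) (fun a ha => ⟨a, ?_, rfl⟩)
    · intro a ha
      simp only [L, j, Finset.mem_erase, Finset.mem_filter, Finset.mem_univ, true_and] at ha ⊢
      have hS := ((A.mem_T hu0).1 ha.2).resolve_left ha.1
      refine ⟨⟨⟨A.S_symm ha.1 ?_, fun hT => huT ?_, ?_⟩, A.S_symm ha.1 ?_⟩,
        A.T_eq hu0 ha.2 ha.1⟩
      · rw [hS]
        exact A.S_symm hx huS
      · rw [← A.T_eq hx hT ha.1, A.T_eq hu0 ha.2 ha.1]
        exact A.self_mem_T hu0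
      · rw [A.E_eq_of_mem_T hu0 ha.2 ha.1]
        exact hju
      · rw [hS]
        exact A.S_symm (A.ne_zero_of_not_mem hw) huw
    · simp only [L, Finset.mem_erase, Finset.mem_filter, Finset.mem_univ, true_and] at ha ⊢
      refine ⟨hne0 a ha.1.1.2.1, ?_⟩
      rw [← ha.2]
      exact A.self_mem_T (hne0 a ha.1.1.2.1)
  obtain ⟨hji, hn, hN⟩ := level_arith hlt hh1 hi1 hi (hid i hi w hw)
    ⟨_, hodd.1, (Nat.mul_div_cancel' (hdvd i)).symm⟩ (hnd i w hw)
    (hsum ▸ Finset.single_le_sum (f := fun i => (L i).card * (2 ^ i - 1))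
      (fun _ _ => Nat.zero_le _) (Finset.mem_range.2 hi))
  -- all the incidences are in this level
  have hrest : ∀ i' ∈ Finset.range e, i' ≠ i → (L i').card * (2 ^ i' - 1) = 0 := by
    intro i' hi' hne
    have h1 := Finset.sum_erase_add (Finset.range e) (fun i => (L i).card * (2 ^ i - 1))
      (Finset.mem_range.2 hi)
    rw [hsum, hN, show 2 ^ h * (2 ^ e - 1) * (2 ^ i - 1) = (2 ^ e - 1) * (2 ^ e - 2 ^ h) by
      rw [hji, mul_comm (2 ^ h), mul_assoc, Nat.mul_sub, mul_one, ← pow_add,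
        Nat.add_sub_cancel' hlt.le]] at h1
    have h2 : ∑ k ∈ (Finset.range e).erase i, (L k).card * (2 ^ k - 1) = 0 := by omega
    exact (Finset.sum_eq_zero_iff.1 h2) i' (Finset.mem_erase.2 ⟨hne, hi'⟩)
  have hK : ∀ u, u ∈ A.Kset x ↔ u ∈ L i := by
    intro u
    simp only [L, j, Kset, Finset.mem_filter, Finset.mem_univ, true_and, Set.mem_setOf_eq]
    constructor
    · rintro ⟨-, huT, huS, hne⟩
      refine ⟨huS, huT, ?_⟩
      by_contra hju
      have h1 := hrest _ (Finset.mem_range.2 (hjlt u huT)) hju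
      rcases Nat.mul_eq_zero.1 h1 with h2 | h2
      · rw [Finset.card_eq_zero] at h2
        exact Finset.notMem_empty u (h2 ▸ (by simp [L, huS, huT] : u ∈ L (j u)))
      · refine hne (Submodule.finrank_eq_zero.1 ?_)
        by_contra h3
        have := Nat.one_lt_two_pow h3
        simp only [j] at h2
        omega
    · rintro ⟨huS, huT, hju⟩
      refine ⟨hne0 u huT, huT, huS, fun h0 => ?_⟩
      rw [h0, finrank_bot] at hju
      omega
  refine ⟨fun u hu => ?_, ?_, fun z hz => ?_⟩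
  · have := (hK u).1 hu
    simp only [L, j, Finset.mem_filter] at this
    omega
  · rw [← hN, Nat.card_congr (Equiv.subtypeEquivRight hK), Nat.card_eq_finsetCard]
  · have hnz := hid i hi z hz
    have hEq : ((L i).filter fun u => u ∈ A.S z).card = 2 ^ h - 1 := by
      have h0 := hid i hi w hw
      rw [hn, ← hnz] at h0
      exact (Nat.eq_of_mul_eq_mul_right (by positivity)
        (Nat.eq_of_mul_eq_mul_left (by
          have := Nat.one_lt_two_pow (show e ≠ 0 by omega)
          omega) h0)).symm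
    obtain ⟨u, hu⟩ : ((L i).filter fun u => u ∈ A.S z).Nonempty := by
      rw [← Finset.card_pos, hEq]
      have := Nat.one_lt_two_pow (show h ≠ 0 by omega)
      omega
    simp only [Finset.mem_filter] at hu
    have hu' := (hK u).2 hu.1
    refine ⟨u, hu', hu.2, fun v hv hvz => ?_⟩
    have hsub : (Finset.univ.filter fun a => a ∈ A.T u).erase 0 ⊆
        (L i).filter fun a => a ∈ A.S z := by
      intro a ha
      simp only [Finset.mem_erase, Finset.mem_filter, Finset.mem_univ, true_and] at ha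
      have hS := ((A.mem_T hu'.1).1 ha.2).resolve_left ha.1
      refine Finset.mem_filter.2 ⟨(hK a).1 ⟨ha.1, fun hT => hu'.2.1 ?_, A.S_symm ha.1 ?_, ?_⟩,
        A.S_symm ha.1 ?_⟩
      · rw [← A.T_eq hx hT ha.1, A.T_eq hu'.1 ha.2 ha.1]
        exact A.self_mem_T hu'.1
      · rw [hS]
        exact A.S_symm hx hu'.2.2.1
      · rw [A.E_eq_of_mem_T hu'.1 ha.2 ha.1]
        exact hu'.2.2.2
      · rw [hS]
        exact A.S_symm (A.ne_zero_of_not_mem hz) hu.2
    have hcard : ((Finset.univ.filter fun a => a ∈ A.T u).erase 0).card = 2 ^ h - 1 := by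
      rw [Finset.card_erase_of_mem (by simp), card_filter_mem, A.finrank_T_eq hu'.1 hx]
    have heq := Finset.eq_of_subset_of_card_le hsub (by rw [hEq, hcard])
    have hv' : v ∈ (L i).filter fun a => a ∈ A.S z := Finset.mem_filter.2 ⟨(hK v).1 hv, hvz⟩
    rw [← heq] at hv'
    simp only [Finset.mem_erase, Finset.mem_filter] at hv'
    exact hv'.2.2

end Span

end AF

end Cfsg.Agent.TransLinTwo
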