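import Mathlib

/-!
# Transitive linear groups over the field with two elements: tuples and duality

`TupleTrans H i`: `H` is transitive on linearly independent `i`-tuples. Burnside's count gives
as many orbits on `V^a × V*` as on `V^a × V`, so `H` has the orbits of the full linear group there
when `a + 1 ≤ i`; this yields antiflag transitivity on the quotient by an `(i-1)`-space.
-/

set_option autoImplicit false
set_option linter.unusedSectionVars false

set_option linter.style.haveILetI false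

open Module MulAction

namespace Cfsg.Agent.TransLinTwo

variable {V : Type*} [AddCommGroup V] [Module (ZMod 2) V] [Finite V]

/-- Transitivity on linearly independent `i`-tuples. -/
def TupleTrans (H : Subgroup (V ≃ₗ[ZMod 2] V)) (i : ℕ) : Prop :=
  ∀ x y : Fin i → V, LinearIndependent (ZMod 2) x → LinearIndependent (ZMod 2) y →
    ∃ h ∈ H, ∀ k, h (x k) = y k

/-- Every element of `ZMod 2` is zero or one. -/
theorem zmod2_cases (c : ZMod 2) : c = 0 ∨ c = 1 := by
  revert c; decide

theorem add_self (v : V) : v + v = 0 := by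
  rw [← two_smul (ZMod 2) v, show (2 : ZMod 2) = 0 from rfl, zero_smul]

theorem neg_eq (v : V) : -v = v := neg_eq_of_add_eq_zero_left (add_self v)

theorem sub_eq_add' (v w : V) : v - w = v + w := by rw [sub_eq_add_neg, neg_eq]

/-- An independent tuple of any admissible length spanning a given subspace. -/
theorem exists_tuple_ge (i : ℕ) (hi : i ≤ finrank (ZMod 2) V) (S : Submodule (ZMod 2) V)
    (hS : finrank (ZMod 2) S ≤ i) :
    ∃ x : Fin i → V, LinearIndependent (ZMod 2) x ∧ S ≤ Submodule.span (ZMod 2) (Set.range x) := by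
  induction i with
  | zero =>
    refine ⟨Fin.elim0, linearIndependent_empty_type, ?_⟩
    rw [Submodule.finrank_eq_zero.1 (Nat.le_zero.1 hS)]
    exact bot_le
  | succ i ih =>
    rcases Nat.lt_or_ge (finrank (ZMod 2) S) (i + 1) with h | h
    · obtain ⟨x, hx, hle⟩ := ih (Nat.le_of_succ_le hi) (Nat.lt_succ_iff.1 h)
      obtain ⟨y, hy⟩ := exists_linearIndependent_snoc_of_lt_finrank hx (Nat.lt_of_succ_le hi)
      refine ⟨Fin.snoc x y, hy, hle.trans (Submodule.span_mono ?_)⟩
      rintro _ ⟨k, rfl⟩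
      exact ⟨k.castSucc, Fin.snoc_castSucc ..⟩
    · let b := Module.finBasisOfFinrankEq (ZMod 2) S (le_antisymm hS h)
      refine ⟨S.subtype ∘ b, b.linearIndependent.map' _ (Submodule.ker_subtype S), le_of_eq ?_⟩
      rw [Set.range_comp, Submodule.span_image, b.span_eq, Submodule.map_top,
        Submodule.range_subtype]

/-- An equivalence between independent tuples. -/
theorem exists_map_tuple {j : ℕ} {x y : Fin j → V} (hx : LinearIndependent (ZMod 2) x)
    (hy : LinearIndependent (ZMod 2) y) : ∃ g : V ≃ₗ[ZMod 2] V, ∀ k, g (x k) = y k := by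
  let Sx := Submodule.span (ZMod 2) (Set.range x)
  let Sy := Submodule.span (ZMod 2) (Set.range y)
  let e : Sx ≃ₗ[ZMod 2] Sy := (Basis.span hx).equiv (Basis.span hy) (Equiv.refl _)
  obtain ⟨P, hP⟩ := Sx.exists_isCompl
  obtain ⟨Q, hQ⟩ := Sy.exists_isCompl
  have h1 := Submodule.finrank_add_eq_of_isCompl hP
  have h2 := Submodule.finrank_add_eq_of_isCompl hQ
  rw [e.finrank_eq] at h1
  obtain ⟨e'⟩ := FiniteDimensional.nonempty_linearEquiv_of_finrank_eq
    (show finrank (ZMod 2) P = finrank (ZMod 2) Q by omega)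
  refine ⟨(Submodule.prodEquivOfIsCompl _ _ hP).symm.trans
    ((e.prodCongr e').trans (Submodule.prodEquivOfIsCompl _ _ hQ)), fun k => ?_⟩
  have hk : x k ∈ Sx := Submodule.subset_span ⟨k, rfl⟩
  rw [LinearEquiv.trans_apply, show x k = (⟨x k, hk⟩ : Sx).1 from rfl,
    Submodule.prodEquivOfIsCompl_symm_apply_left]
  have he : (e ⟨x k, hk⟩ : V) = y k := by
    rw [show (⟨x k, hk⟩ : Sx) = Basis.span hx k from Subtype.ext (by simp [Basis.span_apply]),
      Basis.equiv_apply, Equiv.refl_apply, Basis.span_apply]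
  rw [← he]
  simp [LinearEquiv.prodCongr_apply]

/-- A transitive group realises any linear map on a small subspace. -/
theorem TupleTrans.agree {H : Subgroup (V ≃ₗ[ZMod 2] V)} {i : ℕ} (hT : TupleTrans H i)
    (hi : i ≤ finrank (ZMod 2) V) (g : V ≃ₗ[ZMod 2] V) (S : Submodule (ZMod 2) V)
    (hS : finrank (ZMod 2) S ≤ i) : ∃ h ∈ H, ∀ v ∈ S, h v = g v := by
  obtain ⟨x, hx, hle⟩ := exists_tuple_ge i hi S hS
  obtain ⟨h, hh, hk⟩ := hT x (g ∘ x) hx (hx.map' g.toLinearMap g.ker)
  refine ⟨h, hh, fun v hv => ?_⟩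
  exact LinearMap.eqOn_span (f := h.toLinearMap) (g := g.toLinearMap)
    (by rintro _ ⟨k, rfl⟩; exact hk k) (hle hv)

theorem TupleTrans.mono {H : Subgroup (V ≃ₗ[ZMod 2] V)} {i j : ℕ} (hT : TupleTrans H i)
    (hi : i ≤ finrank (ZMod 2) V) (hj : j ≤ i) : TupleTrans H j := by
  intro x y hx hy
  obtain ⟨g, hg⟩ : ∃ g : V ≃ₗ[ZMod 2] V, ∀ k, g (x k) = y k :=
    exists_map_tuple hx hy
  have hr : finrank (ZMod 2) (Submodule.span (ZMod 2) (Set.range x)) ≤ i := by
    rw [finrank_span_eq_card hx, Fintype.card_fin]; exact hj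
  obtain ⟨h, hh, hv⟩ := hT.agree hi g _ hr
  exact ⟨h, hh, fun k => (hv _ (Submodule.subset_span ⟨k, rfl⟩)).trans (hg k)⟩

/-- Transitivity on bases means the whole linear group. -/
theorem eq_top_of_tupleTrans {H : Subgroup (V ≃ₗ[ZMod 2] V)}
    (hT : TupleTrans H (finrank (ZMod 2) V)) : H = ⊤ := by
  refine eq_top_iff.2 fun g _ => ?_
  obtain ⟨h, hh, hv⟩ := hT.agree le_rfl g ⊤ (Submodule.finrank_le _)
  rwa [show g = h from LinearEquiv.ext fun v => (hv v trivial).symm]

/-- A transvection fixing `S` and moving `z` to `w`. -/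
theorem exists_fix_map (S : Submodule (ZMod 2) V) {z w : V} (hz : z ∉ S) (hw : w ∉ S) :
    ∃ g : V ≃ₗ[ZMod 2] V, (∀ s ∈ S, g s = s) ∧ g z = w := by
  by_cases hS : z + w ∈ S
  · obtain ⟨f, hf, hfS⟩ := Submodule.exists_le_ker_of_notMem hz
    refine ⟨LinearEquiv.transvection (f := f) (v := (f z)⁻¹ • (z + w)) ?_, fun s hs => ?_, ?_⟩
    · rw [map_smul, hfS hS, smul_zero]
    · rw [LinearEquiv.transvection.apply, hfS hs, zero_smul, add_zero]
    · rw [LinearEquiv.transvection.apply, smul_smul, mul_inv_cancel₀ hf, one_smul, ← add_assoc,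
        add_self, zero_add]
  · have hz' : z ∉ S ⊔ Submodule.span (ZMod 2) {z + w} := by
      intro hm
      obtain ⟨s, hs, t, ht, e⟩ := Submodule.mem_sup.1 hm
      obtain ⟨c, rfl⟩ := Submodule.mem_span_singleton.1 ht
      rcases zmod2_cases c with rfl | rfl
      · rw [zero_smul, add_zero] at e; exact hz (e ▸ hs)
      · rw [one_smul] at e
        have : w = s := by
          rw [← neg_eq s]
          exact eq_neg_of_add_eq_zero_right (add_left_cancel (a := z)
            (by rw [add_zero]; exact (add_left_comm z s w).trans e))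
        exact hw (this ▸ hs)
    obtain ⟨f, hf, hfS⟩ := Submodule.exists_le_ker_of_notMem hz'
    refine ⟨LinearEquiv.transvection (f := f) (v := (f z)⁻¹ • (z + w)) ?_, fun s hs => ?_, ?_⟩
    · rw [map_smul, hfS (Submodule.mem_sup_right (Submodule.mem_span_singleton_self _)), smul_zero]
    · rw [LinearEquiv.transvection.apply, hfS (Submodule.mem_sup_left hs), zero_smul, add_zero]
    · rw [LinearEquiv.transvection.apply, smul_smul, mul_inv_cancel₀ hf, one_smul, ← add_assoc,
        add_self, zero_add]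

/-- Transitivity outside a subspace, fixing it pointwise. -/
theorem TupleTrans.trans_off {H : Subgroup (V ≃ₗ[ZMod 2] V)} {i : ℕ} (hT : TupleTrans H i)
    (hi : i ≤ finrank (ZMod 2) V) (A : Submodule (ZMod 2) V)
    (hA : finrank (ZMod 2) A + 1 ≤ i) {v w : V} (hv : v ∉ A) (hw : w ∉ A) :
    ∃ h ∈ H, (∀ a ∈ A, h a = a) ∧ h v = w := by
  obtain ⟨g, hgA, hgv⟩ := exists_fix_map A hv hw
  have hdim : finrank (ZMod 2) ↥(A ⊔ Submodule.span (ZMod 2) {v}) ≤ i := by
    refine (Submodule.finrank_add_le_finrank_add_finrank _ _).trans ?_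
    rw [finrank_span_singleton (fun h : v = 0 => hv (h ▸ A.zero_mem))]
    exact hA
  obtain ⟨h, hh, hb⟩ := hT.agree hi g _ hdim
  exact ⟨h, hh, fun a ha => (hb a (Submodule.mem_sup_left ha)).trans (hgA a ha),
    (hb v (Submodule.mem_sup_right (Submodule.mem_span_singleton_self v))).trans hgv⟩

/-- Equal fixed point counts give equally many orbits. -/
theorem card_orbits_eq {G X Y : Type*} [Group G] [Finite G] [Finite X] [Finite Y] [MulAction G X]
    [MulAction G Y] (h : ∀ g : G, Nat.card (fixedBy X g) = Nat.card (fixedBy Y g)) :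
    Nat.card (orbitRel.Quotient G X) = Nat.card (orbitRel.Quotient G Y) := by
  classical
  haveI := Fintype.ofFinite G
  haveI := Fintype.ofFinite X
  haveI := Fintype.ofFinite Y
  haveI := Fintype.ofFinite (orbitRel.Quotient G X)
  haveI := Fintype.ofFinite (orbitRel.Quotient G Y)
  simp only [Nat.card_eq_fintype_card] at h ⊢
  have hX := sum_card_fixedBy_eq_card_orbits_mul_card_group G X
  have hY := sum_card_fixedBy_eq_card_orbits_mul_card_group G Y
  rw [Finset.sum_congr rfl fun g _ => h g, hY] at hX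
  exact (Nat.eq_of_mul_eq_mul_right Fintype.card_pos hX).symm

variable (V) in
/-- The contragredient action on the dual space. -/
@[reducible] def dualAction : MulAction (V ≃ₗ[ZMod 2] V) (Module.Dual (ZMod 2) V) where
  smul g φ := φ.comp g.symm.toLinearMap
  one_smul _ := rfl
  mul_smul _ _ _ := rfl

attribute [local instance] dualAction

omit [Finite V] in
theorem dual_smul_apply (g : V ≃ₗ[ZMod 2] V) (φ : Module.Dual (ZMod 2) V) (v : V) :
    (g • φ) v = φ (g.symm v) := rfl

/-- A linear equivalence fixes as many functionals as vectors. -/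
theorem card_fixed_dual (g : V ≃ₗ[ZMod 2] V) :
    Nat.card (fixedBy (Module.Dual (ZMod 2) V) g) = Nat.card (fixedBy V g) := by
  set f : V →ₗ[ZMod 2] V := g.toLinearMap - LinearMap.id
  have e1 : fixedBy V g = (LinearMap.ker f : Set V) := by
    ext v; simp [f, fixedBy, LinearMap.mem_ker, sub_eq_zero]
  have e2 : fixedBy (Module.Dual (ZMod 2) V) g =
      ((LinearMap.range f).dualAnnihilator : Set (Module.Dual (ZMod 2) V)) := by
    ext φ
    simp only [mem_fixedBy, SetLike.mem_coe, Submodule.mem_dualAnnihilator, LinearMap.mem_range,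
      forall_exists_index, forall_apply_eq_imp_iff]
    constructor
    · intro h v
      have := LinearMap.congr_fun h (g v)
      rw [dual_smul_apply, g.symm_apply_apply] at this
      simp [f, ← this]
    · intro h
      refine LinearMap.ext fun v => ?_
      have := h (g.symm v)
      rw [dual_smul_apply]
      simp [f, sub_eq_zero] at this
      exact this.symm
  rw [e1, e2]
  change Nat.card ↥(LinearMap.range f).dualAnnihilator = Nat.card ↥(LinearMap.ker f)
  rw [Module.natCard_eq_pow_finrank (K := ZMod 2) (V := (LinearMap.range f).dualAnnihilator),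
    Module.natCard_eq_pow_finrank (K := ZMod 2) (V := LinearMap.ker f)]
  congr 1
  have h1 := Subspace.finrank_add_finrank_dualAnnihilator_eq (LinearMap.range f)
  have h2 := LinearMap.finrank_range_add_finrank_ker f
  omega

instance finite_lequiv : Finite (V ≃ₗ[ZMod 2] V) :=
  Finite.of_injective (fun g => (g : V → V)) DFunLike.coe_injective

instance finite_dual : Finite (Module.Dual (ZMod 2) V) :=
  Finite.of_injective (fun g => (g : V → ZMod 2)) DFunLike.coe_injective

/-- As many orbits on a module as on its dual. -/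
theorem card_orbits_dual (G : Subgroup (V ≃ₗ[ZMod 2] V)) :
    Nat.card (orbitRel.Quotient G (Module.Dual (ZMod 2) V)) = Nat.card (orbitRel.Quotient G V) :=
  card_orbits_eq fun g => card_fixed_dual g.1

/-- As many orbits on `V^a × V*` as on `V^a × V`. -/
theorem card_orbits_prod_dual (G : Subgroup (V ≃ₗ[ZMod 2] V)) (a : ℕ) :
    Nat.card (orbitRel.Quotient G ((Fin a → V) × Module.Dual (ZMod 2) V)) =
      Nat.card (orbitRel.Quotient G ((Fin a → V) × V)) := by
  refine card_orbits_eq fun g => ?_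
  have key : ∀ (Y : Type _) [MulAction G Y],
      Nat.card (fixedBy ((Fin a → V) × Y) g) =
        Nat.card (fixedBy (Fin a → V) g) * Nat.card (fixedBy Y g) := by
    intro Y _
    rw [← Nat.card_prod]
    exact Nat.card_congr
      { toFun := fun p => (⟨p.1.1, congrArg Prod.fst p.2⟩, ⟨p.1.2, congrArg Prod.snd p.2⟩)
        invFun := fun p => ⟨(p.1.1, p.2.1), Prod.ext p.1.2 p.2.2⟩
        left_inv := fun _ => rfl
        right_inv := fun _ => rfl }
  rw [key, key]
  exact congrArg _ (card_fixed_dual g.1)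

/-- The orbits of a transitive group on `V^a × V*` are those of the linear group. -/
theorem TupleTrans.prod_dual {H : Subgroup (V ≃ₗ[ZMod 2] V)} {i : ℕ} (hT : TupleTrans H i)
    (hi : i ≤ finrank (ZMod 2) V) {a : ℕ} (ha : a + 1 ≤ i) (g : V ≃ₗ[ZMod 2] V)
    (x : Fin a → V) (φ : Module.Dual (ZMod 2) V) :
    ∃ h ∈ H, (∀ k, h (x k) = g (x k)) ∧ φ.comp h.symm.toLinearMap = φ.comp g.symm.toLinearMap := by
  classical
  let X := (Fin a → V) × Module.Dual (ZMod 2) V
  let toTop : orbitRel.Quotient H X → orbitRel.Quotient (⊤ : Subgroup (V ≃ₗ[ZMod 2] V)) X :=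
    Quotient.map id fun p q hpq => by
      obtain ⟨k, hk⟩ := hpq
      exact ⟨⟨k.1, trivial⟩, hk⟩
  have hsurj : Function.Surjective toTop := fun q => Quotient.inductionOn q fun p => ⟨⟦p⟧, rfl⟩
  have hV : Nat.card (orbitRel.Quotient H ((Fin a → V) × V)) =
      Nat.card (orbitRel.Quotient (⊤ : Subgroup (V ≃ₗ[ZMod 2] V)) ((Fin a → V) × V)) := by
    refine Nat.card_congr (Quotient.congrRight fun p q => ?_)
    constructor
    · rintro ⟨k, hk⟩; exact ⟨⟨k.1, trivial⟩, hk⟩
    · rintro ⟨k, hk⟩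
      let z : Fin (a + 1) → V := Fin.snoc q.1 q.2
      have hz : finrank (ZMod 2) (Submodule.span (ZMod 2) (Set.range z)) ≤ i :=
        ((finrank_range_le_card z).trans (Fintype.card_fin _).le).trans ha
      obtain ⟨h, hh, hv⟩ := hT.agree hi k.1 _ hz
      refine ⟨⟨h, hh⟩, Eq.trans (Prod.ext (funext fun j => ?_) ?_) hk⟩
      · exact hv _ (Submodule.subset_span ⟨j.castSucc, Fin.snoc_castSucc ..⟩)
      · exact hv _ (Submodule.subset_span ⟨Fin.last a, Fin.snoc_last ..⟩)
  have hcard : Nat.card (orbitRel.Quotient H X) =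
      Nat.card (orbitRel.Quotient (⊤ : Subgroup (V ≃ₗ[ZMod 2] V)) X) := by
    rw [card_orbits_prod_dual, card_orbits_prod_dual, hV]
  have hinj : Function.Injective toTop :=
    ((Nat.bijective_iff_surjective_and_card toTop).2 ⟨hsurj, hcard⟩).1
  have heq : (⟦g • (x, φ)⟧ : orbitRel.Quotient H X) = ⟦(x, φ)⟧ :=
    hinj (Quotient.sound ⟨⟨g, trivial⟩, rfl⟩)
  obtain ⟨k, hk⟩ := Quotient.exact heq
  exact ⟨k.1, k.2, fun j => congrFun (congrArg Prod.fst hk) j, congrArg Prod.snd hk⟩

/-- Transitivity on the functionals with given nonzero restriction to a small subspace. -/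
theorem TupleTrans.dual_trans {H : Subgroup (V ≃ₗ[ZMod 2] V)} {i : ℕ} (hT : TupleTrans H i)
    (hi : i ≤ finrank (ZMod 2) V) (A : Submodule (ZMod 2) V)
    (hA : finrank (ZMod 2) A + 1 ≤ i) (φ φ' : Module.Dual (ZMod 2) V)
    (hval : ∀ a ∈ A, φ a = φ' a) (hne : ∃ a ∈ A, φ a ≠ 0) :
    ∃ h ∈ H, (∀ a ∈ A, h a = a) ∧ ∀ v, φ' (h v) = φ v := by
  obtain ⟨a₀, ha₀, hne⟩ := hne
  have h1 : φ a₀ = 1 := (zmod2_cases _).resolve_left hne
  have ht : (φ - φ') a₀ = 0 := by simp [hval a₀ ha₀]
  set g := LinearEquiv.transvection (f := φ - φ') (v := a₀) ht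
  let b := Module.finBasis (ZMod 2) A
  obtain ⟨h, hh, hx, hφ⟩ := hT.prod_dual hi hA g (A.subtype ∘ b) φ
  have hfix : ∀ a ∈ A, h a = a := by
    have hgA : ∀ a ∈ A, g a = a := fun a ha => by
      rw [LinearEquiv.transvection.apply, LinearMap.sub_apply, hval a ha, sub_self, zero_smul,
        add_zero]
    have : h.toLinearMap.comp A.subtype = A.subtype :=
      b.ext fun k => (hx k).trans (hgA _ (b k).2)
    exact fun a ha => LinearMap.congr_fun this ⟨a, ha⟩
  refine ⟨h, hh, hfix, fun v => ?_⟩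
  have hg' : ∀ w, φ' (g w) = φ w := fun w => by
    rw [LinearEquiv.transvection.apply, map_add, map_smul, ← hval a₀ ha₀, h1, smul_eq_mul,
      mul_one, LinearMap.sub_apply, add_sub_cancel]
  have := LinearMap.congr_fun hφ (h v)
  simp only [LinearMap.comp_apply, LinearEquiv.coe_coe, LinearEquiv.symm_apply_apply] at this
  rw [this, ← hg', g.apply_symm_apply]

/-- The index of a subgroup from a map with its cosets as fibres. -/
theorem index_eq_card_range {K X : Type*} [Group K] (S : Subgroup K) (f : K → X)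
    (hf : ∀ a b, f a = f b ↔ a⁻¹ * b ∈ S) : S.index = Nat.card (Set.range f) := by
  rw [Subgroup.index_eq_card]
  refine Nat.card_eq_of_bijective
    (Quotient.lift (fun a => (⟨f a, a, rfl⟩ : Set.range f))
      fun a b hab => Subtype.ext ((hf a b).2 (QuotientGroup.leftRel_apply.1 hab))) ⟨?_, ?_⟩
  · rintro ⟨a⟩ ⟨b⟩ hpq
    exact Quotient.sound (QuotientGroup.leftRel_apply.2 ((hf a b).1 (congrArg Subtype.val hpq)))
  · rintro ⟨_, a, rfl⟩; exact ⟨⟦a⟧, rfl⟩

/-- Subgroups of coprime index factorise the group. -/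
theorem exists_mul_of_coprime_index {K : Type*} [Group K] [Finite K] (S T : Subgroup K)
    (h : Nat.Coprime S.index T.index) (k : K) : ∃ s ∈ S, ∃ t ∈ T, s * t = k := by
  let m : S ⧸ T.subgroupOf S → K ⧸ T := Quotient.map (fun s => (s : K)) fun a b hab =>
    QuotientGroup.leftRel_apply.2 (QuotientGroup.leftRel_apply.1 hab :)
  have hinj : Function.Injective m := by
    rintro ⟨a⟩ ⟨b⟩ hab
    exact Quotient.sound (QuotientGroup.leftRel_apply.2
      (QuotientGroup.leftRel_apply.1 (Quotient.exact hab) :))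
  have hle : Nat.card (S ⧸ T.subgroupOf S) ≤ Nat.card (K ⧸ T) :=
    Nat.card_le_card_of_injective m hinj
  have hd : T.index ∣ (T.subgroupOf S).index * S.index := by
    change T.index ∣ T.relIndex S * S.index
    rw [← Subgroup.inf_relIndex_right T S, Subgroup.relIndex_mul_index inf_le_right]
    exact Subgroup.index_dvd_of_le inf_le_left
  have hd' : T.index ∣ (T.subgroupOf S).index := (h.symm.dvd_of_dvd_mul_right hd)
  rw [← Subgroup.index_eq_card, ← Subgroup.index_eq_card] at hle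
  have hcard := le_antisymm hle (Nat.le_of_dvd
    (Nat.pos_of_ne_zero Subgroup.index_ne_zero_of_finite) hd')
  rw [Subgroup.index_eq_card, Subgroup.index_eq_card] at hcard
  obtain ⟨⟨s⟩, hs⟩ :=
    ((Nat.bijective_iff_injective_and_card m).2 ⟨hinj, hcard⟩).2 (QuotientGroup.mk k)
  exact ⟨s.1, s.2, (s.1)⁻¹ * k, QuotientGroup.eq.1 hs, mul_inv_cancel_left _ _⟩

variable (H : Subgroup (V ≃ₗ[ZMod 2] V))

/-- The elements of `H` fixing `A` pointwise. -/
def pointFix (A : Submodule (ZMod 2) V) : Subgroup (V ≃ₗ[ZMod 2] V) where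
  carrier := {h | h ∈ H ∧ ∀ a ∈ A, h a = a}
  one_mem' := ⟨H.one_mem, fun _ _ => rfl⟩
  mul_mem' := fun {g h} hg hh => ⟨H.mul_mem hg.1 hh.1, fun a ha => by
    rw [LinearEquiv.mul_apply, hh.2 a ha, hg.2 a ha]⟩
  inv_mem' := fun {g} hg => ⟨H.inv_mem hg.1, fun a ha =>
    g.symm_apply_eq.2 (hg.2 a ha).symm⟩

theorem mem_pointFix {A : Submodule (ZMod 2) V} {h : V ≃ₗ[ZMod 2] V} :
    h ∈ pointFix H A ↔ h ∈ H ∧ ∀ a ∈ A, h a = a := Iff.rfl

/-- The functionals agreeing with `φ` on `A` number `2 ^ codim A`. -/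
theorem card_agree (A : Submodule (ZMod 2) V) (φ : Module.Dual (ZMod 2) V) :
    Nat.card {ψ : Module.Dual (ZMod 2) V | ∀ a ∈ A, φ a = ψ a} =
      2 ^ (finrank (ZMod 2) V - finrank (ZMod 2) A) := by
  rw [show Nat.card {ψ : Module.Dual (ZMod 2) V | ∀ a ∈ A, φ a = ψ a} =
      Nat.card A.dualAnnihilator from Nat.card_congr
      { toFun := fun ψ => ⟨ψ.1 - φ, (Submodule.mem_dualAnnihilator _).2 fun a ha => by
          rw [LinearMap.sub_apply, ψ.2 a ha, sub_self]⟩
        invFun := fun δ => ⟨δ.1 + φ, fun a ha => by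
          rw [LinearMap.add_apply, (Submodule.mem_dualAnnihilator _).1 δ.2 a ha, zero_add]⟩
        left_inv := fun _ => Subtype.ext (sub_add_cancel _ _)
        right_inv := fun _ => Subtype.ext (add_sub_cancel_right _ _) }]
  rw [Module.natCard_eq_pow_finrank (K := ZMod 2), Nat.card_zmod]
  congr 1
  have := Subspace.finrank_add_finrank_dualAnnihilator_eq A
  omega

/-- Antiflag transitivity on the quotient by an `(i-1)`-space. -/
theorem antiflag_of_tupleTrans {H : Subgroup (V ≃ₗ[ZMod 2] V)} {i : ℕ} (hT : TupleTrans H i)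
    (hi : i ≤ finrank (ZMod 2) V) (A : Submodule (ZMod 2) V) (hA0 : A ≠ ⊥)
    (hA : finrank (ZMod 2) A + 1 ≤ i) {v : V} (hv : v ∉ A) (φ φ' : Module.Dual (ZMod 2) V)
    (hφ : ∀ a ∈ A, φ a = 0) (hφ' : ∀ a ∈ A, φ' a = 0) (h1 : φ v = 1) (h1' : φ' v = 1) :
    ∃ h ∈ H, A.map h.toLinearMap = A ∧ h v + v ∈ A ∧ ∀ w, φ' (h w) = φ w := by
  classical
  obtain ⟨a₀, ha₀, ha₀0⟩ := A.exists_mem_ne_zero_of_ne_bot hA0
  have hout : a₀ ∉ Submodule.span (ZMod 2) {v} := by
    intro hm
    obtain ⟨c, hc⟩ := Submodule.mem_span_singleton.1 hm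
    rcases zmod2_cases c with rfl | rfl
    · exact ha₀0 (by rw [← hc, zero_smul])
    · exact hv (by rw [one_smul] at hc; exact hc ▸ ha₀)
  obtain ⟨f, hf, hfv⟩ := Submodule.exists_le_ker_of_notMem hout
  have hfv0 : f v = 0 := hfv (Submodule.mem_span_singleton_self v)
  set g := LinearEquiv.transvection (f := f) (v := v) hfv0
  set A' := A.map g.toLinearMap
  have hgv : g v = v := by rw [LinearEquiv.transvection.apply, hfv0, zero_smul, add_zero]
  have hvA' : v ∉ A' := by
    rintro ⟨a, ha, e⟩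
    exact hv ((g.injective (e.trans hgv.symm)) ▸ ha)
  have hA' : finrank (ZMod 2) A' + 1 ≤ i := by
    rw [LinearEquiv.finrank_map_eq]; exact hA
  have hval : ∀ a' ∈ A', φ a' = φ' a' := by
    rintro _ ⟨a, ha, rfl⟩
    show φ (g a) = φ' (g a)
    rw [LinearEquiv.transvection.apply hfv0 a, map_add, map_add, map_smul, map_smul,
      hφ a ha, hφ' a ha, h1, h1']
  have hne : φ (g a₀) ≠ 0 := by
    rw [LinearEquiv.transvection.apply hfv0 a₀, map_add, map_smul, hφ a₀ ha₀, h1, zero_add,
      smul_eq_mul, mul_one]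
    exact hf
  haveI : Finite (V ⧸ A') := Finite.of_surjective _ A'.mkQ_surjective
  let K := pointFix H A'
  -- the class of `v` modulo `A'`
  let S₁ : Subgroup K :=
    { carrier := {k | (A'.mkQ (k.1 v)) = A'.mkQ v}
      one_mem' := rfl
      mul_mem' := fun {p q} hp hq => by
        simp only [Set.mem_ofPred_eq, Submodule.mkQ_apply, Submodule.Quotient.eq] at hp hq ⊢
        have := A'.add_mem (show p.1 (q.1 v - v) ∈ A' by rw [p.2.2 _ hq]; exact hq) hp
        rw [map_sub, sub_add_sub_cancel] at this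
        exact this
      inv_mem' := fun {p} hp => by
        simp only [Set.mem_ofPred_eq, Submodule.mkQ_apply, Submodule.Quotient.eq] at hp ⊢
        have : (p.1)⁻¹ (p.1 v - v) ∈ A' := ((p⁻¹).2.2 _ hp).symm ▸ hp
        rw [map_sub, ← LinearEquiv.mul_apply, inv_mul_cancel, show ((1 : V ≃ₗ[ZMod 2] V) v) = v from rfl] at this
        rw [← neg_sub]; exact A'.neg_mem this }
  let S₂ : Subgroup K :=
    { carrier := {k | ∀ w, φ (k.1 w) = φ w}
      one_mem' := fun _ => rfl
      mul_mem' := fun {p q} hp hq w => (hp _).trans (hq w)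
      inv_mem' := fun {p} hp w => by
        conv_rhs => rw [← p.1.apply_symm_apply w]
        exact (hp _).symm }
  have hi1 : Odd S₁.index := by
    rw [index_eq_card_range S₁ (fun k => A'.mkQ (k.1 v)) fun p q => ?_]
    · have hr : Set.range (fun k : K => A'.mkQ (k.1 v)) = {0}ᶜ := by
        ext x
        obtain ⟨w, rfl⟩ := A'.mkQ_surjective x
        simp only [Set.mem_range, Set.mem_compl_iff, Set.mem_singleton_iff, Submodule.mkQ_apply,
          Submodule.Quotient.mk_eq_zero]
        constructor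
        · rintro ⟨k, hk⟩ hw
          have hkv : k.1 v ∈ A' := by
            simpa [sub_add_cancel] using A'.add_mem ((Submodule.Quotient.eq A').1 hk) hw
          exact hvA' (k.1.injective (k.2.2 _ hkv) ▸ hkv)
        · intro hw
          obtain ⟨h, hh, hfix, hhv⟩ := hT.trans_off hi A' hA' hvA' hw
          exact ⟨⟨h, hh, hfix⟩, congrArg _ hhv⟩
      rw [hr, Nat.card_coe_set_eq, Set.ncard_compl _ (Set.toFinite _) (@Set.toFinite _ _ Subtype.finite),
        Set.ncard_singleton,
        Module.natCard_eq_pow_finrank (K := ZMod 2), Nat.card_zmod]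
      have hpos : finrank (ZMod 2) (V ⧸ A') ≠ 0 := fun h0 => by
        have := Submodule.finrank_quotient_add_finrank A'
        have := hA'
        omega
      exact Nat.Even.sub_odd Nat.one_le_two_pow ((Nat.even_pow' hpos).2 even_two) odd_one
    · show A'.mkQ (p.1 v) = A'.mkQ (q.1 v) ↔ A'.mkQ ((p.1⁻¹ * q.1) v) = A'.mkQ v
      simp only [Submodule.mkQ_apply, Submodule.Quotient.eq, LinearEquiv.mul_apply]
      constructor
      · intro h
        have h' : (p.1)⁻¹ (p.1 v - q.1 v) ∈ A' := ((p⁻¹).2.2 _ h).symm ▸ h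
        rw [map_sub, ← LinearEquiv.mul_apply, inv_mul_cancel, show ∀ w, ((1 : V ≃ₗ[ZMod 2] V) w) = w from fun _ => rfl] at h'
        rw [← neg_sub]; exact A'.neg_mem h'
      · intro h
        have h' : p.1 ((p.1)⁻¹ (q.1 v) - v) ∈ A' := by rw [p.2.2 _ h]; exact h
        rw [map_sub, ← LinearEquiv.mul_apply p.1, mul_inv_cancel, show ∀ w, ((1 : V ≃ₗ[ZMod 2] V) w) = w from fun _ => rfl] at h'
        rw [← neg_sub]; exact A'.neg_mem h'
  have hi2 : S₂.index = 2 ^ (finrank (ZMod 2) V - finrank (ZMod 2) A') := by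
    rw [index_eq_card_range S₂ (fun k => φ.comp k.1.symm.toLinearMap) fun p q => ?_,
      ← card_agree A' φ]
    · congr 2
      ext ψ
      constructor
      · rintro ⟨k, rfl⟩ a ha
        show φ a = φ (k.1.symm a)
        rw [(k.1.symm_apply_eq.2 (k.2.2 a ha).symm)]
      · intro hψ
        obtain ⟨h, hh, hfix, hhv⟩ := hT.dual_trans hi A' hA' φ ψ hψ ⟨_, ⟨a₀, ha₀, rfl⟩, hne⟩
        refine ⟨⟨h, hh, hfix⟩, LinearMap.ext fun w => ?_⟩
        show φ (h.symm w) = ψ w
        rw [← hhv, h.apply_symm_apply]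
    · constructor
      · intro h w
        have := LinearMap.congr_fun h (q.1 w)
        simpa using this
      · intro h
        refine LinearMap.ext fun w => ?_
        have := h (q.1.symm w)
        simpa using this
  obtain ⟨h₀, hh₀, hfix₀, hh₀φ⟩ := hT.dual_trans hi A' hA' φ φ' hval ⟨_, ⟨a₀, ha₀, rfl⟩, hne⟩
  have hcop : Nat.Coprime S₁.index S₂.index := by
    rw [hi2]; exact Nat.Coprime.pow_right _ hi1.coprime_two_right
  obtain ⟨s₁, hs₁, s₂, hs₂, e⟩ := exists_mul_of_coprime_index S₁ S₂ hcop ⟨h₀, hh₀, hfix₀⟩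
  have hfun : ∀ w, φ' (s₁.1 w) = φ w := fun w => by
    have h := hh₀φ (s₂.1.symm w)
    have e' : h₀ = s₁.1 * s₂.1 := (congrArg Subtype.val e).symm
    rw [e', LinearEquiv.mul_apply, s₂.1.apply_symm_apply] at h
    rw [h, ← hs₂, s₂.1.apply_symm_apply]
  obtain ⟨a₁, ha₁, e₁⟩ : s₁.1 v + v ∈ A' := by
    rw [← sub_eq_add']; exact (Submodule.Quotient.eq A').1 hs₁
  have e₁' : g a₁ = s₁.1 v + v := e₁
  have hga : ∀ a, g a = a + f a • v := fun a => LinearEquiv.transvection.apply hfv0 a
  have hfa₁ : f a₁ = 0 := by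
    have h := congrArg φ' e₁'
    rw [hga, map_add, map_add, map_smul, hφ' a₁ ha₁, hfun, h1, h1', smul_eq_mul, mul_one,
      zero_add] at h
    exact h.trans (by decide)
  have hga₁ : g a₁ = a₁ := by rw [hga, hfa₁, zero_smul, add_zero]
  rw [hga₁] at e₁'
  refine ⟨s₁.1, s₁.2.1, ?_, e₁' ▸ ha₁, hfun⟩
  refine Submodule.eq_of_le_of_finrank_eq ?_ (LinearEquiv.finrank_map_eq _ _)
  rintro _ ⟨a, ha, rfl⟩
  have hsv : s₁.1 v = a₁ + v := by rw [e₁', add_assoc, add_self, add_zero]
  have h3 : s₁.1 a = a + f a • a₁ := by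
    have h := s₁.2.2 _ ⟨a, ha, rfl⟩
    rw [show g.toLinearMap a = a + f a • v from hga a, map_add, map_smul, hsv, smul_add,
      ← add_assoc, add_right_cancel_iff] at h
    exact (congrArg (· + f a • a₁) h).symm.trans (by rw [add_assoc, add_self, add_zero]) |>.symm
  show s₁.1 a ∈ A
  rw [h3]
  exact A.add_mem ha (A.smul_mem _ ha₁)

/-- The image on `V ⧸ A` of the setwise stabiliser of `A`. -/
def quotStab (H : Subgroup (V ≃ₗ[ZMod 2] V)) (A : Submodule (ZMod 2) V) :
    Subgroup ((V ⧸ A) ≃ₗ[ZMod 2] (V ⧸ A)) where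
  carrier := {g | ∃ h ∈ H, A.map h.toLinearMap = A ∧ ∀ x, g (A.mkQ x) = A.mkQ (h x)}
  one_mem' := ⟨1, H.one_mem, Submodule.map_id _, fun _ => rfl⟩
  mul_mem' := by
    rintro g g' ⟨h, hh, hA, hx⟩ ⟨h', hh', hA', hx'⟩
    refine ⟨h * h', H.mul_mem hh hh', ?_, fun x => ?_⟩
    · show A.map (h.toLinearMap ∘ₗ h'.toLinearMap) = A
      rw [Submodule.map_comp, hA', hA]
    · rw [LinearEquiv.mul_apply, hx', hx]; rfl
  inv_mem' := by
    rintro g ⟨h, hh, hA, hx⟩
    refine ⟨h⁻¹, H.inv_mem hh, ?_, fun x => ?_⟩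
    · conv_lhs => rw [← hA]
      rw [← Submodule.map_comp]
      convert Submodule.map_id A
      exact LinearMap.ext fun y => h.symm_apply_apply y
    · show g.symm (A.mkQ x) = A.mkQ (h.symm x)
      rw [LinearEquiv.symm_apply_eq, hx, h.apply_symm_apply]

/-- Transitivity on the incident pairs of a point and a functional with value one. -/
def AntiflagTrans {W : Type*} [AddCommGroup W] [Module (ZMod 2) W]
    (G : Subgroup (W ≃ₗ[ZMod 2] W)) : Prop :=
  ∀ (v w : W) (φ ψ : Module.Dual (ZMod 2) W), φ v = 1 → ψ w = 1 →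
    ∃ g ∈ G, g v = w ∧ ∀ x, ψ (g x) = φ x

/-- The quotient by an `(i-1)`-space carries an antiflag transitive group. -/
theorem TupleTrans.antiflagTrans {H : Subgroup (V ≃ₗ[ZMod 2] V)} {i : ℕ} (hT : TupleTrans H i)
    (hi : i ≤ finrank (ZMod 2) V) (A : Submodule (ZMod 2) V) (hA0 : A ≠ ⊥)
    (hA : finrank (ZMod 2) A + 1 ≤ i) : AntiflagTrans (quotStab H A) := by
  intro v' w' φ ψ hv hw
  obtain ⟨v, rfl⟩ := A.mkQ_surjective v'
  obtain ⟨w, rfl⟩ := A.mkQ_surjective w'
  have hvA : v ∉ A := fun h => by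
    rw [Submodule.mkQ_apply, (Submodule.Quotient.mk_eq_zero A).2 h, map_zero] at hv
    exact zero_ne_one hv
  have hwA : w ∉ A := fun h => by
    rw [Submodule.mkQ_apply, (Submodule.Quotient.mk_eq_zero A).2 h, map_zero] at hw
    exact zero_ne_one hw
  obtain ⟨h₁, hh₁, hfix, hvw⟩ := hT.trans_off hi A hA hvA hwA
  have hA1 : A.map h₁.toLinearMap = A :=
    Submodule.eq_of_le_of_finrank_eq (by rintro _ ⟨a, ha, rfl⟩; exact (hfix a ha).symm ▸ ha)
      (LinearEquiv.finrank_map_eq _ _)
  have hmk : ∀ a ∈ A, A.mkQ a = 0 := fun a ha => (Submodule.Quotient.mk_eq_zero A).2 ha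
  obtain ⟨h₂, hh₂, hA2, hv2, hφ2⟩ := antiflag_of_tupleTrans hT hi A hA0 hA hvA
    (φ.comp A.mkQ) ((ψ.comp A.mkQ).comp h₁.toLinearMap)
    (fun a ha => by simp [(Submodule.Quotient.mk_eq_zero A).2 ha])
    (fun a ha => by simp [hfix a ha, (Submodule.Quotient.mk_eq_zero A).2 ha])
    hv (by simpa [hvw] using hw)
  have hA12 : A.map (h₁ * h₂).toLinearMap = A := by
    show A.map (h₁.toLinearMap ∘ₗ h₂.toLinearMap) = A
    rw [Submodule.map_comp, hA2, hA1]
  refine ⟨Submodule.Quotient.equiv A A (h₁ * h₂) hA12, ⟨h₁ * h₂, H.mul_mem hh₁ hh₂, hA12,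
    fun _ => rfl⟩, ?_, ?_⟩
  · show A.mkQ ((h₁ * h₂) v) = A.mkQ w
    rw [LinearEquiv.mul_apply, ← hvw, Submodule.mkQ_apply, Submodule.mkQ_apply,
      Submodule.Quotient.eq, sub_eq_add', ← map_add, hfix _ hv2]
    exact hv2
  · intro x
    obtain ⟨x, rfl⟩ := A.mkQ_surjective x
    exact hφ2 x

end Cfsg.Agent.TransLinTwo
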