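import Cfsg.Agent.Lib.Perm.TransLinTwo.Step
import Cfsg.Agent.Lib.Perm.SingerPoint.Galois
import Cfsg.Agent.Lib.Perm.PrimeDegree
import Cfsg.Agent.Lib.Perm.Primitive

/-!
# Transitive linear groups in prime Mersenne dimension over two elements: the frame

A group transitive on the nonzero vectors contains an element of order `2^n - 1`; either this
generates a normal subgroup (the semilinear cases), or the group is transitive on independent pairs,
and an inductive step makes it the whole linear group.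
-/

set_option autoImplicit false
set_option linter.unusedSectionVars false
set_option linter.style.haveILetI false

open Module
open scoped commutatorElement

namespace Cfsg.Agent.TransLinTwo

variable {V : Type*} [AddCommGroup V] [Module (ZMod 2) V] [Finite V]

theorem card_ne_zero_vectors {n : ℕ} (hn : finrank (ZMod 2) V = n) :
    Nat.card {v : V // v ≠ 0} = 2 ^ n - 1 := by
  change Nat.card ↥({0}ᶜ : Set V) = 2 ^ n - 1
  rw [Nat.card_coe_set_eq, Set.ncard_compl _ (Set.toFinite _) (Set.toFinite _), Set.ncard_singleton,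
    Module.natCard_eq_pow_finrank (K := ZMod 2), Nat.card_zmod, hn]

/-- An element of order `2^n - 1` is transitive on the nonzero vectors when this is prime. -/
theorem trans_of_orderOf {n : ℕ} (hn : finrank (ZMod 2) V = n) (hp : (2 ^ n - 1).Prime)
    {g : V ≃ₗ[ZMod 2] V} (hg : orderOf g = 2 ^ n - 1) {v w : V} (hv : v ≠ 0) (hw : w ≠ 0) :
    ∃ k : ℕ, (g ^ k) v = w := by
  classical
  have hne : ∃ u, g u ≠ u := by
    by_contra h
    push Not at h
    rw [show g = 1 from LinearEquiv.ext h, orderOf_one] at hg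
    exact hp.ne_one hg.symm
  have key : ∀ u, g u ≠ u → ∀ x : V, x ≠ 0 → ∃ k : ℕ, (g ^ k) u = x := by
    intro u hu x hx
    haveI : NeZero (2 ^ n - 1) := ⟨hp.ne_zero⟩
    have hu0 : u ≠ 0 := fun h => hu (by rw [h, map_zero])
    have hinj : Function.Injective (fun k : Fin (2 ^ n - 1) =>
        (⟨(g ^ (k : ℕ)) u, fun h => hu0 ((g ^ (k : ℕ)).map_eq_zero_iff.1 h)⟩ : {v : V // v ≠ 0})) := by
      intro a b hab
      by_contra hne'
      wlog hle : (a : ℕ) ≤ (b : ℕ) generalizing a b
      · exact this hab.symm (Ne.symm hne') (le_of_not_ge hle)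
      obtain ⟨d, hd⟩ := Nat.le.dest hle
      have e : (g ^ d) u = u := by
        have h := congrArg Subtype.val hab
        simp only [← hd, pow_add, LinearEquiv.mul_apply] at h
        exact ((g ^ (a : ℕ)).injective h).symm
      have hd0 : ¬ (2 ^ n - 1) ∣ d := fun hdvd => by
        have := Nat.eq_zero_of_dvd_of_lt hdvd (by omega)
        exact hne' (Fin.ext (by omega))
      have hmem : g ∈ Subgroup.zpowers (g ^ d) := by
        rw [mem_zpowers_pow_iff, hg, Nat.gcd_comm]
        exact (hp.coprime_iff_not_dvd).2 hd0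
      obtain ⟨z, hz⟩ := hmem
      have hfix : ∀ z : ℤ, ((g ^ d) ^ z) u = u := by
        intro z
        induction z using Int.induction_on with
        | zero => rfl
        | succ m ih => rw [zpow_add, zpow_one, LinearEquiv.mul_apply, e, ih]
        | pred m ih =>
          rw [zpow_sub, zpow_one, LinearEquiv.mul_apply,
            show (g ^ d)⁻¹ u = u from (g ^ d).symm_apply_eq.2 e.symm, ih]
      exact hu (by rw [← hz]; exact hfix z)
    obtain ⟨k, hk⟩ := ((Nat.bijective_iff_injective_and_card _).2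
      ⟨hinj, by rw [Nat.card_fin, card_ne_zero_vectors hn]⟩).2 ⟨x, hx⟩
    exact ⟨k, congrArg Subtype.val hk⟩
  obtain ⟨u, hu⟩ := hne
  have hv' : g v ≠ v := by
    intro h
    obtain ⟨k, hk⟩ := key u hu v hv
    apply hu
    apply (g ^ k).injective
    rw [← LinearEquiv.mul_apply, ← pow_succ, pow_succ', LinearEquiv.mul_apply, hk, h]
  exact key v hv' w hw

/-- The stabiliser of a vector. -/
def vecStab (H : Subgroup (V ≃ₗ[ZMod 2] V)) (v : V) : Subgroup H where
  carrier := {h | h.1 v = v}
  one_mem' := rfl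
  mul_mem' := fun {a b} ha hb => by
    show a.1 (b.1 v) = v
    rw [hb, ha]
  inv_mem' := fun {a} ha => a.1.symm_apply_eq.2 (Eq.symm ha)

variable {n : ℕ} {H : Subgroup (V ≃ₗ[ZMod 2] V)}

theorem index_vecStab (hn : finrank (ZMod 2) V = n)
    (htr : ∀ v w : V, v ≠ 0 → w ≠ 0 → ∃ h ∈ H, h v = w) {v : V} (hv : v ≠ 0) :
    (vecStab H v).index = 2 ^ n - 1 := by
  rw [index_eq_card_range (vecStab H v) (fun h => h.1 v) fun a b => ?_, ← card_ne_zero_vectors hn]
  · congr 2
    ext w
    constructor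
    · rintro ⟨h, rfl⟩; exact fun e => hv (h.1.map_eq_zero_iff.1 e)
    · intro hw
      obtain ⟨h, hh, e⟩ := htr v w hv hw
      exact ⟨⟨h, hh⟩, e⟩
  · show a.1 v = b.1 v ↔ a.1.symm (b.1 v) = v
    rw [LinearEquiv.symm_apply_eq, eq_comm]

/-- Linear maps as automorphisms of the multiplicative group of the space. -/
def toMulAut : (V ≃ₗ[ZMod 2] V) →* MulAut (Multiplicative V) where
  toFun g := AddEquiv.toMultiplicative g.toAddEquiv
  map_one' := rfl
  map_mul' _ _ := rfl

theorem toMulAut_apply (g : V ≃ₗ[ZMod 2] V) (v : Multiplicative V) :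
    toMulAut g v = Multiplicative.ofAdd (g v.toAdd) := rfl

theorem toMulAut_injective : Function.Injective (toMulAut (V := V)) := fun f g h =>
  LinearEquiv.ext fun v => Multiplicative.ofAdd.injective
    (DFunLike.congr_fun h (Multiplicative.ofAdd v))

/-- The normaliser of a Singer cycle induces powers of squaring. -/
theorem conj_eq_pow_two_pow (hn : finrank (ZMod 2) V = n) (hp : (2 ^ n - 1).Prime)
    {g h : V ≃ₗ[ZMod 2] V} (hg : orderOf g = 2 ^ n - 1)
    (hh : h * g * h⁻¹ ∈ Subgroup.zpowers g) : ∃ i : ℕ, h * g * h⁻¹ = g ^ 2 ^ i := by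
  have hn1 : 1 ≤ n := Nat.one_le_iff_ne_zero.2 fun h0 => by simp [h0] at hp; exact Nat.not_prime_zero hp
  set S := (Subgroup.zpowers g).map (toMulAut (V := V))
  have hnorm : toMulAut h ∈ Subgroup.normalizer (S : Set (MulAut (Multiplicative V))) := by
    have hh' : (Subgroup.zpowers g).map (MulAut.conj h).toMonoidHom = Subgroup.zpowers g := by
      refine Subgroup.eq_of_le_of_card_ge ?_ (ge_of_eq (Subgroup.card_map_of_injective
        (MulAut.conj h).injective))
      rw [MonoidHom.map_zpowers, Subgroup.zpowers_le]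
      exact hh
    rw [Subgroup.mem_set_normalizer_iff]
    intro x
    constructor
    · rintro ⟨y, hy, rfl⟩
      refine ⟨h * y * h⁻¹, ?_, by rw [map_mul, map_mul, map_inv]⟩
      rw [← hh']; exact ⟨y, hy, rfl⟩
    · rintro ⟨y, hy, e⟩
      rw [SetLike.mem_coe, ← hh'] at hy
      obtain ⟨z, hz, rfl⟩ := hy
      refine ⟨z, hz, ?_⟩
      rw [MulEquiv.coe_toMonoidHom, MulAut.conj_apply, map_mul, map_mul, map_inv] at e
      exact mul_left_cancel (mul_right_cancel e)
  obtain ⟨i, hi⟩ := Perm.SingerPoint.gal_of_transitive hn1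
    (fun u => Multiplicative.toAdd.injective (add_self (Multiplicative.toAdd u)))
    (show Nat.card (Multiplicative V) = 2 ^ n by
      rw [Nat.card_congr Multiplicative.toAdd, Module.natCard_eq_pow_finrank (K := ZMod 2),
        Nat.card_zmod, hn])
    (S := S) (by rw [show S = Subgroup.zpowers (toMulAut g) from MonoidHom.map_zpowers _ _]; infer_instance)
    (fun u w hu hw => by
      obtain ⟨k, hk⟩ := trans_of_orderOf hn hp hg
        (fun e : u.toAdd = 0 => hu (Multiplicative.toAdd.injective e))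
        (fun e : w.toAdd = 0 => hw (Multiplicative.toAdd.injective e))
      exact ⟨toMulAut (g ^ k), ⟨_, Subgroup.npow_mem_zpowers g k, rfl⟩,
        Multiplicative.toAdd.injective hk⟩)
    hnorm
  refine ⟨i, toMulAut_injective ?_⟩
  rw [map_mul, map_mul, map_inv, map_pow]
  exact hi _ ⟨g, Subgroup.mem_zpowers g, rfl⟩

/-- The semilinear case. -/
theorem card_of_normal (hn : finrank (ZMod 2) V = n) (hp : (2 ^ n - 1).Prime) (hnp : n.Prime)
    (htr : ∀ v w : V, v ≠ 0 → w ≠ 0 → ∃ h ∈ H, h v = w) {g : V ≃ₗ[ZMod 2] V} (hgH : g ∈ H)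
    (hg : orderOf g = 2 ^ n - 1)
    (hnorm : ((Subgroup.zpowers g).subgroupOf H).Normal) :
    Nat.card H = 2 ^ n - 1 ∨ Nat.card H = n * (2 ^ n - 1) := by
  classical
  haveI : Fact n.Prime := ⟨hnp⟩
  haveI : Nontrivial V := by
    by_contra h
    rw [not_nontrivial_iff_subsingleton] at h
    exact hnp.ne_zero (hn ▸ Module.finrank_zero_of_subsingleton)
  obtain ⟨v, hv⟩ := exists_ne (0 : V)
  set S := vecStab H v
  have hconj : ∀ h : H, ∃ i : ℕ, h.1 * g * h.1⁻¹ = g ^ 2 ^ i := fun h =>
    conj_eq_pow_two_pow hn hp hg (hnorm.conj_mem ⟨g, hgH⟩ (Subgroup.mem_zpowers g) h)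
  have hper : g ^ 2 ^ n = g := by
    conv_lhs => rw [show 2 ^ n = (2 ^ n - 1) + 1 from (Nat.sub_add_cancel Nat.one_le_two_pow).symm,
      pow_succ, ← hg, pow_orderOf_eq_one, one_mul]
  have hperm : ∀ q i, g ^ 2 ^ (i + n * q) = g ^ 2 ^ i := by
    intro q
    induction q with
    | zero => intro i; rw [Nat.mul_zero, Nat.add_zero]
    | succ q ih =>
      intro i
      rw [show i + n * (q + 1) = n + (i + n * q) by ring, pow_add, pow_mul, hper, ih]
  have hfix : ∀ s ∈ S, s.1 * g * s.1⁻¹ = g → s = 1 := by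
    intro s hs hsg
    refine Subtype.ext (LinearEquiv.ext fun x => ?_)
    by_cases hx : x = 0
    · subst hx; simp
    obtain ⟨k, rfl⟩ := trans_of_orderOf hn hp hg hv hx
    have hcomm : s.1 * g ^ k = g ^ k * s.1 :=
      (Commute.pow_right (mul_inv_eq_iff_eq_mul.1 hsg) k)
    show s.1 ((g ^ k) v) = (g ^ k) v
    rw [← LinearEquiv.mul_apply, hcomm, LinearEquiv.mul_apply, show s.1 v = v from hs]
  have hexp : ∀ s ∈ S, s ^ n = 1 := by
    intro s hs
    refine hfix _ (pow_mem hs n) ?_
    obtain ⟨i, hi⟩ := hconj s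
    have hk : ∀ k : ℕ, (s.1 ^ k) * g * (s.1 ^ k)⁻¹ = g ^ 2 ^ (i * k) := by
      intro k
      induction k with
      | zero => simp
      | succ k ih =>
        rw [pow_succ', mul_inv_rev, show s.1 * s.1 ^ k * g * ((s.1 ^ k)⁻¹ * s.1⁻¹) =
            s.1 * (s.1 ^ k * g * (s.1 ^ k)⁻¹) * s.1⁻¹ by group, ih, ← conj_pow, hi, ← pow_mul,
          ← pow_add, Nat.mul_succ, Nat.add_comm]
    rw [SubgroupClass.coe_pow, hk, show i * n = 0 + n * i by ring, hperm, pow_zero, pow_one]
  have hcard : Nat.card S ≤ n := by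
    let f : S → Fin n := fun s => ⟨(hconj s.1).choose % n, Nat.mod_lt _ hnp.pos⟩
    refine (Nat.card_le_card_of_injective f fun a b hab => ?_).trans (Nat.card_fin n).le
    have hmod : (hconj a.1).choose % n = (hconj b.1).choose % n := congrArg Fin.val hab
    have e : a.1.1 * g * a.1.1⁻¹ = b.1.1 * g * b.1.1⁻¹ := by
      rw [(hconj a.1).choose_spec, (hconj b.1).choose_spec,
        ← Nat.mod_add_div (hconj a.1).choose n, hperm, hmod,
        ← hperm ((hconj b.1).choose / n) ((hconj b.1).choose % n), Nat.mod_add_div]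
    have h1 := hfix _ (mul_mem (inv_mem b.2) a.2) (by
      show b.1.1⁻¹ * a.1.1 * g * (b.1.1⁻¹ * a.1.1)⁻¹ = g
      rw [mul_inv_rev, inv_inv, show b.1.1⁻¹ * a.1.1 * g * (a.1.1⁻¹ * b.1.1) =
        b.1.1⁻¹ * (a.1.1 * g * a.1.1⁻¹) * b.1.1 by group, e]
      group)
    exact Subtype.ext (inv_mul_eq_one.1 h1).symm
  obtain ⟨k, hk⟩ := IsPGroup.iff_card.1 (show IsPGroup n S from fun s => ⟨1, by
    rw [pow_one]; exact Subtype.ext (by simpa using hexp s.1 s.2)⟩)
  have hH : Nat.card H = Nat.card S * (2 ^ n - 1) := by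
    rw [← index_vecStab hn htr hv, Subgroup.card_mul_index]
  have hk1 : k ≤ 1 := by
    by_contra hk1
    have : n ^ 2 ≤ n ^ k := Nat.pow_le_pow_right hnp.pos (by omega)
    have h2 : n < n ^ 2 := by
      have := hnp.two_le
      nlinarith
    omega
  rcases Nat.le_one_iff_eq_zero_or_eq_one.1 hk1 with rfl | rfl
  · left; rw [hH, hk, pow_zero, one_mul]
  · right; rw [hH, hk, pow_one]

/-- Without a normal Singer cycle the group is transitive on independent pairs. -/
theorem tupleTrans_two (hn : finrank (ZMod 2) V = n) (hp : (2 ^ n - 1).Prime)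
    (htr : ∀ v w : V, v ≠ 0 → w ≠ 0 → ∃ h ∈ H, h v = w) {g : V ≃ₗ[ZMod 2] V} (hgH : g ∈ H)
    (hg : orderOf g = 2 ^ n - 1)
    (hnorm : ¬ ((Subgroup.zpowers g).subgroupOf H).Normal) : TupleTrans H 2 := by
  classical
  haveI : Fact (2 ^ n - 1).Prime := ⟨hp⟩
  haveI : Fintype {v : V // v ≠ 0} := Fintype.ofFinite _
  letI : MulAction H {v : V // v ≠ 0} :=
    { smul := fun h v => ⟨h.1 v.1, fun e => v.2 (h.1.map_eq_zero_iff.1 e)⟩
      one_smul := fun v => rfl
      mul_smul := fun a b v => rfl }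
  haveI hpre : MulAction.IsPretransitive H {v : V // v ≠ 0} := ⟨fun v w => by
    obtain ⟨h, hh, e⟩ := htr v.1 w.1 v.2 w.2
    exact ⟨⟨h, hh⟩, Subtype.ext e⟩⟩
  haveI : FaithfulSMul H {v : V // v ≠ 0} := ⟨fun {a b} h => Subtype.ext (LinearEquiv.ext fun x => by
    by_cases hx : x = 0
    · subst hx; simp
    · exact congrArg Subtype.val (h ⟨x, hx⟩))⟩
  have hcard : Fintype.card {v : V // v ≠ 0} = 2 ^ n - 1 := by
    rw [← Nat.card_eq_fintype_card, card_ne_zero_vectors hn]
  set ρ := MulAction.toPermHom H {v : V // v ≠ 0}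
  have hρ : Function.Injective ρ := MulAction.toPerm_injective
  haveI : MulAction.IsPretransitive ρ.range {v : V // v ≠ 0} := ⟨fun v w => by
    obtain ⟨h, e⟩ := MulAction.exists_smul_eq H v w
    exact ⟨⟨ρ h, h, rfl⟩, e⟩⟩
  rcases Perm.burnside_prime_degree hcard ρ.range with hsol | h2
  · refine absurd ?_ hnorm
    haveI := hsol
    haveI : Group.IsSolvable H :=
      Group.isSolvable_of_isSolvable_injective (f := ρ.rangeRestrict) fun a b h => hρ (congrArg Subtype.val h)
    haveI : MulAction.IsPreprimitive H {v : V // v ≠ 0} :=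
      MulAction.IsPreprimitive.of_prime_card (by rw [card_ne_zero_vectors hn]; exact hp)
    have hnt : Nontrivial H := ⟨⟨⟨g, hgH⟩, 1, fun e => by
      have e' : g = 1 := congrArg Subtype.val e
      rw [e', orderOf_one] at hg
      exact hp.ne_one hg.symm⟩⟩
    obtain ⟨m, hm⟩ := (Group.isSolvable_def H).1 ‹_›
    obtain ⟨k, hk, hk'⟩ : ∃ k, derivedSeries H k ≠ ⊥ ∧ derivedSeries H (k + 1) = ⊥ := by
      have h0 : derivedSeries H 0 ≠ ⊥ := by rw [derivedSeries_zero]; exact top_ne_bot
      by_contra hne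
      push Not at hne
      have : ∀ j, derivedSeries H j ≠ ⊥ := fun j => by
        induction j with
        | zero => exact h0
        | succ j ih => exact hne j ih
      exact this m hm
    set D := derivedSeries H k
    haveI : D.Normal := derivedSeries_normal H k
    haveI := Perm.normal_isPretransitive (Ω := {v : V // v ≠ 0}) D hk
    have hDc : IsMulCommutative D := by
      refine ⟨⟨fun a b => Subtype.ext ?_⟩⟩
      have : ⁅(a : H), (b : H)⁆ ∈ derivedSeries H (k + 1) := by
        rw [derivedSeries_succ]; exact Subgroup.commutator_mem_commutator a.2 b.2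
      rw [hk', Subgroup.mem_bot, commutatorElement_eq_one_iff_mul_comm] at this
      exact this
    obtain ⟨v0⟩ : Nonempty {v : V // v ≠ 0} := Fintype.card_pos_iff.1 (hcard ▸ hp.pos)
    have hDcard : Nat.card D = 2 ^ n - 1 := by
      rw [← Perm.card_eq_of_regular v0 (Perm.stabilizer_eq_bot_of_isMulCommutative hDc v0),
        card_ne_zero_vectors hn]
    set C := (Subgroup.zpowers g).subgroupOf H
    have hC : Nat.card C = 2 ^ n - 1 := by
      rw [Nat.card_congr (Subgroup.subgroupOfEquivOfLe (Subgroup.zpowers_le.2 hgH)).toEquiv,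
        Nat.card_zpowers, hg]
    suffices C = D by rw [this]; infer_instance
    have hstab : Nat.card H ∣ Nat.factorial (2 ^ n - 1) := by
      rw [← hcard, ← Fintype.card_perm, ← Nat.card_eq_fintype_card]
      exact Subgroup.card_dvd_of_injective ρ hρ
    have hsq : ¬ (2 ^ n - 1) ^ 2 ∣ Nat.card H := by
      intro h
      have h' := h.trans hstab
      rw [← Nat.mul_factorial_pred hp.ne_zero, pow_two,
        Nat.mul_dvd_mul_iff_left hp.pos, hp.dvd_factorial] at h'
      have := hp.two_le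
      omega
    have hinf : C ⊓ D ≠ ⊥ := by
      intro h
      apply hsq
      have hle : Nat.card ↥(C ⊔ D) = Nat.card C * Nat.card D := by
        rw [← Subgroup.card_mul_index (D.subgroupOf (C ⊔ D)),
          Nat.card_congr (Subgroup.subgroupOfEquivOfLe le_sup_right).toEquiv]
        change Nat.card D * D.relIndex (C ⊔ D) = _
        rw [Subgroup.relIndex_sup_right, ← Subgroup.inf_relIndex_right, inf_comm, h,
          Subgroup.relIndex_bot_left, mul_comm]
      rw [pow_two]
      calc (2 ^ n - 1) * (2 ^ n - 1) = Nat.card ↥(C ⊔ D) := by rw [hle, hC, hDcard]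
        _ ∣ Nat.card H := Subgroup.card_subgroup_dvd_card _
    have hcd : C ⊓ D = C := by
      rcases hp.eq_one_or_self_of_dvd _ (hC ▸ Subgroup.card_dvd_of_le inf_le_left :
        Nat.card ↥(C ⊓ D) ∣ 2 ^ n - 1) with h | h
      · exact absurd (Subgroup.card_eq_one.1 h) hinf
      · exact Subgroup.eq_of_le_of_card_ge inf_le_left (by rw [h, hC])
    exact Subgroup.eq_of_le_of_card_ge (hcd ▸ inf_le_right) (by rw [hC, hDcard])
  · intro x y hx hy
    rw [MulAction.is_two_pretransitive_iff] at h2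
    have hx01 : x 0 ≠ x 1 := fun e => absurd (hx.injective e) (by decide)
    have hy01 : y 0 ≠ y 1 := fun e => absurd (hy.injective e) (by decide)
    obtain ⟨⟨_, h, rfl⟩, e0, e1⟩ := h2 (a := ⟨x 0, hx.ne_zero 0⟩) (b := ⟨x 1, hx.ne_zero 1⟩)
      (c := ⟨y 0, hy.ne_zero 0⟩) (d := ⟨y 1, hy.ne_zero 1⟩)
      (fun e => hx01 (congrArg Subtype.val e)) (fun e => hy01 (congrArg Subtype.val e))
    refine ⟨h.1, h.2, fun k => ?_⟩
    fin_cases k
    · exact congrArg Subtype.val e0
    · exact congrArg Subtype.val e1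

/-- In dimension three, transitivity on independent pairs gives transitivity on bases. -/
theorem tupleTrans_three (hn : finrank (ZMod 2) V = 3) (hT : TupleTrans H 2) :
    TupleTrans H 3 := by
  classical
  haveI : Fact (Nat.Prime 2) := ⟨Nat.prime_two⟩
  have hco : ∀ B : Submodule (ZMod 2) V, finrank (ZMod 2) B = 2 → ∀ u w : V,
      u ∉ B → w ∉ B → u + w ∈ B := by
    intro B hB u w hu hw
    have htop : B ⊔ Submodule.span (ZMod 2) {u} = ⊤ :=
      Submodule.eq_top_of_finrank_eq (by rw [finrank_sup_singleton hu, hB, hn])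
    have hwm : w ∈ B ⊔ Submodule.span (ZMod 2) {u} := htop ▸ Submodule.mem_top
    obtain ⟨b, hb, c, hc, rfl⟩ := Submodule.mem_sup.1 hwm
    obtain ⟨c, rfl⟩ := Submodule.mem_span_singleton.1 hc
    rcases zmod2_cases c with rfl | rfl
    · exact absurd (by simpa using hb) hw
    · rw [one_smul, add_left_comm, add_self, add_zero]; exact hb
  have hF : FlagTrans H 2 := fun A B _ hB _ u w hu hw =>
    ⟨1, one_mem _, Submodule.map_id _, Submodule.map_id _, hco B hB u w hu hw⟩
  -- an involution
  obtain ⟨x, hx, -⟩ := exists_tuple_ge 2 (by omega : 2 ≤ finrank (ZMod 2) V) ⊥ (by simp)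
  obtain ⟨h₀, hh₀, e₀⟩ := hT x (x ∘ Equiv.swap (0 : Fin 2) 1) hx (hx.comp _ (Equiv.injective _))
  have heven : 2 ∣ Nat.card H := by
    by_contra hodd
    have hcop : (Nat.card H).Coprime 2 := ((Nat.prime_two.coprime_iff_not_dvd).2 hodd).symm
    obtain ⟨y, hy⟩ := (powCoprime hcop).surjective ⟨h₀, hh₀⟩
    have hsq : ((h₀ * h₀ : V ≃ₗ[ZMod 2] V) (x 0)) = x 0 := by
      rw [LinearEquiv.mul_apply, e₀ 0]
      simpa using e₀ 1
    obtain ⟨j, hj⟩ : ∃ j : ℕ, Nat.card H = 2 * j + 1 := ⟨Nat.card H / 2, by omega⟩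
    have hpow : (h₀ * h₀) ^ j * h₀ = 1 := by
      rw [← pow_two, ← pow_mul, ← pow_succ, ← hj]
      exact congrArg Subtype.val (pow_card_eq_one' (x := (⟨h₀, hh₀⟩ : H)))
    have hfix : ∀ j : ℕ, ((h₀ * h₀) ^ j) (x 1) = x 1 := by
      intro j
      induction j with
      | zero => rfl
      | succ j ih =>
        rw [pow_succ, LinearEquiv.mul_apply,
          show (h₀ * h₀) (x 1) = x 1 by
            rw [LinearEquiv.mul_apply, e₀ 1]; simpa using e₀ 0, ih]
    have := LinearEquiv.congr_fun hpow (x 0)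
    rw [LinearEquiv.mul_apply, e₀ 0] at this
    simp only [Function.comp_apply, Equiv.swap_apply_left] at this
    rw [hfix] at this
    exact absurd (hx.injective this) (by decide)
  obtain ⟨t, ht⟩ := exists_prime_orderOf_dvd_card' 2 heven
  have ht1 : t.1 ≠ 1 := fun e => by
    rw [show t = 1 from Subtype.ext e, orderOf_one] at ht
    exact absurd ht (by norm_num)
  have htt : ∀ v, t.1 (t.1 v) = v := fun v => by
    have : t ^ 2 = 1 := by
      have h := pow_orderOf_eq_one t
      rwa [ht] at h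
    exact LinearEquiv.congr_fun (congrArg Subtype.val this) v
  set f := t.1.toLinearMap - LinearMap.id
  have hker : 2 ≤ finrank (ZMod 2) (LinearMap.ker f) := by
    have h1 : LinearMap.range f ≤ LinearMap.ker f := by
      rintro _ ⟨v, rfl⟩
      simp [f, sub_eq_add', map_add, htt, add_comm]
      rw [show v + t.1 v + (v + t.1 v) = 0 from add_self _]
    have := Submodule.finrank_mono h1
    have := LinearMap.finrank_range_add_finrank_ker f
    omega
  obtain ⟨c, hc⟩ : ∃ c : Fin 2 → V, LinearIndependent (ZMod 2) c ∧ ∀ k, c k ∈ LinearMap.ker f := by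
    obtain ⟨s, hs⟩ := exists_linearIndependent_of_le_finrank hker
    exact ⟨fun k => (s k).1, hs.map' _ (Submodule.ker_subtype _), fun k => (s k).2⟩
  set B := Submodule.span (ZMod 2) (Set.range c)
  have hB : finrank (ZMod 2) B = 2 := by rw [finrank_span_eq_card hc.1, Fintype.card_fin]
  have htB : t.1 ∈ pointFix H B := ⟨t.2, fun v hv => by
    have hle : B ≤ LinearMap.ker f := Submodule.span_le.2 (by rintro _ ⟨k, rfl⟩; exact hc.2 k)
    exact sub_eq_zero.1 (hle hv)⟩
  have hnot : ¬ NoShift H B := by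
    intro hK
    refine ht1 (LinearEquiv.ext fun u => ?_)
    by_cases hu : u ∈ B
    · exact htB.2 u hu
    · have htu : t.1 u ∉ B := fun h => hu (by rw [← htt u, htB.2 _ h]; exact h)
      exact hK _ htB u (hco B hB _ _ htu hu)
  intro x y hx hy
  rw [linearIndependent_finSucc'] at hx hy
  obtain ⟨g, hg, e⟩ := hT _ _ hx.1 hy.1
  obtain ⟨g', hg', e'⟩ := hT (Fin.init y) c hy.1 hc.1
  set B' := Submodule.span (ZMod 2) (Set.range (Fin.init y))
  have hmap : B'.map g'.toLinearMap = B := by
    rw [Submodule.map_span, ← Set.range_comp]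
    exact congrArg (Submodule.span (ZMod 2)) (congrArg Set.range (funext fun k => e' k))
  have hgx : g (x (Fin.last 2)) ∉ B' := by
    intro hm
    have hmap' : B' = (Submodule.span (ZMod 2) (Set.range (Fin.init x))).map g.toLinearMap := by
      rw [Submodule.map_span, ← Set.range_comp]
      exact congrArg (Submodule.span (ZMod 2)) (congrArg Set.range (funext fun k => (e k).symm))
    rw [hmap'] at hm
    obtain ⟨z, hz, hze⟩ := hm
    exact hx.2 (g.injective hze ▸ hz)
  have hB' : finrank (ZMod 2) B' = 2 := by rw [finrank_span_eq_card hy.1, Fintype.card_fin]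
  have hnot' : ¬ NoShift H B' := fun hK => hnot (hmap ▸ noShift_map hK hg')
  obtain ⟨h, hh, hh'⟩ :=
    (shift_dichotomy hT hF (by omega) (by omega) hB').resolve_left hnot' _ _ hgx hy.2
  refine ⟨h * g, mul_mem hh.1 hg, fun k => ?_⟩
  induction k using Fin.lastCases with
  | last => exact hh'
  | cast k =>
    show h (g (x k.castSucc)) = y k.castSucc
    rw [show g (x k.castSucc) = y k.castSucc from e k]
    exact hh.2 _ (Submodule.subset_span ⟨k, rfl⟩)

/-- The classification, given the inductive step in dimension at least five. -/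
theorem classification (n : ℕ) (hn : finrank (ZMod 2) V = n) (hp : (2 ^ n - 1).Prime)
    (H : Subgroup (V ≃ₗ[ZMod 2] V))
    (hstep : 5 ≤ n → ∀ i, 2 ≤ i → i < n → TupleTrans H i → TupleTrans H (i + 1)) :
    (∀ v w : V, v ≠ 0 → w ≠ 0 → ∃ h ∈ H, h v = w) ↔
      ((IsCyclic ↥H ∧ Nat.card ↥H = 2 ^ n - 1) ∨
       (Nat.card ↥H = n * (2 ^ n - 1) ∧ ∃ C : Subgroup (V ≃ₗ[ZMod 2] V), C ≤ H ∧
          (C.subgroupOf H).Normal ∧ IsCyclic ↥C ∧ Nat.card ↥C = 2 ^ n - 1) ∨
       H = ⊤) := by
  haveI : Fact (2 ^ n - 1).Prime := ⟨hp⟩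
  have hn1 : n ≠ 1 := fun h => by rw [h] at hp; exact Nat.not_prime_one hp
  have hnp : n.Prime := (Nat.prime_of_pow_sub_one_prime hn1 hp).2
  constructor
  · intro htr
    haveI : Nontrivial V := by
      by_contra h
      rw [not_nontrivial_iff_subsingleton] at h
      exact hnp.ne_zero (hn ▸ Module.finrank_zero_of_subsingleton)
    obtain ⟨v, hv⟩ := exists_ne (0 : V)
    have hdvd : 2 ^ n - 1 ∣ Nat.card H := index_vecStab hn htr hv ▸ Subgroup.index_dvd_card _
    obtain ⟨g, hg⟩ := exists_prime_orderOf_dvd_card' (2 ^ n - 1) hdvd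
    have hg' : orderOf g.1 = 2 ^ n - 1 := by rw [Subgroup.orderOf_coe, hg]
    by_cases hnorm : ((Subgroup.zpowers g.1).subgroupOf H).Normal
    · rcases card_of_normal hn hp hnp htr g.2 hg' hnorm with h | h
      · exact Or.inl ⟨isCyclic_of_prime_card h, h⟩
      · exact Or.inr (Or.inl ⟨h, Subgroup.zpowers g.1, Subgroup.zpowers_le.2 g.2, hnorm,
          inferInstance, by rw [Nat.card_zpowers, hg']⟩)
    · refine Or.inr (Or.inr (eq_top_of_tupleTrans ?_))
      rw [hn]
      have h2 := tupleTrans_two hn hp htr g.2 hg' hnorm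
      rcases Nat.lt_or_ge n 5 with h5 | h5
      · have := hnp.two_le
        interval_cases n
        · exact h2
        · exact tupleTrans_three hn h2
        · exact absurd hnp (by norm_num)
      · have key : ∀ j, 2 + j ≤ n → TupleTrans H (2 + j) := by
          intro j
          induction j with
          | zero => exact fun _ => h2
          | succ j ih => exact fun hj => hstep h5 (2 + j) (by omega) (by omega) (ih (by omega))
        obtain ⟨j, rfl⟩ := Nat.le.dest hnp.two_le
        exact key j le_rfl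
  · intro h v w hv hw
    have cyc : ∀ C : Subgroup (V ≃ₗ[ZMod 2] V), C ≤ H → Nat.card C = 2 ^ n - 1 →
        ∃ h ∈ H, h v = w := by
      intro C hC hcard
      obtain ⟨c, hc⟩ := exists_prime_orderOf_dvd_card' (2 ^ n - 1) (dvd_of_eq hcard.symm : _ ∣ Nat.card C)
      obtain ⟨k, hk⟩ := trans_of_orderOf hn hp (g := c.1) (by rw [Subgroup.orderOf_coe, hc]) hv hw
      exact ⟨_, pow_mem (hC c.2) k, hk⟩
    rcases h with ⟨-, hc⟩ | ⟨-, C, hC, -, -, hc⟩ | rfl
    · exact cyc H le_rfl hc
    · exact cyc C hC hc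
    · obtain ⟨g, -, hg⟩ := exists_fix_map ⊥ (by simpa using hv) (by simpa using hw :
        w ∉ (⊥ : Submodule (ZMod 2) V))
      exact ⟨g, trivial, hg⟩

end Cfsg.Agent.TransLinTwo
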