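import Mathlib

/-!
A configuration of parts, classes and neighbourhood subspaces in a binary vector space that cannot
exist.

The parts `Y x` form a spread of dimension `g`, refined by classes `T x` of dimension `h`; for
`w` outside `Z x` exactly one class of the part of `x` lies in the neighbourhood `S w`; and the
classes in one part behave like the points of a projective space. If `2 * h < g` and `0 < h` there
is no such configuration: two parts `Y a`, `Y b` that are not orthogonal span a union of parts, each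
third part gives an involutory collineation of the classes of `Y a`, which fixes at least two
classes, whereas the fixed classes of all these collineations are as many as the parts.
-/

set_option autoImplicit false
set_option linter.unusedSectionVars false
set_option linter.unusedVariables false
set_option linter.style.haveILetI false

namespace Cfsg.Agent.TransLinTwo

open Module

variable {W : Type*} [AddCommGroup W] [Module (ZMod 2) W] [Finite W] {g h : ℕ}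

/-- Parts, classes and neighbourhood subspaces. All fields are about nonzero vectors. -/
structure YConf (W : Type*) [AddCommGroup W] [Module (ZMod 2) W] (g h : ℕ) where
  /-- the class of a vector -/
  T : W → Submodule (ZMod 2) W
  /-- the part of a vector -/
  Y : W → Submodule (ZMod 2) W
  /-- the radical of the part of a vector -/
  Z : W → Submodule (ZMod 2) W
  /-- the neighbourhood of a vector -/
  S : W → Submodule (ZMod 2) W
  mem_T : ∀ x, x ≠ 0 → x ∈ T x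
  T_eq : ∀ x y, x ≠ 0 → y ≠ 0 → y ∈ T x → T y = T x
  finrank_T : ∀ x, x ≠ 0 → finrank (ZMod 2) (T x) = h
  T_le_Y : ∀ x, x ≠ 0 → T x ≤ Y x
  Y_eq : ∀ x y, x ≠ 0 → y ≠ 0 → y ∈ Y x → Y y = Y x
  finrank_Y : ∀ x, x ≠ 0 → finrank (ZMod 2) (Y x) = g
  Z_eq : ∀ x y, x ≠ 0 → y ≠ 0 → y ∈ Y x → Z y = Z x
  finrank_Z : ∀ x, x ≠ 0 → finrank (ZMod 2) (Z x) + g = finrank (ZMod 2) W
  finrank_S : ∀ x, x ≠ 0 → finrank (ZMod 2) (S x) = finrank (ZMod 2) (Z x) + h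
  S_symm : ∀ x w, x ≠ 0 → w ≠ 0 → w ∈ S x → x ∈ S w
  S_eq : ∀ x y, x ≠ 0 → y ≠ 0 → y ∈ T x → S y = S x
  Y_le_S : ∀ x, x ≠ 0 → Y x ≤ S x
  Z_le_S : ∀ x, x ≠ 0 → Z x ≤ S x
  mem_Z : ∀ x w, x ≠ 0 → (∀ u ∈ Y x, u ≠ 0 → w ∈ S u) → w ∈ Z x
  exists_class : ∀ x w, x ≠ 0 → w ∉ Z x → ∃ u ∈ Y x, u ≠ 0 ∧ w ∈ S u
  class_unique : ∀ x w, x ≠ 0 → w ∉ Z x → ∀ u ∈ Y x, ∀ u' ∈ Y x, u ≠ 0 → u' ≠ 0 →
    w ∈ S u → w ∈ S u' → u' ∈ T u
  line_closed : ∀ x y z, x ≠ 0 → y ≠ 0 → z ≠ 0 → y ∈ Y x → z ∈ T x ⊔ T y → T z ≤ T x ⊔ T y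
  line_S : ∀ x y z, x ≠ 0 → y ≠ 0 → z ≠ 0 → y ∈ Y x → z ∈ T x ⊔ T y → S z ≤ S x ⊔ S y

namespace YConf

variable (D : YConf W g h)

section Parts

variable {a b c x y z : W}

theorem mem_Y (hx : x ≠ 0) : x ∈ D.Y x := D.T_le_Y x hx (D.mem_T x hx)

theorem Y_le_Z (hx : x ≠ 0) : D.Y x ≤ D.Z x := fun w hw => D.mem_Z x w hx fun u hu hu0 =>
  D.Y_le_S u hu0 (by rw [D.Y_eq x u hx hu0 hu]; exact hw)

theorem Z_le_S' (ha : a ≠ 0) (hx : x ≠ 0) (hxa : x ∈ D.Y a) : D.Z a ≤ D.S x := by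
  rw [← D.Z_eq a x ha hx hxa]; exact D.Z_le_S x hx

theorem Y_le_S' (ha : a ≠ 0) (hx : x ≠ 0) (hxa : x ∈ D.Y a) : D.Y a ≤ D.S x := by
  rw [← D.Y_eq a x ha hx hxa]; exact D.Y_le_S x hx

theorem Y_eq_of_mem (ha : a ≠ 0) (hb : b ≠ 0) (hz : z ≠ 0) (hza : z ∈ D.Y a) (hzb : z ∈ D.Y b) :
    D.Y a = D.Y b := (D.Y_eq a z ha hz hza).symm.trans (D.Y_eq b z hb hz hzb)

theorem perp_symm (ha : a ≠ 0) (hb : b ≠ 0) (hp : D.Y b ≤ D.Z a) : D.Y a ≤ D.Z b :=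
  fun x hx => D.mem_Z b x hb fun u hu hu0 => by
    by_cases hx0 : x = 0
    · rw [hx0]; exact zero_mem _
    · exact D.S_symm x u hx0 hu0 (D.Z_le_S' ha hx0 hx (hp hu))

theorem dichotomy (hg : 2 * h < g) (ha : a ≠ 0) (hb : b ≠ 0) :
    D.Y b ≤ D.Z a ∨ Disjoint (D.Y b) (D.Z a) := by
  by_contra hcon
  push Not at hcon
  obtain ⟨hnle, hnd⟩ := hcon
  obtain ⟨w₀, hw₀, hw₀0⟩ := Submodule.exists_mem_ne_zero_of_ne_bot
    (fun e => hnd (disjoint_iff.2 e) : D.Y b ⊓ D.Z a ≠ ⊥)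
  obtain ⟨x₁, hx₁, hx₁b⟩ : ∃ x ∈ D.Y a, x ∉ D.Z b := by
    by_contra hall
    push Not at hall
    exact hnle (D.perp_symm hb ha hall)
  have hx₁0 : x₁ ≠ 0 := fun e => hx₁b (e ▸ zero_mem _)
  -- the intersection lies in one class
  have hK : D.Y b ⊓ D.Z a ≤ D.T w₀ := by
    intro w hw
    by_cases hw0 : w = 0
    · rw [hw0]; exact zero_mem _
    · exact D.class_unique b x₁ hb hx₁b w₀ hw₀.1 w hw.1 hw₀0 hw0
        (D.S_symm x₁ w₀ hx₁0 hw₀0 (D.Z_le_S' ha hx₁0 hx₁ hw₀.2))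
        (D.S_symm x₁ w hx₁0 hw0 (D.Z_le_S' ha hx₁0 hx₁ hw.2))
  -- the elements outside this class see only `Y a ⊓ Z b`
  have hout : ∀ w ∈ D.Y b, w ∉ D.T w₀ → ∀ x ∈ D.Y a, x ≠ 0 → w ∈ D.S x → x ∈ D.Z b := by
    intro w hw hwT x hx hx0 hwx
    by_contra hxb
    have hw0 : w ≠ 0 := fun e => hwT (e ▸ zero_mem _)
    exact hwT (D.class_unique b x hb hxb w₀ hw₀.1 w hw hw₀0 hw0
      (D.S_symm x w₀ hx0 hw₀0 (D.Z_le_S' ha hx0 hx hw₀.2)) (D.S_symm x w hx0 hw0 hwx))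
  obtain ⟨w₁, hw₁, hw₁T⟩ : ∃ w ∈ D.Y b, w ∉ D.T w₀ := by
    by_contra hall
    push Not at hall
    have := Submodule.finrank_mono (hall : D.Y b ≤ D.T w₀)
    rw [D.finrank_Y b hb, D.finrank_T w₀ hw₀0] at this
    omega
  have hw₁0 : w₁ ≠ 0 := fun e => hw₁T (e ▸ zero_mem _)
  have hw₁Z : w₁ ∉ D.Z a := fun e => hw₁T (hK ⟨hw₁, e⟩)
  obtain ⟨x₀, hx₀, hx₀0, hx₀w⟩ := D.exists_class a w₁ ha hw₁Z
  have hx₀b := hout w₁ hw₁ hw₁T x₀ hx₀ hx₀0 hx₀w
  -- hence the whole part lies in one neighbourhood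
  have hle : D.Y b ≤ D.S x₀ := by
    intro w hw
    by_cases hw0 : w = 0
    · rw [hw0]; exact zero_mem _
    · exact D.S_symm w x₀ hw0 hx₀0 (D.Z_le_S' hb hw0 hw hx₀b)
  have h1 := Submodule.finrank_mono (sup_le hle (D.Z_le_S' ha hx₀0 hx₀))
  have h2 := Submodule.finrank_sup_add_finrank_inf_eq (D.Y b) (D.Z a)
  have h3 := Submodule.finrank_mono hK
  rw [D.finrank_S x₀ hx₀0, D.Z_eq a x₀ ha hx₀0 hx₀] at h1
  rw [D.finrank_Y b hb] at h2
  rw [D.finrank_T w₀ hw₀0] at h3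
  omega

theorem codisjoint (ha : a ≠ 0) (hb : b ≠ 0) (hd : Disjoint (D.Y b) (D.Z a)) :
    D.Y b ⊔ D.Z a = ⊤ := by
  apply Submodule.eq_top_of_finrank_eq
  have h2 := Submodule.finrank_sup_add_finrank_inf_eq (D.Y b) (D.Z a)
  rw [disjoint_iff.1 hd, finrank_bot, D.finrank_Y b hb] at h2
  have := D.finrank_Z a ha
  omega

theorem inf_S_eq (ha : a ≠ 0) (hb : b ≠ 0) (hd : Disjoint (D.Y a) (D.Z b)) (hx : x ∈ D.Y a)
    (hx0 : x ≠ 0) : ∃ w ∈ D.Y b, w ≠ 0 ∧ w ∈ D.S x ∧ D.Y b ⊓ D.S x = D.T w := by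
  have hxb : x ∉ D.Z b := fun e => hx0 (Submodule.disjoint_def.1 hd x hx e)
  obtain ⟨w, hw, hw0, hwx⟩ := D.exists_class b x hb hxb
  refine ⟨w, hw, hw0, D.S_symm w x hw0 hx0 hwx, le_antisymm (fun u hu => ?_) fun u hu => ?_⟩
  · by_cases hu0 : u = 0
    · rw [hu0]; exact zero_mem _
    · exact D.class_unique b x hb hxb w hw u hu.1 hw0 hu0 hwx (D.S_symm x u hx0 hu0 hu.2)
  · by_cases hu0 : u = 0
    · rw [hu0]; exact zero_mem _
    · refine ⟨by rw [← D.Y_eq b w hb hw0 hw]; exact D.T_le_Y w hw0 hu, D.S_symm u x hu0 hx0 ?_⟩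
      rwa [D.S_eq w u hw0 hu0 hu]

/-- The correspondence between the classes of two non-orthogonal parts preserves lines. -/
theorem rel_line (ha : a ≠ 0) (hb : b ≠ 0) (hd : Disjoint (D.Y a) (D.Z b))
    (hd' : Disjoint (D.Y b) (D.Z a)) (hx : x ∈ D.Y a) (hy : y ∈ D.Y a) (hz : z ∈ D.Y a)
    (hx0 : x ≠ 0) (hy0 : y ≠ 0) (hz0 : z ≠ 0) (hzl : z ∈ D.T x ⊔ D.T y) {x' y' z' : W}
    (hx' : x' ∈ D.Y b) (hy' : y' ∈ D.Y b) (hz' : z' ∈ D.Y b) (hx'0 : x' ≠ 0) (hy'0 : y' ≠ 0)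
    (hx'S : x' ∈ D.S x) (hy'S : y' ∈ D.S y) (hz'S : z' ∈ D.S z) : z' ∈ D.T x' ⊔ D.T y' := by
  have hS : ∀ u u', u ∈ D.Y a → u ≠ 0 → u' ∈ D.Y b → u' ≠ 0 → u' ∈ D.S u →
      D.S u ≤ D.Z a ⊔ D.T u' := by
    intro u u' hu hu0 hu' hu'0 huu v hv
    obtain ⟨β, hβ, ζ, hζ, rfl⟩ := Submodule.mem_sup.1 (show v ∈ D.Y b ⊔ D.Z a by
      rw [D.codisjoint ha hb hd']; exact Submodule.mem_top)
    obtain ⟨w, hw, hw0, hwS, hw'⟩ := D.inf_S_eq ha hb hd hu hu0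
    have hu'w : u' ∈ D.T w := hw' ▸ ⟨hu', huu⟩
    have hβw : β ∈ D.T w := hw' ▸ ⟨hβ, by
      have := sub_mem hv (D.Z_le_S' ha hu0 hu hζ)
      rwa [add_sub_cancel_right] at this⟩
    rw [← D.T_eq w u' hw0 hu'0 hu'w] at hβw
    exact add_mem (Submodule.mem_sup_right hβw) (Submodule.mem_sup_left hζ)
  have h1 : z' ∈ D.Z a ⊔ (D.T x' ⊔ D.T y') := by
    refine (le_trans (D.line_S x y z hx0 hy0 hz0 (by rw [D.Y_eq a x ha hx0 hx]; exact hy) hzl)
      (sup_le ?_ ?_)) hz'S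
    · exact (hS x x' hx hx0 hx' hx'0 hx'S).trans (sup_le_sup le_rfl le_sup_left)
    · exact (hS y y' hy hy0 hy' hy'0 hy'S).trans (sup_le_sup le_rfl le_sup_right)
  obtain ⟨ζ, hζ, τ, hτ, e⟩ := Submodule.mem_sup.1 h1
  have hTb : ∀ u, u ∈ D.Y b → u ≠ 0 → D.T u ≤ D.Y b := fun u hu hu0 => by
    rw [← D.Y_eq b u hb hu0 hu]; exact D.T_le_Y u hu0
  have hτb : τ ∈ D.Y b := (sup_le (hTb x' hx' hx'0) (hTb y' hy' hy'0) :
    D.T x' ⊔ D.T y' ≤ D.Y b) hτ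
  have : ζ = 0 := Submodule.disjoint_def.1 hd' ζ (by
    rw [eq_sub_of_add_eq e]; exact sub_mem hz' hτb) hζ
  rw [← e, this, zero_add]
  exact hτ

end Parts

/-- The data of three pairwise non-orthogonal parts, the third inside the sum of the first two. -/
structure Triple (D : YConf W g h) (a b t : W) : Prop where
  ha : a ≠ 0
  hb : b ≠ 0
  ht : t ≠ 0
  hab : Disjoint (D.Y a) (D.Z b)
  hba : Disjoint (D.Y b) (D.Z a)
  hat : Disjoint (D.Y a) (D.Z t)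
  hta : Disjoint (D.Y t) (D.Z a)
  htb : Disjoint (D.Y t) (D.Z b)
  hbt : Disjoint (D.Y b) (D.Z t)
  hle : D.Y t ≤ D.Y a ⊔ D.Y b

section Triples

variable {D} {a b t : W} (H : D.Triple a b t)

theorem Triple.ab_zero {x : W} (H : D.Triple a b t) (hx : x ∈ D.Y a) (hx' : x ∈ D.Y b) : x = 0 :=
  Submodule.disjoint_def.1 H.hab x hx (D.Y_le_Z H.hb hx')

theorem Triple.at_zero {x : W} (H : D.Triple a b t) (hx : x ∈ D.Y t) (hx' : x ∈ D.Y a) : x = 0 :=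
  Submodule.disjoint_def.1 H.hta x hx (D.Y_le_Z H.ha hx')

theorem Triple.bt_zero {x : W} (H : D.Triple a b t) (hx : x ∈ D.Y t) (hx' : x ∈ D.Y b) : x = 0 :=
  Submodule.disjoint_def.1 H.htb x hx (D.Y_le_Z H.hb hx')

/-- The component in the first part, on elements. -/
theorem Triple.comp (H : D.Triple a b t) {z : W} (hz : z ∈ D.Y t) (hz0 : z ≠ 0) :
    ∃ α ∈ D.Y a, α ≠ 0 ∧ z - α ∈ D.Y b ∧ z - α ≠ 0 := by
  obtain ⟨α, hα, β, hβ, e⟩ := Submodule.mem_sup.1 (H.hle hz)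
  have e' : z - α = β := by rw [← e, add_sub_cancel_left]
  refine ⟨α, hα, fun e0 => hz0 (H.bt_zero hz ?_), e' ▸ hβ, fun e0 => hz0 (H.at_zero hz ?_)⟩
  · rw [← e, e0, zero_add]; exact hβ
  · rw [sub_eq_zero.1 e0]; exact hα

/-- The component is surjective. -/
theorem Triple.lift (H : D.Triple a b t) {x : W} (hx : x ∈ D.Y a) (hx0 : x ≠ 0) :
    ∃ z ∈ D.Y t, z ≠ 0 ∧ z - x ∈ D.Y b := by
  obtain ⟨z, hz, ζ, hζ, e⟩ := Submodule.mem_sup.1 (show x ∈ D.Y t ⊔ D.Z b by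
    rw [D.codisjoint H.hb H.ht H.htb]; exact Submodule.mem_top)
  have hz0 : z ≠ 0 := fun e0 => hx0 (Submodule.disjoint_def.1 H.hab x hx (by
    rw [← e, e0, zero_add]; exact hζ))
  obtain ⟨α, hα, hα0, hβ, -⟩ := H.comp hz hz0
  have : α - x = 0 := Submodule.disjoint_def.1 H.hab _ (sub_mem hα hx) (by
    rw [show α - x = -(z - α) - ζ by rw [← e]; abel]
    exact sub_mem (neg_mem (D.Y_le_Z H.hb hβ)) hζ)
  exact ⟨z, hz, hz0, sub_eq_zero.1 this ▸ hβ⟩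

/-- The component maps classes to classes and only them. -/
theorem Triple.class_iff (H : D.Triple a b t) {z z' x x' : W} (hz : z ∈ D.Y t) (hz0 : z ≠ 0)
    (hz' : z' ∈ D.Y t) (hz'0 : z' ≠ 0) (hx : x ∈ D.Y a) (hx0 : x ≠ 0) (hx' : x' ∈ D.Y a)
    (hx'0 : x' ≠ 0) (hβ : z - x ∈ D.Y b) (hβ' : z' - x' ∈ D.Y b) :
    z' ∈ D.T z ↔ x' ∈ D.T x := by
  have hzb : z ∉ D.Z b := fun e => hz0 (Submodule.disjoint_def.1 H.htb z hz e)
  obtain ⟨u, hu, hu0, hzu⟩ := D.exists_class b z H.hb hzb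
  have hxu : x ∈ D.S u := by
    have := sub_mem hzu (D.Y_le_S' H.hb hu0 hu hβ)
    rwa [sub_sub_cancel] at this
  have hua : u ∉ D.Z a := fun e => hu0 (Submodule.disjoint_def.1 H.hba u hu e)
  have hut : u ∉ D.Z t := fun e => hu0 (Submodule.disjoint_def.1 H.hbt u hu e)
  constructor
  · intro hT
    have hzu' : z' ∈ D.S u := D.S_symm z' u hz'0 hu0
      (by rw [D.S_eq z z' hz0 hz'0 hT]; exact D.S_symm u z hu0 hz0 hzu)
    have hxu' : x' ∈ D.S u := by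
      have := sub_mem hzu' (D.Y_le_S' H.hb hu0 hu hβ')
      rwa [sub_sub_cancel] at this
    exact D.class_unique a u H.ha hua x hx x' hx' hx0 hx'0 (D.S_symm u x hu0 hx0 hxu)
      (D.S_symm u x' hu0 hx'0 hxu')
  · intro hT
    have hxu' : x' ∈ D.S u := D.S_symm x' u hx'0 hu0
      (by rw [D.S_eq x x' hx0 hx'0 hT]; exact D.S_symm u x hu0 hx0 hxu)
    have hzu' : z' ∈ D.S u := by
      have := add_mem hxu' (D.Y_le_S' H.hb hu0 hu hβ')
      rwa [add_sub_cancel] at this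
    exact D.class_unique t u H.ht hut z hz z' hz' hz0 hz'0 (D.S_symm u z hu0 hz0 hzu)
      (D.S_symm u z' hu0 hz'0 hzu')

/-- The relation of the collineation attached to the third part. -/
def Rel (D : YConf W g h) (a b t x x' : W) : Prop :=
  x' ∈ D.Y a ∧ x' ≠ 0 ∧ ∃ z ∈ D.Y t, z ≠ 0 ∧ z ∈ D.S x ∧ z - x' ∈ D.Y b

theorem Triple.rel_exists (H : D.Triple a b t) {x : W} (hx : x ∈ D.Y a) (hx0 : x ≠ 0) :
    ∃ x', D.Rel a b t x x' := by
  obtain ⟨z, hz, hz0, hzS, -⟩ := D.inf_S_eq H.ha H.ht H.hat hx hx0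
  obtain ⟨α, hα, hα0, hβ, -⟩ := H.comp hz hz0
  exact ⟨α, hα, hα0, z, hz, hz0, hzS, hβ⟩

theorem Triple.rel_class (H : D.Triple a b t) {x x₂ x' x'' : W} (hx : x ∈ D.Y a) (hx0 : x ≠ 0)
    (hx₂0 : x₂ ≠ 0) (hT : x₂ ∈ D.T x) (h1 : D.Rel a b t x x') (h2 : D.Rel a b t x₂ x'') :
    D.T x'' = D.T x' := by
  obtain ⟨hx', hx'0, z, hz, hz0, hzS, hβ⟩ := h1
  obtain ⟨hx'', hx''0, z', hz', hz'0, hz'S, hβ'⟩ := h2
  rw [D.S_eq x x₂ hx0 hx₂0 hT] at hz'S
  obtain ⟨w, hw, hw0, -, hw'⟩ := D.inf_S_eq H.ha H.ht H.hat hx hx0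
  have hzw : z ∈ D.T w := hw' ▸ ⟨hz, hzS⟩
  have hz'w : z' ∈ D.T w := hw' ▸ ⟨hz', hz'S⟩
  rw [← D.T_eq w z hw0 hz0 hzw] at hz'w
  exact D.T_eq x' x'' hx'0 hx''0 ((H.class_iff hz hz0 hz' hz'0 hx' hx'0 hx'' hx''0 hβ hβ').1 hz'w)

theorem Triple.rel_symm (H : D.Triple a b t) {x x' : W} (hx : x ∈ D.Y a) (hx0 : x ≠ 0)
    (h1 : D.Rel a b t x x') : D.Rel a b t x' x := by
  obtain ⟨hx', hx'0, z', hz', hz'0, hz'S, hβ'⟩ := h1
  obtain ⟨z, hz, hz0, hβ⟩ := H.lift hx hx0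
  refine ⟨hx, hx0, z, hz, hz0, ?_, hβ⟩
  have hy0 : z - x ≠ 0 := fun e => hz0 (H.at_zero hz (sub_eq_zero.1 e ▸ hx))
  have h2 : z - x ∈ D.S z' :=
    sub_mem (D.Y_le_S' H.ht hz'0 hz' hz) (D.S_symm x z' hx0 hz'0 hz'S)
  have h3 : x' ∈ D.S (z - x) := by
    have := sub_mem (D.S_symm z' (z - x) hz'0 hy0 h2) (D.Y_le_S' H.hb hy0 hβ hβ')
    rwa [sub_sub_cancel] at this
  have := add_mem (D.Y_le_S' H.ha hx'0 hx' hx) (D.S_symm (z - x) x' hy0 hx'0 h3)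
  rwa [add_sub_cancel] at this

theorem Triple.rel_line (H : D.Triple a b t) {x y z x' y' z' : W} (hx : x ∈ D.Y a)
    (hy : y ∈ D.Y a) (hz : z ∈ D.Y a) (hx0 : x ≠ 0) (hy0 : y ≠ 0) (hz0 : z ≠ 0)
    (hzl : z ∈ D.T x ⊔ D.T y) (h1 : D.Rel a b t x x') (h2 : D.Rel a b t y y')
    (h3 : D.Rel a b t z z') : z' ∈ D.T x' ⊔ D.T y' := by
  obtain ⟨hx', hx'0, u, hu, hu0, huS, hβu⟩ := h1
  obtain ⟨hy', hy'0, v, hv, hv0, hvS, hβv⟩ := h2
  obtain ⟨hz', -, w, hw, -, hwS, hβw⟩ := h3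
  obtain ⟨τ₁, hτ₁, τ₂, hτ₂, e⟩ := Submodule.mem_sup.1 (D.rel_line H.ha H.ht H.hat H.hta hx hy hz hx0
    hy0 hz0 hzl hu hv hw hu0 hv0 huS hvS hwS)
  have key : ∀ {p q τ : W}, p ∈ D.Y t → p ≠ 0 → q ∈ D.Y a → q ≠ 0 → p - q ∈ D.Y b → τ ∈ D.T p →
      ∃ α ∈ D.T q, τ - α ∈ D.Y b := by
    intro p q τ hp hp0 hq hq0 hpq hτ
    by_cases hτ0 : τ = 0
    · exact ⟨0, zero_mem _, by rw [hτ0, sub_zero]; exact zero_mem _⟩
    have hτY : τ ∈ D.Y t := by rw [← D.Y_eq t p H.ht hp0 hp]; exact D.T_le_Y p hp0 hτ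
    obtain ⟨α, hα, hα0, hαb, -⟩ := H.comp hτY hτ0
    exact ⟨α, (H.class_iff hp hp0 hτY hτ0 hq hq0 hα hα0 hpq hαb).1 hτ, hαb⟩
  obtain ⟨α₁, hα₁, hb₁⟩ := key hu hu0 hx' hx'0 hβu hτ₁
  obtain ⟨α₂, hα₂, hb₂⟩ := key hv hv0 hy' hy'0 hβv hτ₂
  have hα₁' : α₁ ∈ D.Y a := by rw [← D.Y_eq a x' H.ha hx'0 hx']; exact D.T_le_Y x' hx'0 hα₁
  have hα₂' : α₂ ∈ D.Y a := by rw [← D.Y_eq a y' H.ha hy'0 hy']; exact D.T_le_Y y' hy'0 hα₂
  have : z' - (α₁ + α₂) = 0 := H.ab_zero (sub_mem hz' (add_mem hα₁' hα₂')) (by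
    rw [show z' - (α₁ + α₂) = (τ₁ - α₁) + (τ₂ - α₂) - (w - z') by rw [← e]; abel]
    exact sub_mem (add_mem hb₁ hb₂) hβw)
  rw [sub_eq_zero.1 this]
  exact Submodule.add_mem_sup hα₁ hα₂

open scoped Classical in
/-- The collineation attached to the third part, on representatives. -/
noncomputable def coll (D : YConf W g h) (a b t x : W) : W :=
  if hx : ∃ x', D.Rel a b t x x' then hx.choose else x

theorem Triple.coll_spec (H : D.Triple a b t) {x : W} (hx : x ∈ D.Y a) (hx0 : x ≠ 0) :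
    D.Rel a b t x (D.coll a b t x) := by
  rw [coll, dif_pos (H.rel_exists hx hx0)]
  exact (H.rel_exists hx hx0).choose_spec

/-- A nonzero union of classes invariant under the collineation contains a fixed class. -/
theorem Triple.exists_fixed (H : D.Triple a b t) {M : Submodule (ZMod 2) W} (hMa : M ≤ D.Y a)
    (hM : M ≠ ⊥) (hclosed : ∀ z ∈ M, z ≠ 0 → D.T z ≤ M)
    (hinv : ∀ z ∈ M, z ≠ 0 → D.coll a b t z ∈ M) :
    ∃ x ∈ M, x ≠ 0 ∧ D.coll a b t x ∈ D.T x := by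
  classical
  haveI := Fintype.ofFinite W
  by_contra hcon
  push Not at hcon
  let Mf : Finset W := Finset.univ.filter fun x => x ∈ M ∧ x ≠ 0
  let C : Finset (Submodule (ZMod 2) W) := Mf.image D.T
  have hmem : ∀ {x}, x ∈ Mf ↔ x ∈ M ∧ x ≠ 0 := fun {x} => by simp [Mf]
  have hcard : ∀ N : Submodule (ZMod 2) W,
      (Finset.univ.filter fun x => x ∈ N ∧ x ≠ 0).card + 1 = 2 ^ finrank (ZMod 2) N := by
    intro N
    have h1 : (Finset.univ.filter fun x => x ∈ N).card = 2 ^ finrank (ZMod 2) N := by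
      rw [← Fintype.card_subtype, ← Nat.card_eq_fintype_card]
      exact (Module.natCard_eq_pow_finrank (K := ZMod 2) (V := N)).trans (by rw [Nat.card_zmod])
    rw [← h1, ← Finset.card_erase_add_one (show (0 : W) ∈ Finset.univ.filter fun x => x ∈ N by simp)]
    congr 1
    refine congrArg Finset.card (Finset.ext fun x => ?_)
    simp [and_comm]
  have hsum : Mf.card = C.card * (2 ^ h - 1) := by
    rw [Finset.card_eq_sum_card_image D.T Mf, Finset.sum_const_nat]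
    intro K hK
    obtain ⟨x, hx, rfl⟩ := Finset.mem_image.1 hK
    obtain ⟨hxM, hx0⟩ := hmem.1 hx
    have h1 := hcard (D.T x)
    rw [D.finrank_T x hx0] at h1
    have h2 : (Finset.univ.filter fun y => y ∈ D.T x ∧ y ≠ 0) = Mf.filter fun y => D.T y = D.T x := by
      ext y
      simp only [Finset.mem_filter, Finset.mem_univ, true_and, hmem]
      exact ⟨fun ⟨hy, hy0⟩ => ⟨⟨hclosed x hxM hx0 hy, hy0⟩, D.T_eq x y hx0 hy0 hy⟩,
        fun ⟨⟨_, hy0⟩, e⟩ => ⟨e ▸ D.mem_T y hy0, hy0⟩⟩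
    rw [← h2]
    omega
  have hodd : ¬ Even C.card := by
    intro he
    have h1 : Mf.card + 1 = 2 ^ finrank (ZMod 2) M := hcard M
    have h2 : Even Mf.card := hsum ▸ he.mul_right _
    have h3 : finrank (ZMod 2) M ≠ 0 := fun e => hM (Submodule.finrank_eq_zero.1 e)
    have h4 : Even (2 ^ finrank (ZMod 2) M : ℕ) := Nat.even_pow.2 ⟨even_two, h3⟩
    rw [← h1] at h4
    exact Nat.not_even_iff_odd.2 (h2.add_one) h4
  have hrep : ∀ K ∈ C, ∃ x, x ∈ M ∧ x ≠ 0 ∧ D.T x = K := by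
    intro K hK
    obtain ⟨x, hx, e⟩ := Finset.mem_image.1 hK
    exact ⟨x, (hmem.1 hx).1, (hmem.1 hx).2, e⟩
  choose r hrM hr0 hrT using hrep
  let σ : ∀ K ∈ C, Submodule (ZMod 2) W := fun K hK => D.T (D.coll a b t (r K hK))
  have hσ : ∀ K hK, σ K hK ∈ C := fun K hK => Finset.mem_image_of_mem _ (hmem.2
    ⟨hinv _ (hrM K hK) (hr0 K hK), (H.coll_spec (hMa (hrM K hK)) (hr0 K hK)).2.1⟩)
  have hzero : ∑ _K ∈ C, (1 : ZMod 2) = 0 := by
    refine Finset.sum_involution σ (fun _ _ => by decide) ?_ hσ ?_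
    · intro K hK _ e
      refine hcon _ (hrM K hK) (hr0 K hK) ?_
      rw [show D.T (r K hK) = D.T (D.coll a b t (r K hK)) from (hrT K hK).trans e.symm]
      exact D.mem_T _ (H.coll_spec (hMa (hrM K hK)) (hr0 K hK)).2.1
    · intro K hK
      set x := r K hK with hx
      set x₂ := r (σ K hK) (hσ K hK) with hx₂
      have hs := H.coll_spec (hMa (hrM K hK)) (hr0 K hK)
      have hx₂T : x₂ ∈ D.T (D.coll a b t x) := by
        rw [show D.T (D.coll a b t x) = σ K hK from rfl, ← hrT _ (hσ K hK)]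
        exact D.mem_T _ (hr0 _ (hσ K hK))
      show D.T (D.coll a b t x₂) = K
      rw [H.rel_class hs.1 hs.2.1 (hr0 _ (hσ K hK)) hx₂T (H.rel_symm (hMa (hrM K hK)) (hr0 K hK) hs)
        (H.coll_spec (hMa (hrM _ (hσ K hK))) (hr0 _ (hσ K hK)))]
      exact hrT K hK
  rw [Finset.sum_const, nsmul_eq_mul, mul_one, ZMod.natCast_eq_zero_iff_even] at hzero
  exact hodd hzero

/-- The collineation fixes two classes. -/
theorem Triple.two_fixed (H : D.Triple a b t) (hg : 2 * h < g) :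
    ∃ x₁ ∈ D.Y a, ∃ x₂ ∈ D.Y a, x₁ ≠ 0 ∧ x₂ ≠ 0 ∧ x₂ ∉ D.T x₁ ∧
      D.coll a b t x₁ ∈ D.T x₁ ∧ D.coll a b t x₂ ∈ D.T x₂ := by
  by_contra hcon
  push Not at hcon
  have hTY : ∀ {z}, z ∈ D.Y a → z ≠ 0 → D.T z ≤ D.Y a := fun {z} hz hz0 => by
    rw [← D.Y_eq a z H.ha hz0 hz]; exact D.T_le_Y z hz0
  obtain ⟨x₁, hx₁, hx₁0, hf₁⟩ := H.exists_fixed le_rfl
    (fun e => H.ha (by simpa [e] using D.mem_Y H.ha)) (fun z hz hz0 => hTY hz hz0)
    (fun z hz hz0 => (H.coll_spec hz hz0).1)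
  have hmemY : ∀ {x y}, x ∈ D.Y a → x ≠ 0 → y ∈ D.Y a → y ∈ D.Y x := fun {x y} hx hx0 hy => by
    rwa [D.Y_eq a x H.ha hx0 hx]
  have hinvl : ∀ x y, x ∈ D.Y a → x ≠ 0 → y ∈ D.Y a → y ≠ 0 → ∀ z ∈ D.T x ⊔ D.T y, z ≠ 0 →
      D.coll a b t z ∈ D.T (D.coll a b t x) ⊔ D.T (D.coll a b t y) := by
    intro x y hx hx0 hy hy0 z hz hz0
    have hzY : z ∈ D.Y a := sup_le (hTY hx hx0) (hTY hy hy0) hz
    exact H.rel_line hx hy hzY hx0 hy0 hz0 hz (H.coll_spec hx hx0) (H.coll_spec hy hy0)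
      (H.coll_spec hzY hz0)
  have hback : ∀ x, x ∈ D.Y a → x ≠ 0 →
      D.T (D.coll a b t (D.coll a b t x)) = D.T x := by
    intro x hx hx0
    have hs := H.coll_spec hx hx0
    exact H.rel_class hs.1 hs.2.1 hs.2.1 (D.mem_T _ hs.2.1) (H.rel_symm hx hx0 hs)
      (H.coll_spec hs.1 hs.2.1)
  -- the image of a class lies on its line to the fixed class
  have himg : ∀ x, x ∈ D.Y a → x ≠ 0 → D.T (D.coll a b t x) ≤ D.T x ⊔ D.T x₁ := by
    intro x hx hx0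
    by_cases hx1 : D.coll a b t x ∈ D.T x
    · rw [D.T_eq x _ hx0 (H.coll_spec hx hx0).2.1 hx1]; exact le_sup_left
    have hs := H.coll_spec hx hx0
    have hL : ∀ z ∈ D.T x ⊔ D.T (D.coll a b t x), z ≠ 0 →
        D.T z ≤ D.T x ⊔ D.T (D.coll a b t x) :=
      fun z hz hz0 => D.line_closed x _ z hx0 hs.2.1 hz0 (hmemY hx hx0 hs.1) hz
    obtain ⟨z, hz, hz0, hfz⟩ := H.exists_fixed (M := D.T x ⊔ D.T (D.coll a b t x))
      (sup_le (hTY hx hx0) (hTY hs.1 hs.2.1))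
      (fun e => hx0 (by simpa [e] using (Submodule.mem_sup_left (D.mem_T x hx0) :
        x ∈ D.T x ⊔ D.T (D.coll a b t x))))
      hL (fun z hz hz0 => by
        have := hinvl x _ hx hx0 hs.1 hs.2.1 z hz hz0
        rwa [hback x hx hx0, sup_comm] at this)
    have hzY : z ∈ D.Y a := sup_le (hTY hx hx0) (hTY hs.1 hs.2.1) hz
    have hz1 : z ∈ D.T x₁ := by
      by_contra hz1
      exact hcon x₁ hx₁ z hzY hx₁0 hz0 hz1 hf₁ hfz
    obtain ⟨α, hα, β, hβ, e⟩ := Submodule.mem_sup.1 hz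
    have hβ0 : β ≠ 0 := by
      intro hb0
      rw [hb0, add_zero] at e
      have hzx : z ∈ D.T x := e ▸ hα
      refine hx1 ?_
      have h1 := H.rel_class hx hx0 hz0 hzx hs (H.coll_spec hzY hz0)
      rw [← D.T_eq x z hx0 hz0 hzx, ← D.T_eq z _ hz0 (H.coll_spec hzY hz0).2.1 hfz, h1]
      exact D.mem_T _ hs.2.1
    rw [← D.T_eq _ β hs.2.1 hβ0 hβ]
    refine D.line_closed x x₁ β hx0 hx₁0 hβ0 (hmemY hx hx0 hx₁) ?_
    rw [show β = -α + z by rw [← e]; abel]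
    exact Submodule.add_mem_sup (neg_mem hα) hz1
  -- a line missing the fixed class
  obtain ⟨p, hp, hp1⟩ : ∃ p ∈ D.Y a, p ∉ D.T x₁ := by
    by_contra hall
    push Not at hall
    have := Submodule.finrank_mono (hall : D.Y a ≤ D.T x₁)
    rw [D.finrank_Y a H.ha, D.finrank_T x₁ hx₁0] at this
    omega
  have hp0 : p ≠ 0 := fun e => hp1 (e ▸ zero_mem _)
  obtain ⟨q, hq, hq1⟩ : ∃ q ∈ D.Y a, q ∉ D.T x₁ ⊔ D.T p := by
    by_contra hall
    push Not at hall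
    have := Submodule.finrank_mono (hall : D.Y a ≤ D.T x₁ ⊔ D.T p)
    have h2 := Submodule.finrank_sup_add_finrank_inf_eq (D.T x₁) (D.T p)
    rw [D.finrank_Y a H.ha] at this
    rw [D.finrank_T x₁ hx₁0, D.finrank_T p hp0] at h2
    omega
  have hq0 : q ≠ 0 := fun e => hq1 (e ▸ zero_mem _)
  set l := D.T p ⊔ D.T q with hl
  have hx₁l : x₁ ∉ l := by
    intro hx
    obtain ⟨α, hα, β, hβ, e⟩ := Submodule.mem_sup.1 hx
    have hβ0 : β ≠ 0 := by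
      intro hb0
      rw [hb0, add_zero] at e
      exact hp1 (D.T_eq p x₁ hp0 hx₁0 (e ▸ hα) ▸ D.mem_T p hp0)
    refine hq1 ((D.line_closed x₁ p β hx₁0 hp0 hβ0 (hmemY hx₁ hx₁0 hp) ?_) ?_)
    · rw [show β = x₁ + -α by rw [← e]; abel]
      exact Submodule.add_mem_sup (D.mem_T x₁ hx₁0) (neg_mem hα)
    · rw [D.T_eq q β hq0 hβ0 hβ]; exact D.mem_T q hq0
  have hsp := H.coll_spec hp hp0
  have hsq := H.coll_spec hq hq0
  set l' := D.T (D.coll a b t p) ⊔ D.T (D.coll a b t q) with hl'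
  have hrk : ∀ u v : W, u ≠ 0 → v ≠ 0 → v ∉ D.T u → finrank (ZMod 2) ↥(D.T u ⊔ D.T v) = 2 * h := by
    intro u v hu hv huv
    have hbot : D.T u ⊓ D.T v = ⊥ := by
      refine (Submodule.eq_bot_iff _).2 fun z hz => by_contra fun hz0 => huv ?_
      rw [← D.T_eq u z hu hz0 hz.1, D.T_eq v z hv hz0 hz.2]
      exact D.mem_T v hv
    have := Submodule.finrank_sup_add_finrank_inf_eq (D.T u) (D.T v)
    rw [hbot, finrank_bot, D.finrank_T u hu, D.finrank_T v hv] at this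
    omega
  have hlrk : finrank (ZMod 2) l = 2 * h :=
    hrk p q hp0 hq0 fun e => hq1 (Submodule.mem_sup_right e)
  have hl'rk : finrank (ZMod 2) l' = 2 * h := by
    refine hrk _ _ hsp.2.1 hsq.2.1 fun e => hq1 (Submodule.mem_sup_right ?_)
    have h1 := H.rel_class hsp.1 hsp.2.1 hsq.2.1 e (H.rel_symm hp hp0 hsp) (H.rel_symm hq hq0 hsq)
    rw [← h1]
    exact D.mem_T q hq0
  have hhpos : 0 < h := by
    by_contra h0
    have := hx₁0
    have h1 := Submodule.finrank_eq_zero.1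
      ((D.finrank_T x₁ hx₁0).trans (Nat.eq_zero_of_not_pos h0))
    exact this (by simpa [h1] using D.mem_T x₁ hx₁0)
  have hbound : finrank (ZMod 2) ↥(l ⊔ l') ≤ 3 * h := by
    refine le_trans (Submodule.finrank_mono (show l ⊔ l' ≤ l ⊔ D.T x₁ from sup_le le_sup_left
      (sup_le ((himg p hp hp0).trans (sup_le_sup le_sup_left le_rfl))
        ((himg q hq hq0).trans (sup_le_sup le_sup_right le_rfl))))) ?_
    have := Submodule.finrank_sup_add_finrank_inf_eq l (D.T x₁)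
    rw [hlrk, D.finrank_T x₁ hx₁0] at this
    omega
  have hne : l ⊓ l' ≠ ⊥ := by
    intro e
    have := Submodule.finrank_sup_add_finrank_inf_eq l l'
    rw [e, finrank_bot, hlrk, hl'rk] at this
    omega
  obtain ⟨z, hz, hz0, hfz⟩ := H.exists_fixed (M := l ⊓ l')
    (inf_le_left.trans (sup_le (hTY hp hp0) (hTY hq hq0))) hne
    (fun z hz hz0 => le_inf (D.line_closed p q z hp0 hq0 hz0 (hmemY hp hp0 hq) hz.1)
      (D.line_closed _ _ z hsp.2.1 hsq.2.1 hz0 (hmemY hsp.1 hsp.2.1 hsq.1) hz.2))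
    (fun z hz hz0 => by
      refine ⟨?_, hinvl p q hp hp0 hq hq0 z hz.1 hz0⟩
      have := hinvl _ _ hsp.1 hsp.2.1 hsq.1 hsq.2.1 z hz.2 hz0
      rwa [hback p hp hp0, hback q hq hq0] at this)
  refine hcon x₁ hx₁ z (sup_le (hTY hp hp0) (hTY hq hq0) hz.1) hx₁0 hz0 (fun hz1 => hx₁l ?_) hf₁ hfz
  exact D.line_closed p q z hp0 hq0 hz0 (hmemY hp hp0 hq) hz.1
    (by rw [D.T_eq x₁ z hx₁0 hz0 hz1]; exact D.mem_T x₁ hx₁0)

/-- At a fixed class the component of the third part is in the neighbourhood. -/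
theorem Triple.fixed_comp (H : D.Triple a b t) {x₁ x : W} (hx₁ : x₁ ∈ D.Y a) (hx₁0 : x₁ ≠ 0)
    (hf : D.coll a b t x₁ ∈ D.T x₁) (hx : x ∈ D.T x₁) (hx0 : x ≠ 0) :
    ∃ y ∈ D.Y b, y ≠ 0 ∧ y ∈ D.S x ∧ x + y ∈ D.Y t := by
  have hs := H.coll_spec hx₁ hx₁0
  obtain ⟨-, hc0, z', hz', hz'0, hz'S, hβ'⟩ := hs
  have hc := (H.coll_spec hx₁ hx₁0).1
  have hxY : x ∈ D.Y a := by rw [← D.Y_eq a x₁ H.ha hx₁0 hx₁]; exact D.T_le_Y x₁ hx₁0 hx
  obtain ⟨z, hz, hz0, hβ⟩ := H.lift hxY hx0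
  have hT : x ∈ D.T (D.coll a b t x₁) := by rw [D.T_eq x₁ _ hx₁0 hc0 hf]; exact hx
  have hzT : z ∈ D.T z' := (H.class_iff hz' hz'0 hz hz0 hc hc0 hxY hx0 hβ' hβ).2 hT
  have hzS : z ∈ D.S x := by
    rw [D.S_eq x₁ x hx₁0 hx0 hx]
    exact D.S_symm z x₁ hz0 hx₁0 (by rw [D.S_eq z' z hz'0 hz0 hzT]; exact D.S_symm x₁ z' hx₁0 hz'0 hz'S)
  have hy0 : z - x ≠ 0 := fun e => hz0 (H.at_zero hz (sub_eq_zero.1 e ▸ hxY))
  exact ⟨z - x, hβ, hy0, sub_mem hzS (D.Y_le_S' H.ha hx0 hxY hxY),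
    by rwa [add_sub_cancel]⟩

end Triples

/-- There is no configuration. -/
theorem false (hg : 2 * h < g) [Nontrivial W] (D : YConf W g h) : False := by
  classical
  haveI := Fintype.ofFinite W
  obtain ⟨a, ha⟩ := exists_ne (0 : W)
  obtain ⟨b, hbZ⟩ : ∃ b, b ∉ D.Z a := by
    by_contra hall
    push Not at hall
    have h1 := D.finrank_Z a ha
    rw [Submodule.eq_top_iff'.2 hall, finrank_top] at h1
    omega
  have hb : b ≠ 0 := fun e => hbZ (e ▸ zero_mem _)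
  have hba : Disjoint (D.Y b) (D.Z a) :=
    (D.dichotomy hg ha hb).resolve_left fun hle => hbZ (hle (D.mem_Y hb))
  have hab : Disjoint (D.Y a) (D.Z b) := (D.dichotomy hg hb ha).resolve_left fun hle =>
    hbZ (D.perp_symm hb ha hle (D.mem_Y hb))
  -- the sum of the two parts is a union of parts
  have hC : ∀ c, c ∈ D.Z a ⊓ D.Z b → c ≠ 0 →
      D.Y c ≤ D.Z a ⊓ D.Z b ∧ D.Y a ⊔ D.Y b ≤ D.Z c := by
    intro c hc hc0
    have key : ∀ e, e ≠ 0 → c ∈ D.Z e → D.Y c ≤ D.Z e := fun e he hce =>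
      (D.dichotomy hg he hc0).resolve_right fun hd =>
        hc0 (Submodule.disjoint_def.1 hd c (D.mem_Y hc0) hce)
    exact ⟨le_inf (key a ha hc.1) (key b hb hc.2),
      sup_le (D.perp_symm ha hc0 (key a ha hc.1)) (D.perp_symm hb hc0 (key b hb hc.2))⟩
  have hQ : ∀ v, v ∈ D.Y a ⊔ D.Y b → v ≠ 0 → D.Y v ≤ D.Y a ⊔ D.Y b := by
    intro v hv hv0 u hu
    obtain ⟨β, hβ, ζ, hζ, e⟩ := Submodule.mem_sup.1 (show u ∈ D.Y b ⊔ D.Z a by
      rw [D.codisjoint ha hb hba]; exact Submodule.mem_top)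
    obtain ⟨α, hα, γ, hγ, e'⟩ := Submodule.mem_sup.1 (show ζ ∈ D.Y a ⊔ D.Z b by
      rw [D.codisjoint hb ha hab]; exact Submodule.mem_top)
    have hγC : γ ∈ D.Z a ⊓ D.Z b :=
      ⟨by rw [eq_sub_of_add_eq' e']; exact sub_mem hζ (D.Y_le_Z ha hα), hγ⟩
    by_cases hγ0 : γ = 0
    · rw [← e, ← e', hγ0, add_zero, add_comm]
      exact Submodule.add_mem_sup hα hβ
    exfalso
    have hγall : ∀ c, c ∈ D.Z a ⊓ D.Z b → c ≠ 0 → c ∈ D.Z γ := by
      intro c hc hc0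
      obtain ⟨-, hc2⟩ := hC c hc hc0
      have hvc : D.Y v ≤ D.Z c := (D.dichotomy hg hc0 hv0).resolve_right fun hd =>
        hv0 (Submodule.disjoint_def.1 hd v (D.mem_Y hv0) (hc2 hv))
      have hγc : γ ∈ D.Z c := by
        rw [show γ = u - β - α by rw [← e, ← e']; abel]
        exact sub_mem (sub_mem (hvc hu) (hc2 (Submodule.mem_sup_right hβ)))
          (hc2 (Submodule.mem_sup_left hα))
      exact D.perp_symm hc0 hγ0 ((D.dichotomy hg hc0 hγ0).resolve_right fun hd =>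
        hγ0 (Submodule.disjoint_def.1 hd γ (D.mem_Y hγ0) hγc)) (D.mem_Y hc0)
    have hab2 := (hC γ hγC hγ0).2
    have htop : D.Z γ = ⊤ := by
      refine eq_top_iff.2 fun w _ => ?_
      obtain ⟨β', hβ', ζ', hζ', e1⟩ := Submodule.mem_sup.1 (show w ∈ D.Y b ⊔ D.Z a by
        rw [D.codisjoint ha hb hba]; exact Submodule.mem_top)
      obtain ⟨α', hα', γ', hγ', e2⟩ := Submodule.mem_sup.1 (show ζ' ∈ D.Y a ⊔ D.Z b by
        rw [D.codisjoint hb ha hab]; exact Submodule.mem_top)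
      rw [← e1, ← e2]
      refine add_mem (hab2 (Submodule.mem_sup_right hβ')) (add_mem (hab2 (Submodule.mem_sup_left hα')) ?_)
      by_cases h0 : γ' = 0
      · rw [h0]; exact zero_mem _
      · exact hγall γ' ⟨by rw [eq_sub_of_add_eq' e2]; exact sub_mem hζ' (D.Y_le_Z ha hα'), hγ'⟩ h0
    have := D.finrank_Z γ hγ0
    rw [htop, finrank_top] at this
    omega
  have hT : ∀ y ∈ D.Y b, y ≠ 0 → D.Triple a b (a + y) := by
    intro y hy hy0
    have haY := D.mem_Y ha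
    have hab0 : ∀ {x}, x ∈ D.Y a → x ∈ D.Y b → x = 0 :=
      fun {x} hx hx' => Submodule.disjoint_def.1 hab x hx (D.Y_le_Z hb hx')
    have ht0 : a + y ≠ 0 := fun e => ha (hab0 haY (by rw [eq_neg_of_add_eq_zero_left e]; exact neg_mem hy))
    have hle := hQ (a + y) (Submodule.add_mem_sup haY hy) ht0
    have hta : ¬ D.Y (a + y) ≤ D.Z a := fun hle' => hy0 (Submodule.disjoint_def.1 hba y hy
      (by simpa using sub_mem (hle' (D.mem_Y ht0)) (D.Y_le_Z ha haY)))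
    have htb : ¬ D.Y (a + y) ≤ D.Z b := fun hle' => ha (Submodule.disjoint_def.1 hab a haY
      (by simpa using sub_mem (hle' (D.mem_Y ht0)) (D.Y_le_Z hb hy)))
    exact ⟨ha, hb, ht0, hab, hba,
      (D.dichotomy hg ht0 ha).resolve_left fun h' => hta (D.perp_symm ht0 ha h'),
      (D.dichotomy hg ha ht0).resolve_left hta, (D.dichotomy hg hb ht0).resolve_left htb,
      (D.dichotomy hg ht0 hb).resolve_left fun h' => htb (D.perp_symm ht0 hb h'), hle⟩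
  have hcard : ∀ N : Submodule (ZMod 2) W,
      (Finset.univ.filter fun x => x ∈ N ∧ x ≠ 0).card + 1 = 2 ^ finrank (ZMod 2) N := by
    intro N
    have h1 : (Finset.univ.filter fun x => x ∈ N).card = 2 ^ finrank (ZMod 2) N := by
      rw [← Fintype.card_subtype, ← Nat.card_eq_fintype_card]
      exact (Module.natCard_eq_pow_finrank (K := ZMod 2) (V := N)).trans (by rw [Nat.card_zmod])
    rw [← h1, ← Finset.card_erase_add_one (show (0 : W) ∈ Finset.univ.filter fun x => x ∈ N by simp)]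
    congr 1
    refine congrArg Finset.card (Finset.ext fun x => ?_)
    simp [and_comm]
  let P : Submodule (ZMod 2) W → Finset W := fun N => Finset.univ.filter fun x => x ∈ N ∧ x ≠ 0
  let Fx : W → Finset W := fun y => (P (D.Y a)).filter fun x =>
    ∃ y₂, y₂ ∈ D.Y b ∧ y₂ ≠ 0 ∧ y₂ ∈ D.S x ∧ x + y₂ ∈ D.Y (a + y)
  -- each third part has two fixed classes
  have hlow : ∀ y ∈ P (D.Y b), 2 * (2 ^ h - 1) ≤ (Fx y).card := by
    intro y hy
    simp only [P, Finset.mem_filter, Finset.mem_univ, true_and] at hy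
    have H := hT y hy.1 hy.2
    obtain ⟨x₁, hx₁, x₂, hx₂, hx₁0, hx₂0, hne, hf₁, hf₂⟩ := H.two_fixed hg
    have hsub : ∀ x', x' ∈ D.Y a → x' ≠ 0 → D.coll a b (a + y) x' ∈ D.T x' → P (D.T x') ⊆ Fx y := by
      intro x' hx' hx'0 hf x hx
      simp only [P, Fx, Finset.mem_filter, Finset.mem_univ, true_and] at hx ⊢
      refine ⟨⟨?_, hx.2⟩, H.fixed_comp hx' hx'0 hf hx.1 hx.2⟩
      rw [← D.Y_eq a x' ha hx'0 hx']; exact D.T_le_Y x' hx'0 hx.1
    have hdisj : Disjoint (P (D.T x₁)) (P (D.T x₂)) := Finset.disjoint_left.2 fun z hz1 hz2 => by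
      simp only [P, Finset.mem_filter, Finset.mem_univ, true_and] at hz1 hz2
      refine hne ?_
      rw [← D.T_eq x₁ z hx₁0 hz1.2 hz1.1, D.T_eq x₂ z hx₂0 hz2.2 hz2.1]
      exact D.mem_T x₂ hx₂0
    have h1 := Finset.card_le_card (Finset.union_subset (hsub x₁ hx₁ hx₁0 hf₁) (hsub x₂ hx₂ hx₂0 hf₂))
    rw [Finset.card_union_of_disjoint hdisj] at h1
    have h2 := hcard (D.T x₁)
    have h3 := hcard (D.T x₂)
    rw [D.finrank_T x₁ hx₁0] at h2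
    rw [D.finrank_T x₂ hx₂0] at h3
    simp only [P] at h1
    omega
  -- and altogether there are only as many fixed classes as parts
  let R : Finset (Σ _ : W, W) := (P (D.Y a)).sigma fun x => P (D.Y b ⊓ D.S x)
  have hR : R.card = (P (D.Y a)).card * (2 ^ h - 1) := by
    rw [Finset.card_sigma, Finset.sum_const_nat]
    intro x hx
    simp only [P, Finset.mem_filter, Finset.mem_univ, true_and] at hx
    obtain ⟨w, -, hw0, -, hw⟩ := D.inf_S_eq ha hb hab hx.1 hx.2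
    have h1 := hcard (D.Y b ⊓ D.S x)
    rw [show finrank (ZMod 2) ↥(D.Y b ⊓ D.S x) = h by rw [hw]; exact D.finrank_T w hw0] at h1
    simp only [P]
    omega
  have hup : ((P (D.Y b)).sigma Fx).card ≤ R.card := by
    have hmem : ∀ q : Σ _ : W, W, q ∈ (P (D.Y b)).sigma Fx → (q.1 ∈ D.Y b ∧ q.1 ≠ 0) ∧
        (q.2 ∈ D.Y a ∧ q.2 ≠ 0) ∧ ∃ y₂, y₂ ∈ D.Y b ∧ y₂ ≠ 0 ∧ y₂ ∈ D.S q.2 ∧ q.2 + y₂ ∈ D.Y (a + q.1) := by
      intro q hq
      simpa [P, Fx, and_assoc] using hq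
    choose h1 h2 k hk using hmem
    refine Finset.card_le_card_of_injOn
      (fun q => if hq : q ∈ (P (D.Y b)).sigma Fx then ⟨q.2, k q hq⟩ else q) ?_ ?_
    · intro q hq
      simp only [Finset.mem_coe] at hq
      simp only [dif_pos hq]
      simp only [R, P, Finset.mem_coe, Finset.mem_sigma, Finset.mem_filter, Finset.mem_univ, true_and]
      exact ⟨h2 q hq, ⟨(hk q hq).1, (hk q hq).2.2.1⟩, (hk q hq).2.1⟩
    · intro q hq q' hq' e
      simp only [Finset.mem_coe] at hq hq'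
      simp only [dif_pos hq, dif_pos hq'] at e
      obtain ⟨e1, e2⟩ := Sigma.mk.inj_iff.1 e
      have e2' := eq_of_heq e2
      have H := hT q.1 (h1 q hq).1 (h1 q hq).2
      have H' := hT q'.1 (h1 q' hq').1 (h1 q' hq').2
      have m1 := (hk q hq).2.2.2
      have m2 := (hk q' hq').2.2.2
      rw [← e1, ← e2'] at m2
      have hne : q.2 + k q hq ≠ 0 := fun e0 => (h2 q hq).2 (H.ab_zero (h2 q hq).1
        (by rw [eq_neg_of_add_eq_zero_left e0]; exact neg_mem (hk q hq).1))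
      have hY := D.Y_eq_of_mem H.ht H'.ht hne m1 m2
      have h3 : a + q'.1 - (a + q.1) = 0 := H.bt_zero
        (sub_mem (hY ▸ D.mem_Y H'.ht) (D.mem_Y H.ht))
        (by rw [add_sub_add_left_eq_sub]; exact sub_mem (h1 q' hq').1 (h1 q hq).1)
      rw [add_sub_add_left_eq_sub, sub_eq_zero] at h3
      exact Sigma.ext h3.symm (heq_of_eq e1)
  rw [Finset.card_sigma, hR] at hup
  have hsum : (P (D.Y b)).card * (2 * (2 ^ h - 1)) ≤ ∑ y ∈ P (D.Y b), (Fx y).card := by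
    rw [← smul_eq_mul]
    exact Finset.card_nsmul_le_sum _ _ _ hlow
  have ha' := hcard (D.Y a)
  have hb' := hcard (D.Y b)
  rw [D.finrank_Y a ha] at ha'
  rw [D.finrank_Y b hb] at hb'
  have hN : (P (D.Y b)).card = (P (D.Y a)).card := by simp only [P]; omega
  have hle := hsum.trans hup
  rw [hN] at hle
  have hh : 0 < h := by
    by_contra h0
    have h1 := Submodule.finrank_eq_zero.1
      ((D.finrank_T a ha).trans (Nat.eq_zero_of_not_pos h0))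
    exact ha (by simpa [h1] using D.mem_T a ha)
  have h2h : 2 ≤ 2 ^ h := Nat.le_self_pow (by omega) 2
  have h2g : 2 ≤ 2 ^ g := Nat.le_self_pow (by omega) 2
  have hpos : 0 < (P (D.Y a)).card := by simp only [P]; omega
  have := Nat.le_of_mul_le_mul_left hle hpos
  omega

end YConf

end Cfsg.Agent.TransLinTwo
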