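import Mathlib

/-!
There are no matrices with the distance recurrence of a generalised polygon of odd order `2 D + 1`.

Modulo a large prime `r` congruent to `2` modulo `2 D + 1` the reduced adjacency matrix has a
periodic Dickson sequence, so the Frobenius identity makes the traces of its first two members
equal, and they differ.
-/

set_option autoImplicit false
set_option linter.unusedSectionVars false
set_option linter.unusedVariables false
set_option linter.style.haveILetI false

namespace Cfsg.Agent.TransLinTwo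

open Matrix Polynomial

section

variable {K : Type*} [CommRing K] {ι : Type*} [Fintype ι] [DecidableEq ι]

/-- The Dickson sequence of `X` cut down by `E`. -/
noncomputable def dicksonSeq (X E : Matrix ι ι K) (l : ℕ) : Matrix ι ι K :=
  aeval X (dickson 1 (1 : K) l) * E

theorem dicksonSeq_zero (X E : Matrix ι ι K) : dicksonSeq X E 0 = E + E := by
  rw [dicksonSeq, dickson_zero,
    show (3 - ((1 : ℕ) : K[X])) = (1 : K[X]) + 1 by push_cast; ring, map_add, map_one, add_mul,
    one_mul]

theorem dicksonSeq_one (X E : Matrix ι ι K) : dicksonSeq X E 1 = X * E := by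
  rw [dicksonSeq, dickson_one, aeval_X]

theorem dicksonSeq_add_two (X E : Matrix ι ι K) (l : ℕ) :
    dicksonSeq X E (l + 2) = X * dicksonSeq X E (l + 1) - dicksonSeq X E l := by
  rw [dicksonSeq, dickson_add_two, map_one, one_mul, map_sub, map_mul, aeval_X, sub_mul, mul_assoc]
  rfl

/-- The partial sums of the Dickson sequence. -/
noncomputable def dicksonSum (X E : Matrix ι ι K) (i : ℕ) : Matrix ι ι K :=
  E + ∑ l ∈ Finset.range i, dicksonSeq X E (l + 1)

theorem dicksonSum_add_two (X E : Matrix ι ι K) (i : ℕ) :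
    dicksonSum X E (i + 2) = X * dicksonSum X E (i + 1) - dicksonSum X E i := by
  induction i with
  | zero =>
    simp only [dicksonSum, Finset.sum_range_succ, Finset.sum_range_zero, zero_add, mul_add]
    rw [dicksonSeq_add_two X E 0, dicksonSeq_one, dicksonSeq_zero]
    abel
  | succ i ih =>
    have e : ∀ j, dicksonSum X E (j + 1) = dicksonSum X E j + dicksonSeq X E (j + 1) := fun j => by
      rw [dicksonSum, dicksonSum, Finset.sum_range_succ, add_assoc]
    rw [e (i + 2), e (i + 1), mul_add, dicksonSeq_add_two X E (i + 1), ← e (i + 1), ih, e i]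
    abel

/-- A vanishing partial sum makes the sequence periodic. -/
theorem dicksonSeq_periodic (X E : Matrix ι ι K) {D : ℕ} (hD : 1 ≤ D)
    (h0 : dicksonSum X E D = 0) (l : ℕ) :
    dicksonSeq X E (l + (2 * D + 1)) = dicksonSeq X E l := by
  obtain ⟨D, rfl⟩ : ∃ D', D = D' + 1 := ⟨D - 1, by omega⟩
  have hmid : dicksonSeq X E (D + 2) = dicksonSeq X E (D + 1) := by
    have h1 := dicksonSum_add_two X E D
    rw [dicksonSum, Finset.sum_range_succ, ← add_assoc, ← dicksonSum, h0, mul_zero, zero_add,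
      zero_sub] at h1
    rw [h1]
    have h2 : dicksonSum X E (D + 1) = dicksonSum X E D + dicksonSeq X E (D + 1) := by
      rw [dicksonSum, dicksonSum, Finset.sum_range_succ, add_assoc]
    rw [h0] at h2
    exact (eq_neg_of_add_eq_zero_right h2.symm).symm
  have href : ∀ j, j ≤ D + 1 →
      dicksonSeq X E (D + 2 + j) = dicksonSeq X E (D + 1 - j) ∧
        (1 ≤ j → dicksonSeq X E (D + 2 + (j - 1)) = dicksonSeq X E (D + 1 - (j - 1))) := by
    intro j
    induction j with
    | zero => exact fun _ => ⟨hmid, fun h => absurd h (by omega)⟩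
    | succ j ih =>
      intro hj
      obtain ⟨h1, h2⟩ := ih (by omega)
      refine ⟨?_, fun _ => by simpa using h1⟩
      rcases Nat.eq_zero_or_pos j with rfl | hj0
      · rw [show D + 2 + (0 + 1) = (D + 1) + 2 by omega, dicksonSeq_add_two,
          show D + 1 + 1 = D + 2 from rfl, hmid, show D + 1 - (0 + 1) = D by omega]
        have h3 := hmid
        rw [dicksonSeq_add_two, sub_eq_iff_eq_add] at h3
        rw [h3]
        abel
      · rw [show D + 2 + (j + 1) = (D + 1 + j) + 2 by omega, dicksonSeq_add_two,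
          show D + 1 + j + 1 = D + 2 + j by omega, h1,
          show D + 1 + j = D + 2 + (j - 1) by omega, h2 hj0,
          show D + 1 - (j - 1) = D + 1 - (j + 1) + 2 by omega, dicksonSeq_add_two,
          show D + 1 - (j + 1) + 1 = D + 1 - j by omega]
        abel
  obtain ⟨hr0, hr1⟩ := href (D + 1) le_rfl
  have hr1' := hr1 (by omega)
  rw [Nat.sub_self, show D + 2 + (D + 1) = 2 * (D + 1) + 1 by omega] at hr0
  rw [show D + 1 - (D + 1 - 1) = 1 by omega, show D + 2 + (D + 1 - 1) = 2 * (D + 1) by omega]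
    at hr1'
  have hp0 : dicksonSeq X E (0 + (2 * (D + 1) + 1)) = dicksonSeq X E 0 := by rw [zero_add]; exact hr0
  have hp1 : dicksonSeq X E (1 + (2 * (D + 1) + 1)) = dicksonSeq X E 1 := by
    rw [show 1 + (2 * (D + 1) + 1) = 2 * (D + 1) + 2 by omega, dicksonSeq_add_two, hr0, hr1',
      dicksonSeq_zero, dicksonSeq_one, mul_add]
    abel
  suffices h : ∀ l, dicksonSeq X E (l + (2 * (D + 1) + 1)) = dicksonSeq X E l ∧
      dicksonSeq X E (l + 1 + (2 * (D + 1) + 1)) = dicksonSeq X E (l + 1) from (h l).1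
  intro l
  induction l with
  | zero => exact ⟨hp0, hp1⟩
  | succ l ih =>
    refine ⟨ih.2, ?_⟩
    rw [show l + 1 + 1 + (2 * (D + 1) + 1) = l + (2 * (D + 1) + 1) + 2 by omega, dicksonSeq_add_two,
      dicksonSeq_add_two, show l + (2 * (D + 1) + 1) + 1 = l + 1 + (2 * (D + 1) + 1) by omega,
      ih.1, ih.2]

end

/-- No generalised odd polygon, in matrix form. -/
theorem oddPolygon_false {ι : Type*} [Fintype ι] [DecidableEq ι] [Nonempty ι] (q D : ℕ)
    (hq : 2 ≤ q) (hD : 2 ≤ D) (M : ℕ → Matrix ι ι ℤ) (h0 : M 0 = 1)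
    (hsymm : (M 1).transpose = M 1) (hlast : ∀ u z, M D u z = 1)
    (hrec : ∀ i, 1 ≤ i → i < D →
      (M 1 - 1) * M i = M (i + 1) + ((q : ℤ) - 1) • M i + ((q : ℤ) ^ 2) • M (i - 1))
    (hrow : ∀ i ≤ D, ∀ u, ∑ z, M i u z = ∑ j ∈ Finset.range (2 * i + 1), (q : ℤ) ^ j)
    (hdiag : ∀ i ≤ D, ∀ u, M i u u = 1) : False := by
  classical
  let s : ℕ → ℤ := fun i => ∑ j ∈ Finset.range (2 * i + 1), (q : ℤ) ^ j
  set n := Fintype.card ι with hn
  have hN : (n : ℤ) = s D := by
    have := hrow D le_rfl (Classical.arbitrary ι)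
    simpa [hlast] using this
  set Δ : ℤ := 2 * q * ((n : ℤ) - s 1) - q ^ 2 * ((n : ℤ) - 1) - ((n : ℤ) - s 2) with hΔ
  have hΔ0 : Δ ≠ 0 := by
    have hgeom : ∀ i, ((q : ℤ) - 1) * s i = (q : ℤ) ^ (2 * i + 1) - 1 := fun i => by
      rw [mul_comm]; exact geom_sum_mul (q : ℤ) (2 * i + 1)
    intro h
    have h1 : ((q : ℤ) - 1) * Δ = ((q : ℤ) - 1) ^ 2 * ((q : ℤ) ^ 3 - (q : ℤ) ^ (2 * D + 1)) := by
      rw [hΔ, hN]
      linear_combination (2 * (q : ℤ) - (q : ℤ) ^ 2 - 1) * hgeom D - 2 * (q : ℤ) * hgeom 1 + hgeom 2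
    rw [h, mul_zero] at h1
    rcases mul_eq_zero.1 h1.symm with h2 | h2
    · have := eq_zero_of_pow_eq_zero h2
      omega
    · have h3 : (q : ℤ) ^ 3 < (q : ℤ) ^ (2 * D + 1) := pow_lt_pow_right₀ (by omega) (by omega)
      omega
  obtain ⟨r, hr, hrp, hrmod⟩ : ∃ r > Δ.natAbs + n + q, r.Prime ∧ r % (2 * D + 1) = 2 := by
    have hu : IsUnit ((2 : ℕ) : ZMod (2 * D + 1)) :=
      ⟨ZMod.unitOfCoprime 2 (Nat.coprime_two_left.2 ⟨D, by ring⟩), rfl⟩
    obtain ⟨r, h1, h2, h3⟩ := Nat.forall_exists_prime_gt_and_eq_mod hu (Δ.natAbs + n + q)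
    refine ⟨r, h1, h2, ?_⟩
    have h4 := (ZMod.natCast_eq_natCast_iff' r 2 (2 * D + 1)).1 h3
    rwa [Nat.mod_eq_of_lt (show 2 < 2 * D + 1 by omega)] at h4
  haveI := Fact.mk hrp
  have hne : ∀ k : ℕ, 0 < k → k < r → (k : ZMod r) ≠ 0 := fun k hk hkr h =>
    absurd (Nat.le_of_dvd hk ((ZMod.natCast_eq_zero_iff k r).1 h)) (by omega)
  have hq0 : (q : ZMod r) ≠ 0 := hne q (by omega) (by omega)
  have hn0 : (n : ZMod r) ≠ 0 := hne n Fintype.card_pos (by omega)
  let f : Matrix ι ι ℤ →+* Matrix ι ι (ZMod r) := (Int.castRingHom (ZMod r)).mapMatrix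
  have hf : ∀ (c : ℤ) (B : Matrix ι ι ℤ), f (c • B) = (c : ZMod r) • f B := fun c B => by
    rw [map_zsmul, Int.cast_smul_eq_zsmul]
  let J : Matrix ι ι (ZMod r) := Matrix.of fun _ _ => 1
  let E : Matrix ι ι (ZMod r) := 1 - (n : ZMod r)⁻¹ • J
  let X : Matrix ι ι (ZMod r) := (q : ZMod r)⁻¹ • f (M 1) - 1
  have hJr : ∀ i ≤ D, f (M i) * J = (s i : ZMod r) • J := by
    intro i hi
    ext u v
    simp only [Matrix.mul_apply, J, Matrix.of_apply, mul_one, Matrix.smul_apply, smul_eq_mul, f,
      RingHom.mapMatrix_apply, Matrix.map_apply, Int.coe_castRingHom]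
    rw [← Int.cast_sum, hrow i hi u]
  have hJl : J * f (M 1) = (s 1 : ZMod r) • J := by
    ext u v
    simp only [Matrix.mul_apply, J, Matrix.of_apply, one_mul, Matrix.smul_apply, smul_eq_mul,
      mul_one, f, RingHom.mapMatrix_apply, Matrix.map_apply, Int.coe_castRingHom]
    rw [← Int.cast_sum, show s 1 = ∑ z, M 1 v z from (hrow 1 (by omega) v).symm]
    refine congrArg _ (Finset.sum_congr rfl fun z _ => ?_)
    conv_rhs => rw [← hsymm, Matrix.transpose_apply]
  have hJJ : J * J = (n : ZMod r) • J := by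
    ext u v
    simp [Matrix.mul_apply, J, hn]
  have hEE : E * E = E := by
    simp only [E, sub_mul, mul_sub, one_mul, mul_one, smul_mul_smul_comm, hJJ, smul_smul,
      mul_assoc, inv_mul_cancel₀ hn0]
    module
  have hXE : Commute X E := by
    have h1 : Commute (f (M 1)) J := (hJr 1 (by omega)).trans hJl.symm
    have h2 : Commute (f (M 1)) E := (Commute.one_right _).sub_right (h1.smul_right _)
    exact (h2.smul_left _).sub_left (Commute.one_left _)
  -- the reduced distance matrices are the partial sums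
  have hΓ : ∀ i ≤ D, ((q : ZMod r) ^ i)⁻¹ • (f (M i) * E) = dicksonSum X E i := by
    suffices h : ∀ i, i + 1 ≤ D → ((q : ZMod r) ^ i)⁻¹ • (f (M i) * E) = dicksonSum X E i ∧
        ((q : ZMod r) ^ (i + 1))⁻¹ • (f (M (i + 1)) * E) = dicksonSum X E (i + 1) by
      intro i hi
      rcases Nat.eq_zero_or_pos i with rfl | hpos
      · exact (h 0 (by omega)).1
      · obtain ⟨k, rfl⟩ : ∃ k, i = k + 1 := ⟨i - 1, by omega⟩
        exact (h k hi).2
    intro i
    induction i with
    | zero =>
      intro _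
      constructor
      · simp [dicksonSum, h0]
      · simp only [dicksonSum, Finset.sum_range_one, zero_add, pow_one, dicksonSeq_one, X,
          sub_mul, one_mul, smul_mul_assoc]
        abel
    | succ i ih =>
      intro hi
      obtain ⟨h1, h2⟩ := ih (by omega)
      refine ⟨h2, ?_⟩
      rw [dicksonSum_add_two, ← h1, ← h2]
      have h3 := congrArg f (hrec (i + 1) (by omega) (by omega))
      simp only [map_mul, map_sub, map_one, map_add, hf, Nat.add_sub_cancel] at h3
      push_cast at h3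
      have h4 : f (M (i + 1 + 1)) = f (M 1) * f (M (i + 1)) - (q : ZMod r) • f (M (i + 1)) -
          ((q : ZMod r) ^ 2) • f (M i) := by
        rw [sub_mul, one_mul] at h3
        rw [show f (M 1) * f (M (i + 1)) = f (M (i + 1 + 1)) + ((q : ZMod r) - 1) • f (M (i + 1)) +
          ((q : ZMod r) ^ 2) • f (M i) + f (M (i + 1)) from sub_eq_iff_eq_add.1 h3]
        module
      rw [h4]
      simp only [X, sub_mul, one_mul, smul_mul_assoc, mul_smul_comm, smul_sub, mul_assoc, smul_smul]
      match_scalars <;> first | ring1 | (field_simp; ring1) | field_simp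
  have hzero : dicksonSum X E D = 0 := by
    rw [← hΓ D le_rfl]
    have : f (M D) = J := by
      ext u v
      simp [f, J, hlast]
    rw [this]
    simp only [E, mul_sub, mul_one, mul_smul_comm, hJJ, smul_smul, inv_mul_cancel₀ hn0, one_smul,
      sub_self, smul_zero]
  -- periodicity and Frobenius
  have hper : ∀ k, dicksonSeq X E (2 + k * (2 * D + 1)) = dicksonSeq X E 2 := by
    intro k
    induction k with
    | zero => rw [zero_mul, add_zero]
    | succ k ih =>
      rw [show 2 + (k + 1) * (2 * D + 1) = 2 + k * (2 * D + 1) + (2 * D + 1) by ring,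
        dicksonSeq_periodic X E (by omega) hzero, ih]
  have hr2 : dicksonSeq X E r = dicksonSeq X E 2 := by
    have e : r = 2 + r / (2 * D + 1) * (2 * D + 1) := by
      conv_lhs => rw [← Nat.mod_add_div r (2 * D + 1), hrmod, mul_comm]
    exact (congrArg (dicksonSeq X E) e).trans (hper _)
  have hpow : dicksonSeq X E r = (X * E) ^ r := by
    rw [dicksonSeq, dickson_one_one_zmod_p, map_pow, aeval_X, hXE.mul_pow,
      IsIdempotentElem.pow_eq hEE hrp.ne_zero]
  have htr : (dicksonSeq X E 2).trace = (dicksonSeq X E 1).trace := by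
    rw [← hr2, hpow, ZMod.trace_pow_card, ZMod.pow_card, dicksonSeq_one]
  have htΓ : ∀ i ≤ D, (dicksonSum X E i).trace =
      ((q : ZMod r) ^ i)⁻¹ * ((n : ZMod r) - (s i : ZMod r)) := by
    intro i hi
    rw [← hΓ i hi, Matrix.trace_smul, smul_eq_mul]
    congr 1
    simp only [E, mul_sub, mul_one, mul_smul_comm, hJr i hi, Matrix.trace_sub, Matrix.trace_smul,
      smul_eq_mul]
    have h1 : (f (M i)).trace = (n : ZMod r) := by
      simp [f, Matrix.trace, hdiag i hi, hn]
    have h2 : J.trace = (n : ZMod r) := by simp [J, Matrix.trace, hn]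
    rw [h1, h2, mul_left_comm, inv_mul_cancel₀ hn0, mul_one]
  have hs0 : (dicksonSum X E 1).trace = (dicksonSum X E 0).trace + (dicksonSeq X E 1).trace := by
    simp [dicksonSum]
  have hs1 : (dicksonSum X E 2).trace = (dicksonSum X E 1).trace + (dicksonSeq X E 2).trace := by
    simp [dicksonSum, Finset.sum_range_succ, add_assoc]
  rw [htr] at hs1
  rw [htΓ 0 (by omega), htΓ 1 (by omega)] at hs0
  rw [htΓ 1 (by omega), htΓ 2 hD] at hs1
  have hfin : (Δ : ZMod r) = 0 := by
    have hs00 : (s 0 : ZMod r) = 1 := by simp [s]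
    rw [hΔ]
    push_cast
    rw [hs00] at hs0
    field_simp at hs0 hs1
    linear_combination (q : ZMod r) * hs0 - hs1
  exact hΔ0 (Int.eq_zero_of_dvd_of_natAbs_lt_natAbs ((ZMod.intCast_zmod_eq_zero_iff_dvd Δ r).1 hfin)
    (by rw [Int.natAbs_natCast]; omega))

end Cfsg.Agent.TransLinTwo
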