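import Mathlib

/-!
# Absolute points of a polarity of a generalised polygon

A bipartite incidence relation of order `(q, q)` with `N = 1 + q + ... + q^(2k-1)` points in which
every line is reached from every point in `2k - 1` steps behaves as a generalised `2k`-gon; a
polarity of it has exactly `q^k + 1` absolute points.
-/

namespace Cfsg.Agent.TransLinTwo

/-- `IncReach I i p l`: the line `l` is reached from the point `p` by a walk of `2i+1` steps. -/
def IncReach {P L : Type*} (I : P → L → Prop) : ℕ → P → L → Prop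
  | 0, p, l => I p l
  | i + 1, p, l => ∃ l' p', I p l' ∧ I p' l' ∧ IncReach I i p' l

namespace Polarity

variable {P : Type*}

/-- Non-backtracking walk with `n` steps for the relation `A`. -/
def Good (A : P → P → Prop) (n : ℕ) (f : Fin (n + 1) → P) : Prop :=
  (∀ i j : Fin (n + 1), j.val = i.val + 1 → A (f i) (f j)) ∧
  (∀ i j : Fin (n + 1), j.val = i.val + 2 → f i ≠ f j)

/-- The admissible next vertices of a walk. -/
def CanExt (A : P → P → Prop) (n : ℕ) (f : Fin (n + 1) → P) (c : P) : Prop :=
  A (f (Fin.last n)) c ∧ ∀ i : Fin (n + 1), i.val + 1 = n → f i ≠ c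

lemma good_snoc_iff (A : P → P → Prop) (n : ℕ) (f : Fin (n + 1) → P) (c : P) :
    Good A (n + 1) (Fin.snoc f c) ↔ Good A n f ∧ CanExt A n f c := by
  constructor
  · rintro ⟨h1, h2⟩
    refine ⟨⟨fun i j h => ?_, fun i j h => ?_⟩, ?_, fun i h => ?_⟩
    · simpa [Fin.snoc_castSucc] using h1 i.castSucc j.castSucc (by simpa using h)
    · simpa [Fin.snoc_castSucc] using h2 i.castSucc j.castSucc (by simpa using h)
    · simpa [Fin.snoc_castSucc, Fin.snoc_last] using
        h1 (Fin.last n).castSucc (Fin.last (n + 1)) (by simp)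
    · simpa [Fin.snoc_castSucc, Fin.snoc_last] using
        h2 i.castSucc (Fin.last (n + 1)) (by simp; omega)
  · rintro ⟨⟨h1, h2⟩, h3, h4⟩
    refine ⟨fun i j h => ?_, fun i j h => ?_⟩
    · induction j using Fin.lastCases with
      | last =>
        induction i using Fin.lastCases with
        | last => simp at h
        | cast i =>
          have hi : i = Fin.last n := Fin.ext (by simp at h ⊢; omega)
          subst hi
          simpa [Fin.snoc_castSucc, Fin.snoc_last] using h3
      | cast j =>
        induction i using Fin.lastCases with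
        | last => simp at h; omega
        | cast i => simpa [Fin.snoc_castSucc] using h1 i j (by simpa using h)
    · induction j using Fin.lastCases with
      | last =>
        induction i using Fin.lastCases with
        | last => simp at h
        | cast i =>
          simpa [Fin.snoc_castSucc, Fin.snoc_last] using h4 i (by simp at h ⊢; omega)
      | cast j =>
        induction i using Fin.lastCases with
        | last => simp at h; omega
        | cast i => simpa [Fin.snoc_castSucc] using h2 i j (by simpa using h)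

lemma good_init {A : P → P → Prop} {n : ℕ} {f : Fin (n + 2) → P} (h : Good A (n + 1) f) :
    Good A n (Fin.init f) ∧ CanExt A n (Fin.init f) (f (Fin.last (n + 1))) := by
  rw [← good_snoc_iff]
  rwa [Fin.snoc_init_self]

variable [Fintype P]

lemma card_canExt {A : P → P → Prop} {q : ℕ} (hA : ∀ x y, A x y → A y x)
    (hdeg : ∀ x, Nat.card {y // A x y} = q + 1) {n : ℕ} {f : Fin (n + 2) → P}
    (hf : Good A (n + 1) f) : Nat.card {c // CanExt A (n + 1) f c} = q := by
  classical
  set pen : Fin (n + 2) := ⟨n, by omega⟩ with hpen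
  have hadj : A (f (Fin.last (n + 1))) (f pen) := hA _ _ (hf.1 pen (Fin.last (n + 1)) rfl)
  have hiff : ∀ c, CanExt A (n + 1) f c ↔ A (f (Fin.last (n + 1))) c ∧ c ≠ f pen := by
    intro c
    refine and_congr_right fun _ => ⟨fun h e => h pen rfl e.symm, fun h i hi e => h ?_⟩
    have : i = pen := Fin.ext (by rw [hpen]; simp only; omega)
    rw [← e, this]
  rw [Nat.card_congr (Equiv.subtypeEquivRight hiff), Nat.card_eq_fintype_card,
    Fintype.card_subtype]
  have hd := hdeg (f (Fin.last (n + 1)))
  rw [Nat.card_eq_fintype_card, Fintype.card_subtype] at hd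
  have e : (Finset.univ.filter fun c => A (f (Fin.last (n + 1))) c ∧ c ≠ f pen) =
      (Finset.univ.filter fun c => A (f (Fin.last (n + 1))) c).erase (f pen) := by
    ext c
    simp only [Finset.mem_filter, Finset.mem_univ, true_and, Finset.mem_erase, and_comm]
  rw [e, Finset.card_erase_of_mem (by simp [hadj]), hd, Nat.add_sub_cancel]

lemma card_good_succ {A : P → P → Prop} {q : ℕ} (hA : ∀ x y, A x y → A y x)
    (hdeg : ∀ x, Nat.card {y // A x y} = q + 1) (n : ℕ) (K : (Fin (n + 2) → P) → Prop) :
    Nat.card {f : Fin (n + 3) → P // Good A (n + 2) f ∧ K (Fin.init f)} =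
      Nat.card {g : Fin (n + 2) → P // Good A (n + 1) g ∧ K g} * q := by
  classical
  let e : {f : Fin (n + 3) → P // Good A (n + 2) f ∧ K (Fin.init f)} ≃
      (Σ g : {g : Fin (n + 2) → P // Good A (n + 1) g ∧ K g},
        {c // CanExt A (n + 1) g.1 c}) :=
    { toFun := fun f => ⟨⟨Fin.init f.1, (good_init f.2.1).1, f.2.2⟩,
        ⟨f.1 (Fin.last (n + 2)), (good_init f.2.1).2⟩⟩
      invFun := fun g => ⟨Fin.snoc g.1.1 g.2.1, (good_snoc_iff A (n + 1) _ _).2 ⟨g.1.2.1, g.2.2⟩,
        by rw [Fin.init_snoc]; exact g.1.2.2⟩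
      left_inv := fun f => Subtype.ext (Fin.snoc_init_self f.1)
      right_inv := fun g => by
        rcases g with ⟨⟨g, hg⟩, ⟨c, hc⟩⟩
        refine Sigma.subtype_ext (Subtype.ext ?_) ?_
        · exact Fin.init_snoc (α := fun _ => P) c g
        · exact Fin.snoc_last (α := fun _ => P) c g }
  rw [Nat.card_congr e, Nat.card_sigma]
  rw [Finset.sum_congr rfl fun g _ => card_canExt hA hdeg g.2.1]
  simp [Nat.card_eq_fintype_card]

omit [Fintype P] in
lemma card_good_one {A : P → P → Prop} {q : ℕ}
    (hdeg : ∀ x, Nat.card {y // A x y} = q + 1) (x : P) :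
    Nat.card {f : Fin 2 → P // Good A 1 f ∧ f 0 = x} = q + 1 := by
  rw [← hdeg x]
  refine Nat.card_congr
    { toFun := fun f => ⟨f.1 1, by have := f.2.1.1 0 1 rfl; rwa [f.2.2] at this⟩
      invFun := fun y => ⟨![x, y.1], ⟨fun i j h => ?_, fun i j h => ?_⟩, rfl⟩
      left_inv := fun f => ?_
      right_inv := fun y => rfl }
  · fin_cases i <;> fin_cases j <;> simp at h ⊢
    exact y.2
  · have := j.isLt; omega
  · apply Subtype.ext
    funext i
    fin_cases i
    · exact f.2.2.symm
    · rfl

lemma card_good {A : P → P → Prop} {q : ℕ} (hA : ∀ x y, A x y → A y x)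
    (hdeg : ∀ x, Nat.card {y // A x y} = q + 1) (x : P) :
    ∀ n, Nat.card {f : Fin (n + 2) → P // Good A (n + 1) f ∧ f 0 = x} = (q + 1) * q ^ n
  | 0 => by simpa using card_good_one hdeg x
  | n + 1 => by
    have h := card_good_succ hA hdeg n (fun g => g 0 = x)
    rw [card_good hA hdeg x n] at h
    rw [pow_succ, ← mul_assoc, ← h]
    refine Nat.card_congr (Equiv.subtypeEquivRight fun f => and_congr_right fun _ => ?_)
    simp [Fin.init]

lemma card_good_loop {A : P → P → Prop} {q : ℕ} (hA : ∀ x y, A x y → A y x)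
    (hdeg : ∀ x, Nat.card {y // A x y} = q + 1) (p : P) (hp : A p p) :
    ∀ n, Nat.card {f : Fin (n + 2) → P // Good A (n + 1) f ∧ f 0 = p ∧ f 1 = p} = q ^ n
  | 0 => by
    rw [pow_zero, Nat.card_eq_one_iff_unique]
    refine ⟨⟨fun f g => Subtype.ext ?_⟩, ⟨![p, p], ⟨fun i j h => ?_, fun i j h => ?_⟩, rfl, rfl⟩⟩
    · funext i
      fin_cases i
      · exact f.2.2.1.trans g.2.2.1.symm
      · exact f.2.2.2.trans g.2.2.2.symm
    · fin_cases i <;> fin_cases j <;> simp at h ⊢
      exact hp
    · have := j.isLt; omega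
  | n + 1 => by
    have h := card_good_succ hA hdeg n (fun g => g 0 = p ∧ g 1 = p)
    rw [card_good_loop hA hdeg p hp n] at h
    rw [pow_succ, ← h]
    refine Nat.card_congr (Equiv.subtypeEquivRight fun f => and_congr_right fun _ => ?_)
    simp [Fin.init]

/-- Walks with `n` steps. -/
def Walk (A : P → P → Prop) : ℕ → P → P → Prop
  | 0, x, z => x = z
  | n + 1, x, z => ∃ y, Walk A n x y ∧ A y z

omit [Fintype P] in
lemma walk_cons {A : P → P → Prop} : ∀ {n : ℕ} {x y z : P}, A x y → Walk A n y z →
    Walk A (n + 1) x z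
  | 0, x, y, z, h, hw => ⟨x, rfl, by cases hw; exact h⟩
  | n + 1, x, y, z, h, ⟨w, hw, hwz⟩ => ⟨w, walk_cons h hw, hwz⟩

omit [Fintype P] in
/-- Every walk can be reduced to a non-backtracking walk of the same parity. -/
lemma exists_good {A : P → P → Prop} : ∀ {n : ℕ} {x z : P}, Walk A n x z →
    ∃ m, ∃ f : Fin (m + 1) → P, m ≤ n ∧ m % 2 = n % 2 ∧ Good A m f ∧ f 0 = x ∧
      f (Fin.last m) = z
  | 0, x, z, h => by
    cases h
    exact ⟨0, fun _ => x, le_rfl, rfl,
      ⟨fun i j h => by have := j.isLt; omega, fun i j h => by have := j.isLt; omega⟩, rfl, rfl⟩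
  | n + 1, x, z, ⟨y, hw, hyz⟩ => by
    obtain ⟨m, f, hmn, hpar, hf, h0, hl⟩ := exists_good hw
    by_cases hb : ∀ i : Fin (m + 1), i.val + 1 = m → f i ≠ z
    · refine ⟨m + 1, Fin.snoc f z, by omega, by omega,
        (good_snoc_iff A m f z).2 ⟨hf, by rw [hl]; exact hyz, hb⟩, ?_, Fin.snoc_last _ _⟩
      rw [show (0 : Fin (m + 2)) = (0 : Fin (m + 1)).castSucc from rfl, Fin.snoc_castSucc]
      exact h0
    · push Not at hb
      obtain ⟨i, hi, hz⟩ := hb
      obtain ⟨m', rfl⟩ : ∃ m', m = m' + 1 := ⟨i.val, hi.symm⟩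
      refine ⟨m', Fin.init f, by omega, by omega, (good_init hf).1, ?_, ?_⟩
      · simpa [Fin.init] using h0
      · rw [← hz]
        exact congrArg f (Fin.ext (by simp; omega))

/-- The folded form of `polarity_absolute`: a symmetric relation with loops. -/
theorem card_loops (A : P → P → Prop) (q k : ℕ) (hq : 2 ≤ q) (hA : ∀ x y, A x y → A y x)
    (hdeg : ∀ x, Nat.card {y // A x y} = q + 1)
    (hN : Fintype.card P = ∑ j ∈ Finset.range (2 * k), q ^ j) (hk : 0 < k)
    (hreach : ∀ x z, ∃ j, j < k ∧ Walk A (2 * j + 1) x z) :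
    Nat.card {p // A p p} = q ^ k + 1 := by
  classical
  let T (x : P) := Σ j : Fin k,
    {f : Fin (2 * j.val + 2) → P // Good A (2 * j.val + 1) f ∧ f 0 = x}
  let ep (x : P) (t : T x) : P := t.2.1 (Fin.last _)
  have hpoly : ∀ k, ∑ j ∈ Finset.range (2 * k), q ^ j =
      ∑ j ∈ Finset.range k, (q + 1) * q ^ (2 * j) := by
    intro k
    induction k with
    | zero => simp
    | succ k ih =>
      rw [Finset.sum_range_succ _ k, show 2 * (k + 1) = 2 * k + 1 + 1 by ring,
        Finset.sum_range_succ, Finset.sum_range_succ, ih]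
      ring
  have hbij : ∀ x, Function.Bijective (ep x) := by
    intro x
    refine (Fintype.bijective_iff_surjective_and_card _).2 ⟨fun z => ?_, ?_⟩
    · obtain ⟨j, hj, hw⟩ := hreach x z
      obtain ⟨m, f, hm, hpar, hf, h0, hl⟩ := exists_good hw
      obtain ⟨i, rfl⟩ : ∃ i, m = 2 * i + 1 := ⟨m / 2, by omega⟩
      exact ⟨⟨⟨i, by omega⟩, ⟨f, hf, h0⟩⟩, hl⟩
    · rw [hN, hpoly, ← Nat.card_eq_fintype_card, Nat.card_sigma, Finset.sum_range]
      exact Finset.sum_congr rfl fun j _ => card_good hA hdeg x (2 * j.val)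
  -- the walk from `x` to itself is a palindrome
  have hpal : ∀ x (t : T x), ep x t = x → ∀ a b : Fin (2 * t.1.val + 2),
      a.val + b.val = 2 * t.1.val + 1 → t.2.1 a = t.2.1 b := by
    rintro x ⟨j, f, hf, h0⟩ ht a b hab
    have hg : Good A (2 * j.val + 1) (f ∘ Fin.rev) := by
      refine ⟨fun i l h => hA _ _ (hf.1 _ _ ?_), fun i l h e => hf.2 l.rev i.rev ?_ e.symm⟩
      · simp only [Fin.val_rev]; have := l.isLt; omega
      · simp only [Fin.val_rev]; have := l.isLt; omega
    have hg0 : (f ∘ Fin.rev) 0 = x := by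
      rw [Function.comp_apply, Fin.rev_zero]; exact ht
    have e := (hbij x).1 (a₁ := ⟨j, f, hf, h0⟩) (a₂ := ⟨j, f ∘ Fin.rev, hg, hg0⟩) (by
      show f (Fin.last _) = f (Fin.rev (Fin.last _))
      rw [Fin.rev_last, h0]; exact ht)
    have e2 : f = f ∘ Fin.rev :=
      congrArg Subtype.val (eq_of_heq (Sigma.mk.inj_iff.1 e).2)
    dsimp only at hab
    have hb : a.rev = b := Fin.ext (by simp only [Fin.val_rev]; omega)
    calc f a = f a.rev := congrFun e2 a
      _ = f b := by rw [hb]
  let C := Σ x : P, {t : T x // ep x t = x}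
  have hC : Nat.card C = Fintype.card P := by
    rw [Nat.card_sigma, Fintype.card_eq_sum_ones]
    refine Finset.sum_congr rfl fun x _ => ?_
    rw [Nat.card_eq_one_iff_unique]
    obtain ⟨t, ht⟩ := (hbij x).2 x
    exact ⟨⟨fun a b => Subtype.ext ((hbij x).1 (a.2.trans b.2.symm))⟩, ⟨⟨t, ht⟩⟩⟩
  let U := Σ j : Fin k, Σ p : {p // A p p},
    {h : Fin (j.val + 2) → P // Good A (j.val + 1) h ∧ h 0 = p.1 ∧ h 1 = p.1}
  have hU : Nat.card U = Nat.card {p // A p p} * ∑ j ∈ Finset.range k, q ^ j := by
    rw [Nat.card_sigma, Finset.mul_sum, Finset.sum_range]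
    refine Finset.sum_congr rfl fun j _ => ?_
    rw [Nat.card_sigma]
    rw [Finset.sum_congr rfl fun p _ => card_good_loop hA hdeg p.1 p.2 j.val]
    simp [Nat.card_eq_fintype_card]
  -- the middle arc of a closed walk
  have mid : ∀ (x : P) (t : T x), ep x t = x →
      t.2.1 ⟨t.1.val, by omega⟩ = t.2.1 ⟨t.1.val + 1, by omega⟩ :=
    fun x t ht => hpal x t ht _ _ (by simp; omega)
  let half : C → U := fun c =>
    ⟨c.2.1.1,
      ⟨c.2.1.2.1 ⟨c.2.1.1.val, by omega⟩, by
        have h := c.2.1.2.2.1.1 ⟨c.2.1.1.val, by omega⟩ ⟨c.2.1.1.val + 1, by omega⟩ rfl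
        rwa [← mid c.1 c.2.1 c.2.2] at h⟩,
      ⟨fun i => c.2.1.2.1 ⟨c.2.1.1.val + i.val, by omega⟩,
        ⟨fun i l h => c.2.1.2.2.1.1 _ _ (by simp; omega),
          fun i l h => c.2.1.2.2.1.2 _ _ (by simp; omega)⟩,
        by simp, by simp [mid c.1 c.2.1 c.2.2]⟩⟩
  have hhalf : Function.Bijective half := by
    constructor
    · rintro ⟨x, ⟨j, f, hf, h0⟩, ht⟩ ⟨y, ⟨i, g, hg, g0⟩, gt⟩ e
      dsimp only [half] at e
      obtain ⟨rfl, e⟩ := Sigma.mk.inj_iff.1 e
      have e' := (Sigma.mk.inj_iff.1 (eq_of_heq e))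
      have key : ∀ a : Fin (2 * j.val + 2), j.val ≤ a.val → f a = g a := by
        intro a ha
        have hp := e'.1
        have e3 := e'.2
        have h3 : (fun i : Fin (j.val + 2) => f ⟨j.val + i.val, by omega⟩) =
            fun i : Fin (j.val + 2) => g ⟨j.val + i.val, by omega⟩ := by
          have := (Subtype.heq_iff_coe_eq (fun h => by
            have hv := congrArg Subtype.val hp; simp only at hv; simp only [hv])).1 e3
          exact this
        have h4 := congrFun h3 ⟨a.val - j.val, by omega⟩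
        have ea : (⟨j.val + (a.val - j.val), by omega⟩ : Fin (2 * j.val + 2)) = a :=
          Fin.ext (by simp; omega)
        simpa only [ea] using h4
      have all : f = g := by
        funext a
        by_cases ha : j.val ≤ a.val
        · exact key a ha
        · have h1 := hpal x ⟨j, f, hf, h0⟩ ht a a.rev (by simp; omega)
          have h2 := hpal y ⟨j, g, hg, g0⟩ gt a a.rev (by simp; omega)
          have h3 := key a.rev (by simp; omega)
          simp only at h1 h2
          rw [h1, h2, h3]
      subst all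
      cases h0.symm.trans g0
      rfl
    · rintro ⟨j, ⟨p, hp⟩, h, hh, h0, h1⟩
      let f : Fin (2 * j.val + 2) → P := fun a =>
        if a.val ≤ j.val then h ⟨j.val + 1 - a.val, by omega⟩
        else h ⟨a.val - j.val, by omega⟩
      have flo : ∀ a : Fin (2 * j.val + 2), a.val ≤ j.val →
          ∀ b : Fin (j.val + 2), b.val + a.val = j.val + 1 → f a = h b := by
        intro a ha b hb
        simp only [f, if_pos ha]
        exact congrArg h (Fin.ext (by simp; omega))
      have fhi : ∀ a : Fin (2 * j.val + 2), j.val ≤ a.val →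
          ∀ b : Fin (j.val + 2), b.val + j.val = a.val → f a = h b := by
        intro a ha b hb
        by_cases hc : a.val ≤ j.val
        · rw [flo a hc 1 (by simp; omega), h1, ← h0]
          exact congrArg h (Fin.ext (by simp; omega))
        · simp only [f, if_neg hc]
          exact congrArg h (Fin.ext (by simp; omega))
      have hf : Good A (2 * j.val + 1) f := by
        constructor
        · intro a b hab
          by_cases hc : b.val ≤ j.val
          · rw [flo a (by omega) ⟨j.val + 1 - a.val, by omega⟩ (by simp; omega),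
              flo b hc ⟨j.val + 1 - b.val, by omega⟩ (by simp; omega)]
            exact hA _ _ (hh.1 _ _ (by simp; omega))
          · rw [fhi a (by omega) ⟨a.val - j.val, by omega⟩ (by simp; omega),
              fhi b (by omega) ⟨b.val - j.val, by omega⟩ (by simp; omega)]
            exact hh.1 _ _ (by simp; omega)
        · intro a b hab
          by_cases hc : b.val ≤ j.val + 1 ∧ a.val + 1 ≤ j.val
          · by_cases hd : b.val ≤ j.val
            · rw [flo a (by omega) ⟨j.val + 1 - a.val, by omega⟩ (by simp; omega),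
                flo b hd ⟨j.val + 1 - b.val, by omega⟩ (by simp; omega)]
              exact (hh.2 _ _ (by simp; omega)).symm
            · rw [flo a (by omega) ⟨2, by omega⟩ (by simp; omega),
                fhi b (by omega) 1 (by simp; omega), h1, ← h0]
              exact (hh.2 0 ⟨2, by omega⟩ (by simp)).symm
          · rw [fhi a (by omega) ⟨a.val - j.val, by omega⟩ (by simp; omega),
              fhi b (by omega) ⟨b.val - j.val, by omega⟩ (by simp; omega)]
            exact hh.2 _ _ (by simp; omega)
      refine ⟨⟨f 0, ⟨j, f, hf, rfl⟩, ?_⟩, ?_⟩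
      · show f (Fin.last _) = f 0
        rw [fhi (Fin.last _) (by simp; omega) (Fin.last _) (by simp; omega),
          flo 0 (by simp) (Fin.last _) (by simp)]
      · have hm : f ⟨j.val, by omega⟩ = p := by
          rw [fhi _ le_rfl 0 (by simp), h0]
        refine Sigma.ext rfl (heq_of_eq ?_)
        refine Sigma.subtype_ext (Subtype.ext hm) ?_
        funext i
        exact fhi _ (by simp) i (by simp; omega)
  have hsplit : ∀ k, ∑ j ∈ Finset.range (2 * k), q ^ j =
      (q ^ k + 1) * ∑ j ∈ Finset.range k, q ^ j := by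
    intro k
    rw [two_mul, Finset.sum_range_add, add_mul, one_mul, Finset.mul_sum, add_comm]
    simp [pow_add]
  have h := Nat.card_eq_of_bijective half hhalf
  rw [hC, hU, hN, hsplit] at h
  exact (Nat.eq_of_mul_eq_mul_right
    (Finset.sum_pos (fun j _ => pow_pos (by omega) j) ⟨0, by simp; omega⟩) h).symm

end Polarity

open Polarity in
/-- A polarity of a generalised `2k`-gon of order `(q, q)` has `q^k + 1` absolute points. -/
theorem polarity_absolute {P L : Type*} [Fintype P] [Fintype L] (I : P → L → Prop) (q k : ℕ)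
    (hq : 2 ≤ q) (hk : 2 ≤ k) (hP : ∀ p, Nat.card {l // I p l} = q + 1)
    (_hL : ∀ l, Nat.card {p // I p l} = q + 1)
    (hN : Fintype.card P = ∑ j ∈ Finset.range (2 * k), q ^ j)
    (hreach : ∀ p l, IncReach I (k - 1) p l) (δ : P ≃ L)
    (hδ : ∀ x y, I x (δ y) ↔ I y (δ x)) :
    Nat.card {p // I p (δ p)} = q ^ k + 1 := by
  have hwalk : ∀ i p z, IncReach I i p (δ z) → Walk (fun x y => I x (δ y)) (2 * i + 1) p z := by
    intro i
    induction i with
    | zero => exact fun p z h => ⟨p, rfl, h⟩
    | succ i ih =>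
      rintro p z ⟨l', p', h1, h2, h3⟩
      obtain ⟨y, rfl⟩ := δ.surjective l'
      exact walk_cons (A := fun x y => I x (δ y)) h1
        (walk_cons (A := fun x y => I x (δ y)) ((hδ p' y).1 h2) (ih p' z h3))
  refine card_loops (fun x y => I x (δ y)) q k hq (fun x y => (hδ x y).1) (fun x => ?_) hN
    (by omega) fun x z => ⟨k - 1, by omega, hwalk _ x z (hreach x (δ z))⟩
  rw [← hP x]
  exact Nat.card_congr (δ.subtypeEquiv fun y => Iff.rfl)

end Cfsg.Agent.TransLinTwo
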