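import Cfsg.Agent.Lib.Perm.TransLinTwo.WLevel

/-!
# The special spaces above a flag

For `A < B` the subspace `S` of the quotient level lifts to the subspace `liftS H A b`, described
without choices: the points `z` whose class modulo `A` has a small orbit under the stabiliser of
`A` and of the class of `b`.
-/

set_option autoImplicit false
set_option linter.unusedSectionVars false

namespace Cfsg.Agent.TransLinTwo

open Module

variable {V : Type*} [AddCommGroup V] [Module (ZMod 2) V] [Finite V]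

instance finite_quot (A : Submodule (ZMod 2) V) : Finite (V ⧸ A) :=
  Finite.of_surjective _ A.mkQ_surjective

/-- The classes modulo `A` reached from `z` by the stabiliser of `A` and of `b` modulo `A`. -/
def reach (H : Subgroup (V ≃ₗ[ZMod 2] V)) (A : Submodule (ZMod 2) V) (b z : V) : Set V :=
  {z' | ∃ h ∈ H, A.map h.toLinearMap = A ∧ h b + b ∈ A ∧ h z + z' ∈ A}

/-- The points with a small reach. -/
def liftSet (H : Subgroup (V ≃ₗ[ZMod 2] V)) (A : Submodule (ZMod 2) V) (b : V) : Set V :=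
  {z | 2 * Nat.card (reach H A b z) < Nat.card V}

/-- The lifted subspace. -/
def liftS (H : Subgroup (V ≃ₗ[ZMod 2] V)) (A : Submodule (ZMod 2) V) (b : V) :
    Submodule (ZMod 2) V :=
  Submodule.span (ZMod 2) (liftSet H A b)

/-- Independence of the lifted subspaces from the hyperplane. -/
def LiftIndep (H : Subgroup (V ≃ₗ[ZMod 2] V)) (i : ℕ) : Prop :=
  ∀ A A' B : Submodule (ZMod 2) V, finrank (ZMod 2) A + 1 = i → finrank (ZMod 2) A' + 1 = i →
    finrank (ZMod 2) B = i → A ≤ B → A' ≤ B → ∀ b b' : V, b ∈ B → b ∉ A → b' ∈ B → b' ∉ A' →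
      liftS H A b = liftS H A' b'

/-- The quotient structure of an `(i-1)`-space. -/
noncomputable def levelAF {H : Subgroup (V ≃ₗ[ZMod 2] V)} {i : ℕ} (hT : TupleTrans H i)
    (hi2 : 2 ≤ i) (hi : i < finrank (ZMod 2) V) (A : Submodule (ZMod 2) V)
    (hA : finrank (ZMod 2) A + 1 = i) :
    AF (quotStab H A) (V ⧸ A) (Dual (ZMod 2) (V ⧸ A)) :=
  afOfAntiflag (quotStab H A)
    (hT.antiflagTrans (by omega) A (fun h => by rw [h, finrank_bot] at hA; omega) (by omega))
    (by
      have := A.finrank_quotient_add_finrank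
      omega)

section Props

variable {H : Subgroup (V ≃ₗ[ZMod 2] V)} {i : ℕ} (hT : TupleTrans H i) (hi2 : 2 ≤ i)
  (hi : i < finrank (ZMod 2) V) {A : Submodule (ZMod 2) V} (hA : finrank (ZMod 2) A + 1 = i)

include hT hi2 hi hA

theorem finrank_quot_level : finrank (ZMod 2) (V ⧸ A) + i = finrank (ZMod 2) V + 1 := by
  have := A.finrank_quotient_add_finrank
  omega

/-- The lifted subspace is the preimage of `S`. -/
theorem liftS_eq {b : V} (hb : b ∉ A) :
    liftS H A b = ((levelAF hT hi2 hi A hA).S (A.mkQ b)).comap A.mkQ := by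
  classical
  set F := levelAF hT hi2 hi A hA
  haveI : Fintype (V ⧸ A) := Fintype.ofFinite _
  have hmk : ∀ x y : V, A.mkQ x = A.mkQ y ↔ x + y ∈ A := fun x y => by
    rw [Submodule.mkQ_apply, Submodule.mkQ_apply, Submodule.Quotient.eq, sub_eq_add']
  have hb0 : A.mkQ b ≠ 0 := fun h => hb ((Submodule.Quotient.mk_eq_zero A).1 h)
  have hS2 := F.two_mul_card_S_le hb0
  have key : liftSet H A b = (((F.S (A.mkQ b)).comap A.mkQ : Submodule (ZMod 2) V) : Set V) := by
    ext z
    -- the reach is the preimage of an orbit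
    let O : Set (V ⧸ A) := {q | ∃ g : quotStab H A, F.px g (A.mkQ b) = A.mkQ b ∧ F.px g (A.mkQ z) = q}
    have hre : reach H A b z = A.mkQ ⁻¹' O := by
      ext z'
      constructor
      · rintro ⟨h, hh, hAh, hhb, hhz⟩
        refine ⟨⟨Submodule.Quotient.equiv A A h hAh, h, hh, hAh, fun x => rfl⟩, ?_, ?_⟩
        · show A.mkQ (h b) = A.mkQ b
          exact (hmk _ _).2 hhb
        · show A.mkQ (h z) = A.mkQ z'
          exact (hmk _ _).2 hhz
      · rintro ⟨⟨g, h, hh, hAh, hx⟩, hgb, hgz⟩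
        change g (A.mkQ b) = A.mkQ b at hgb
        change g (A.mkQ z) = A.mkQ z' at hgz
        rw [hx] at hgb hgz
        exact ⟨h, hh, hAh, (hmk _ _).1 hgb, (hmk _ _).1 hgz⟩
    have hcard : Nat.card (reach H A b z) = Nat.card A * Nat.card O := by
      rw [hre]
      have h1 := Submodule.card_eq_card_quotient_mul_card A
      exact (Nat.card_congr (QuotientAddGroup.preimageMkEquivAddSubgroupProdSet A.toAddSubgroup O)).trans
        (Nat.card_prod _ _)
    have hV : Nat.card V = Nat.card A * Nat.card (V ⧸ A) := by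
      rw [Submodule.card_eq_card_quotient_mul_card A, mul_comm]
    show 2 * Nat.card (reach H A b z) < Nat.card V ↔ A.mkQ z ∈ F.S (A.mkQ b)
    rw [hcard, hV, mul_left_comm, Nat.mul_lt_mul_left Nat.card_pos]
    by_cases hz : A.mkQ z ∈ F.S (A.mkQ b)
    · -- a small orbit
      refine iff_of_true ?_ hz
      have hsub : O ⊂ ((F.S (A.mkQ b) : Submodule (ZMod 2) (V ⧸ A)) : Set (V ⧸ A)) := by
        refine (Set.ssubset_iff_subset_ne.2 ⟨?_, ?_⟩)
        · rintro q ⟨g, hgb, rfl⟩
          have := (F.S_map (g := g)).2 hz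
          rwa [hgb] at this
        · intro he
          obtain ⟨g, hgb, hg0⟩ : (0 : V ⧸ A) ∈ O := by rw [he]; exact zero_mem _
          obtain ⟨g', hgb', hgb''⟩ : A.mkQ b ∈ O := by rw [he]; exact F.self_mem_S _
          have hz0 : A.mkQ z = 0 := (F.px g).map_eq_zero_iff.1 hg0
          rw [hz0, map_zero] at hgb''
          exact hb0 hgb''.symm
      have h1 := Set.ncard_lt_ncard hsub (Set.toFinite _)
      rw [← Nat.card_coe_set_eq, ← Nat.card_coe_set_eq] at h1
      have h2 : Nat.card ((F.S (A.mkQ b) : Submodule (ZMod 2) (V ⧸ A)) : Set (V ⧸ A)) =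
        Nat.card (F.S (A.mkQ b)) := rfl
      omega
    · refine iff_of_false (not_lt.2 ?_) hz
      have hsub : ((F.S (A.mkQ b) : Submodule (ZMod 2) (V ⧸ A)) : Set (V ⧸ A))ᶜ ⊆ O := by
        intro q hq
        obtain ⟨g, hgb, hgq⟩ := F.off_S_trans hz hq
        exact ⟨g, hgb, hgq⟩
      have h1 := Set.ncard_le_ncard hsub (Set.toFinite _)
      rw [Set.ncard_compl, ← Nat.card_coe_set_eq, ← Nat.card_coe_set_eq] at h1
      have h2 : Nat.card ((F.S (A.mkQ b) : Submodule (ZMod 2) (V ⧸ A)) : Set (V ⧸ A)) =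
        Nat.card (F.S (A.mkQ b)) := rfl
      omega
  rw [liftS, key, Submodule.span_eq]

theorem le_liftS {b : V} (hb : b ∉ A) : A ≤ liftS H A b := by
  rw [liftS_eq hT hi2 hi hA hb]
  intro a ha
  rw [Submodule.mem_comap, show A.mkQ a = 0 from (Submodule.Quotient.mk_eq_zero A).2 ha]
  exact zero_mem _

theorem self_mem_liftS {b : V} (hb : b ∉ A) : b ∈ liftS H A b := by
  rw [liftS_eq hT hi2 hi hA hb, Submodule.mem_comap]
  exact (levelAF hT hi2 hi A hA).self_mem_S _

theorem mem_liftS_symm {b c : V} (hb : b ∉ A) (hc : c ∉ A) (h : c ∈ liftS H A b) :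
    b ∈ liftS H A c := by
  rw [liftS_eq hT hi2 hi hA hb, Submodule.mem_comap] at h
  rw [liftS_eq hT hi2 hi hA hc, Submodule.mem_comap]
  exact (levelAF hT hi2 hi A hA).S_symm (fun h0 => hb ((Submodule.Quotient.mk_eq_zero A).1 h0)) h

theorem liftS_ne_top {b : V} (hb : b ∉ A) : liftS H A b ≠ ⊤ := by
  obtain ⟨q, hq⟩ := (levelAF hT hi2 hi A hA).exists_not_mem_S
    (fun h0 : A.mkQ b = 0 => hb ((Submodule.Quotient.mk_eq_zero A).1 h0))
  obtain ⟨z, rfl⟩ := A.mkQ_surjective q
  intro h
  refine hq (Submodule.mem_comap.1 ?_)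
  rw [← liftS_eq hT hi2 hi hA hb, h]
  trivial

theorem finrank_liftS_add {b : V} (hb : b ∉ A) :
    finrank (ZMod 2) (liftS H A b) + finrank (ZMod 2) ((levelAF hT hi2 hi A hA).E (A.mkQ b)) =
      finrank (ZMod 2) V := by
  rw [liftS_eq hT hi2 hi hA hb]
  set F := levelAF hT hi2 hi A hA
  have h1 := F.finrank_S_add_E (A.mkQ b)
  have h2 := A.finrank_quotient_add_finrank
  let f : ↥((F.S (A.mkQ b)).comap A.mkQ) →ₗ[ZMod 2] V ⧸ A :=
    A.mkQ.comp ((F.S (A.mkQ b)).comap A.mkQ).subtype
  have h3 := LinearMap.finrank_range_add_finrank_ker f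
  have hr : LinearMap.range f = F.S (A.mkQ b) := by
    rw [LinearMap.range_comp, Submodule.range_subtype,
      Submodule.map_comap_eq_of_surjective A.mkQ_surjective]
  have hk : finrank (ZMod 2) (LinearMap.ker f) = finrank (ZMod 2) A := by
    have hle : A ≤ (F.S (A.mkQ b)).comap A.mkQ := fun a ha => by
      rw [Submodule.mem_comap, show A.mkQ a = 0 from (Submodule.Quotient.mk_eq_zero A).2 ha]
      exact zero_mem _
    rw [show LinearMap.ker f = A.comap ((F.S (A.mkQ b)).comap A.mkQ).subtype by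
      rw [LinearMap.ker_comp, Submodule.ker_mkQ]]
    exact (Submodule.comapSubtypeEquivOfLe hle).finrank_eq
  rw [hr, hk] at h3
  omega

end Props

/-- Transport by an element of the group. -/
theorem liftS_map {H : Subgroup (V ≃ₗ[ZMod 2] V)} {g : V ≃ₗ[ZMod 2] V} (hg : g ∈ H)
    (A : Submodule (ZMod 2) V) (b : V) :
    (liftS H A b).map g.toLinearMap = liftS H (A.map g.toLinearMap) (g b) := by
  have hre : ∀ (k : V ≃ₗ[ZMod 2] V), k ∈ H → ∀ (A : Submodule (ZMod 2) V) (b z : V),
      k '' reach H A b z ⊆ reach H (A.map k.toLinearMap) (k b) (k z) := by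
    rintro k hk A b z _ ⟨z', ⟨h, hh, hA, hb, hz⟩, rfl⟩
    refine ⟨k * h * k⁻¹, H.mul_mem (H.mul_mem hk hh) (H.inv_mem hk), ?_, ?_, ?_⟩
    · rw [← Submodule.map_comp]
      conv_rhs => rw [← hA, ← Submodule.map_comp]
      congr 1
      exact LinearMap.ext fun x => congrArg (fun y => k (h y)) (k.symm_apply_apply x)
    · refine ⟨h b + b, hb, ?_⟩
      show k (h b + b) = k (h (k.symm (k b))) + k b
      rw [k.symm_apply_apply, map_add]
    · refine ⟨h z + z', hz, ?_⟩
      show k (h z + z') = k (h (k.symm (k z))) + k z'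
      rw [k.symm_apply_apply, map_add]
  have hcard : ∀ z, Nat.card (reach H (A.map g.toLinearMap) (g b) (g z)) =
      Nat.card (reach H A b z) := by
    intro z
    refine le_antisymm ?_ ?_
    · have h1 := hre g⁻¹ (H.inv_mem hg) (A.map g.toLinearMap) (g b) (g z)
      have e1 : (A.map g.toLinearMap).map (g⁻¹ : V ≃ₗ[ZMod 2] V).toLinearMap = A := by
        rw [← Submodule.map_comp]
        conv_rhs => rw [← Submodule.map_id A]
        congr 1
        exact LinearMap.ext fun x => g.symm_apply_apply x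
      have e2 : (g⁻¹ : V ≃ₗ[ZMod 2] V) (g b) = b := g.symm_apply_apply b
      have e3 : (g⁻¹ : V ≃ₗ[ZMod 2] V) (g z) = z := g.symm_apply_apply z
      rw [e1, e2, e3] at h1
      have h2 := Set.ncard_le_ncard h1 (Set.toFinite _)
      rw [Set.ncard_image_of_injective _ (g⁻¹ : V ≃ₗ[ZMod 2] V).injective] at h2
      rwa [Nat.card_coe_set_eq, Nat.card_coe_set_eq]
    · have h2 := Set.ncard_le_ncard (hre g hg A b z) (Set.toFinite _)
      rw [Set.ncard_image_of_injective _ g.injective] at h2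
      rwa [Nat.card_coe_set_eq, Nat.card_coe_set_eq]
  rw [liftS, liftS, Submodule.map_span]
  congr 1
  ext w
  constructor
  · rintro ⟨z, hz, rfl⟩
    show 2 * Nat.card (reach H (A.map g.toLinearMap) (g b) (g z)) < _
    rw [hcard]
    exact hz
  · intro hw
    refine ⟨g.symm w, ?_, g.apply_symm_apply w⟩
    show 2 * Nat.card (reach H A b (g.symm w)) < _
    rw [← hcard, g.apply_symm_apply]
    exact hw

end Cfsg.Agent.TransLinTwo
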