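import Cfsg.Agent.Lib.Perm.TransLinTwo.Count
import Cfsg.Agent.Lib.Perm.TransLinTwo.YKill

/-!
The classes of an antiflag transitive group are not much smaller than the flag subspaces.

If the class `T x` has dimension `h` and `E x` has dimension `e > 2 h`, the points sharing a
functional with `x` form, with `0`, a subspace; these subspaces are the parts of a configuration as
excluded in `YKill`.
-/

set_option autoImplicit false
set_option linter.unusedSectionVars false
set_option linter.unusedVariables false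
set_option linter.style.haveILetI false

namespace Cfsg.Agent.TransLinTwo

open Module

namespace AF

variable {G X Y : Type*} [Group G] [Finite G] [AddCommGroup X] [Module (ZMod 2) X] [Finite X]
  [AddCommGroup Y] [Module (ZMod 2) Y] [Finite Y] (A : AF G X Y)

theorem exists_ne_inf {U V W : Submodule (ZMod 2) Y} (hU : U ≤ W) (hV : V ≤ W)
    (h : finrank (ZMod 2) W < finrank (ZMod 2) U + finrank (ZMod 2) V) :
    ∃ y, y ≠ 0 ∧ y ∈ U ∧ y ∈ V := by
  have hne : U ⊓ V ≠ ⊥ := by
    intro e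
    have h1 := Submodule.finrank_sup_add_finrank_inf_eq U V
    have h2 := Submodule.finrank_mono (sup_le hU hV)
    rw [e, finrank_bot] at h1
    omega
  obtain ⟨y, hy, hy0⟩ := Submodule.exists_mem_ne_zero_of_ne_bot hne
  exact ⟨y, hy0, hy.1, hy.2⟩

variable (hspan : ∀ x w : X, x ≠ 0 → w ∉ A.S x →
  finrank (ZMod 2) ↥(A.S x ⊓ A.S w) + finrank (ZMod 2) (A.E x) =
    finrank (ZMod 2) (A.S x) ∧ A.E x ⊓ A.E w = ⊥)
variable (e h : ℕ) (he : ∀ x : X, x ≠ 0 → finrank (ZMod 2) (A.E x) = e)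
variable (hh : ∀ x : X, x ≠ 0 → finrank (ZMod 2) (A.T x) = h) (h2 : 2 * h < e)

/-- The raw part of `x`. -/
def partSet (x : X) : Set X := {u | u = 0 ∨ u ∈ A.T x ∨ u ∈ A.Kset x}

include hspan in
theorem mem_partSet_of_R {x u : X} (hx : x ≠ 0) {y : Y} (hy : y ≠ 0) (hyx : y ∈ A.E x)
    (hu : u ∈ A.R y) : u ∈ A.partSet x := by
  by_cases hu0 : u = 0
  · exact Or.inl hu0
  by_cases huT : u ∈ A.T x
  · exact Or.inr (Or.inl huT)
  refine Or.inr (Or.inr ⟨hu0, huT, A.R_le_S hspan hx hy hyx hu, fun hbot => hy ?_⟩)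
  have : y ∈ A.E x ⊓ A.E u := ⟨hyx, (A.mem_R_iff_mem_E hu0 hy).1 hu⟩
  rwa [hbot, Submodule.mem_bot] at this

include hspan he hh h2

theorem e_le_inf {x u : X} (hx : x ≠ 0) (hu : u ∈ A.partSet x) (hu0 : u ≠ 0) :
    e ≤ finrank (ZMod 2) ↥(A.E x ⊓ A.E u) + h := by
  rcases hu with hu | hu | hu
  · exact absurd hu hu0
  · rw [A.E_eq_of_mem_T hx hu hu0, inf_idem, he x hx]
    exact Nat.le_add_right _ _
  · have h1 := (A.level_structure hspan hx (by rw [hh x hx, he x hx]; omega)).1 u hu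
    rw [hh x hx, he x hx] at h1
    omega

theorem exists_common {x u v : X} (hx : x ≠ 0) (hu : u ∈ A.partSet x) (hu0 : u ≠ 0)
    (hv : v ∈ A.partSet x) (hv0 : v ≠ 0) :
    ∃ y, y ≠ 0 ∧ y ∈ A.E x ∧ u ∈ A.R y ∧ v ∈ A.R y := by
  have h1 := A.e_le_inf hspan e h he hh h2 hx hu hu0
  have h3 := A.e_le_inf hspan e h he hh h2 hx hv hv0
  obtain ⟨y, hy, hy1, hy2⟩ := exists_ne_inf (U := A.E x ⊓ A.E u) (V := A.E x ⊓ A.E v)
    inf_le_left inf_le_left (by rw [he x hx]; omega)
  exact ⟨y, hy, hy1.1, (A.mem_R_iff_mem_E hu0 hy).2 hy1.2, (A.mem_R_iff_mem_E hv0 hy).2 hy2.2⟩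

theorem partSet_add {x u v : X} (hx : x ≠ 0) (hu : u ∈ A.partSet x) (hv : v ∈ A.partSet x) :
    u + v ∈ A.partSet x := by
  by_cases hu0 : u = 0
  · rw [hu0, zero_add]; exact hv
  by_cases hv0 : v = 0
  · rw [hv0, add_zero]; exact hu
  obtain ⟨y, hy, hyx, hyu, hyv⟩ := A.exists_common hspan e h he hh h2 hx hu hu0 hv hv0
  exact A.mem_partSet_of_R hspan hx hy hyx (add_mem hyu hyv)

open scoped Classical in
/-- The part of a point. -/
noncomputable def part (x : X) : Submodule (ZMod 2) X :=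
  if hx : x ≠ 0 then
    { carrier := A.partSet x
      zero_mem' := Or.inl rfl
      add_mem' := fun hu hv => A.partSet_add hspan e h he hh h2 hx hu hv
      smul_mem' := fun c u hu => by
        rcases zmod_two_cases c with rfl | rfl
        · rw [zero_smul]; exact Or.inl rfl
        · rwa [one_smul] }
  else ⊥

theorem mem_part {x u : X} (hx : x ≠ 0) :
    u ∈ A.part hspan e h he hh h2 x ↔ u ∈ A.partSet x := by
  rw [part, dif_pos hx]
  rfl

theorem self_mem_partSet {x : X} (hx : x ≠ 0) : x ∈ A.partSet x := Or.inr (Or.inl (A.self_mem_T hx))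

theorem finrank_part {x : X} (hx : x ≠ 0) :
    finrank (ZMod 2) (A.part hspan e h he hh h2 x) = e + h := by
  classical
  haveI : Fintype X := Fintype.ofFinite X
  have hK := (A.level_structure hspan hx (by rw [hh x hx, he x hx]; omega)).2.1
  rw [hh x hx, he x hx] at hK
  have hKc : (Finset.univ.filter fun u => u ∈ A.Kset x).card = 2 ^ h * (2 ^ e - 1) := by
    rw [← hK, Nat.card_eq_fintype_card, ← Fintype.card_subtype]
  have hTc : (Finset.univ.filter fun u => u ∈ A.T x).card = 2 ^ h := by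
    rw [card_filter_mem, hh x hx]
  have hs : (Finset.univ.filter fun u => u ∈ A.part hspan e h he hh h2 x) =
      (Finset.univ.filter fun u => u ∈ A.T x) ∪ (Finset.univ.filter fun u => u ∈ A.Kset x) := by
    ext u
    simp only [Finset.mem_union, Finset.mem_filter, Finset.mem_univ, true_and,
      A.mem_part hspan e h he hh h2 hx]
    exact ⟨fun hu => hu.elim (fun h0 => Or.inl (h0 ▸ zero_mem _)) id, Or.inr⟩
  have hd : Disjoint (Finset.univ.filter fun u => u ∈ A.T x)
      (Finset.univ.filter fun u => u ∈ A.Kset x) := Finset.disjoint_left.2 fun u h1 h3 => by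
    simp only [Finset.mem_filter, Finset.mem_univ, true_and] at h1 h3
    exact h3.2.1 h1
  have := card_filter_mem (A.part hspan e h he hh h2 x)
  rw [hs, Finset.card_union_of_disjoint hd, hKc, hTc] at this
  refine (Nat.pow_right_injective le_rfl (show 2 ^ (e + h) =
    2 ^ finrank (ZMod 2) (A.part hspan e h he hh h2 x) from ?_)).symm
  rw [← this, pow_add, Nat.mul_sub, mul_one, mul_comm]
  have h4 : 2 ^ h ≤ 2 ^ h * 2 ^ e := Nat.le_mul_of_pos_right _ (by positivity)
  omega

theorem part_eq {x u : X} (hx : x ≠ 0) (hu0 : u ≠ 0) (hu : u ∈ A.part hspan e h he hh h2 x) :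
    A.part hspan e h he hh h2 u = A.part hspan e h he hh h2 x := by
  symm
  refine Submodule.eq_of_le_of_finrank_eq (fun v hv => ?_)
    ((A.finrank_part hspan e h he hh h2 hx).trans (A.finrank_part hspan e h he hh h2 hu0).symm)
  by_cases hv0 : v = 0
  · rw [hv0]; exact zero_mem _
  rw [A.mem_part hspan e h he hh h2 hx] at hu hv
  obtain ⟨y, hy, -, hyu, hyv⟩ := A.exists_common hspan e h he hh h2 hx hu hu0 hv hv0
  exact (A.mem_part hspan e h he hh h2 hu0).2
    (A.mem_partSet_of_R hspan hu0 hy ((A.mem_R_iff_mem_E hu0 hy).1 hyu) hyv)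

/-- The radical of a part. -/
noncomputable def radical (x : X) : Submodule (ZMod 2) X where
  carrier := {z | ∀ u ∈ A.part hspan e h he hh h2 x, u ≠ 0 → z ∈ A.S u}
  zero_mem' := fun u _ _ => zero_mem _
  add_mem' := fun hz hw u hu hu0 => add_mem (hz u hu hu0) (hw u hu hu0)
  smul_mem' := fun c z hz u hu hu0 => Submodule.smul_mem _ c (hz u hu hu0)

theorem part_le_S {x : X} (hx : x ≠ 0) : A.part hspan e h he hh h2 x ≤ A.S x := by
  intro u hu
  rcases (A.mem_part hspan e h he hh h2 hx).1 hu with rfl | hu | hu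
  · exact zero_mem _
  · exact A.T_le_S hx hu
  · exact hu.2.2.1

theorem T_le_part {x : X} (hx : x ≠ 0) : A.T x ≤ A.part hspan e h he hh h2 x :=
  fun u hu => (A.mem_part hspan e h he hh h2 hx).2 (Or.inr (Or.inl hu))

/-- The functionals seen by a part form a subspace of the same dimension. -/
theorem exists_functionals {x : X} (hx : x ≠ 0) :
    ∃ F : Submodule (ZMod 2) Y, finrank (ZMod 2) F = e + h ∧
      (∀ u ∈ A.part hspan e h he hh h2 x, u ≠ 0 → A.E u ≤ F) ∧
      ∀ y ∈ F, y ≠ 0 → ∃ u ∈ A.part hspan e h he hh h2 x, u ≠ 0 ∧ y ∈ A.E u := by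
  classical
  haveI : Fintype X := Fintype.ofFinite X
  haveI : Fintype Y := Fintype.ofFinite Y
  set P := A.part hspan e h he hh h2 x with hP
  have hRle : ∀ u ∈ P, u ≠ 0 → ∀ y, y ≠ 0 → y ∈ A.E u → A.R y ≤ P := by
    intro u hu hu0 y hy hyu v hv
    rw [hP, ← A.part_eq hspan e h he hh h2 hx hu0 hu]
    exact (A.mem_part hspan e h he hh h2 hu0).2 (A.mem_partSet_of_R hspan hu0 hy hyu hv)
  have hrk : finrank (ZMod 2) P = e + h := A.finrank_part hspan e h he hh h2 hx
  have hR : ∀ y : Y, y ≠ 0 → finrank (ZMod 2) (A.R y) = e :=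
    fun y hy => (A.finrank_R_eq_E hx hy).trans (he x hx)
  let F : Submodule (ZMod 2) Y :=
    { carrier := {y | y = 0 ∨ ∃ u ∈ P, u ≠ 0 ∧ y ∈ A.E u}
      zero_mem' := Or.inl rfl
      add_mem' := by
        intro y z hy hz
        by_cases hy0 : y = 0
        · rw [hy0, zero_add]; exact hz
        by_cases hz0 : z = 0
        · rw [hz0, add_zero]; exact hy
        obtain ⟨u, hu, hu0, hyu⟩ := hy.resolve_left hy0
        obtain ⟨v, hv, hv0, hzv⟩ := hz.resolve_left hz0
        have hne : A.R y ⊓ A.R z ≠ ⊥ := by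
          intro hbot
          have h1 := Submodule.finrank_sup_add_finrank_inf_eq (A.R y) (A.R z)
          have h3 := Submodule.finrank_mono
            (sup_le (hRle u hu hu0 y hy0 hyu) (hRle v hv hv0 z hz0 hzv))
          rw [hbot, finrank_bot, hR y hy0, hR z hz0] at h1
          omega
        obtain ⟨w, hw, hw0⟩ := Submodule.exists_mem_ne_zero_of_ne_bot hne
        exact Or.inr ⟨w, hRle u hu hu0 y hy0 hyu hw.1, hw0,
          add_mem ((A.mem_R_iff_mem_E hw0 hy0).1 hw.1) ((A.mem_R_iff_mem_E hw0 hz0).1 hw.2)⟩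
      smul_mem' := fun c y hy => by
        rcases zmod_two_cases c with rfl | rfl
        · rw [zero_smul]; exact Or.inl rfl
        · rwa [one_smul] }
  refine ⟨F, ?_, fun u hu hu0 y hy => Or.inr ⟨u, hu, hu0, hy⟩, fun y hy hy0 => hy.resolve_left hy0⟩
  let Pf : Finset X := (Finset.univ.filter fun u => u ∈ P).erase 0
  let Ff : Finset Y := (Finset.univ.filter fun y => y ∈ F).erase 0
  have hPc : Pf.card = 2 ^ (e + h) - 1 := by
    rw [Finset.card_erase_of_mem (by simp), card_filter_mem, hrk]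
  have hFc : Ff.card = 2 ^ finrank (ZMod 2) F - 1 := by
    rw [Finset.card_erase_of_mem (by simp), card_filter_mem]
  have hc := Finset.sum_card_bipartiteAbove_eq_sum_card_bipartiteBelow (s := Pf) (t := Ff)
    (fun u y => y ∈ A.E u)
  have h1 : ∀ u ∈ Pf, (Ff.bipartiteAbove (fun u y => y ∈ A.E u) u).card = 2 ^ e - 1 := by
    intro u hu
    simp only [Pf, Finset.mem_erase, Finset.mem_filter, Finset.mem_univ, true_and] at hu
    have hs : Ff.bipartiteAbove (fun u y => y ∈ A.E u) u =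
        (Finset.univ.filter fun y => y ∈ A.E u).erase 0 := by
      ext y
      simp only [Ff, Finset.mem_bipartiteAbove, Finset.mem_erase, Finset.mem_filter,
        Finset.mem_univ, true_and]
      exact ⟨fun hy => ⟨hy.1.1, hy.2⟩, fun hy => ⟨⟨hy.1, Or.inr ⟨u, hu.2, hu.1, hy.2⟩⟩, hy.2⟩⟩
    rw [hs, Finset.card_erase_of_mem (by simp), card_filter_mem, he u hu.1]
  have h3 : ∀ y ∈ Ff, (Pf.bipartiteBelow (fun u y => y ∈ A.E u) y).card = 2 ^ e - 1 := by
    intro y hy
    simp only [Ff, Finset.mem_erase, Finset.mem_filter, Finset.mem_univ, true_and] at hy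
    obtain ⟨u, hu, hu0, hyu⟩ := hy.2.resolve_left hy.1
    have hs : Pf.bipartiteBelow (fun u y => y ∈ A.E u) y =
        (Finset.univ.filter fun v => v ∈ A.R y).erase 0 := by
      ext v
      simp only [Pf, Finset.mem_bipartiteBelow, Finset.mem_erase, Finset.mem_filter,
        Finset.mem_univ, true_and]
      exact ⟨fun hv => ⟨hv.1.1, (A.mem_R_iff_mem_E hv.1.1 hy.1).2 hv.2⟩,
        fun hv => ⟨⟨hv.1, hRle u hu hu0 y hy.1 hyu hv.2⟩, (A.mem_R_iff_mem_E hv.1 hy.1).1 hv.2⟩⟩
    rw [hs, Finset.card_erase_of_mem (by simp), card_filter_mem, hR y hy.1]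
  rw [Finset.sum_congr rfl h1, Finset.sum_congr rfl h3, Finset.sum_const, Finset.sum_const,
    smul_eq_mul, smul_eq_mul, hPc, hFc] at hc
  have h5 := Nat.eq_of_mul_eq_mul_right (by
    have := Nat.one_lt_two_pow (show e ≠ 0 by omega)
    omega) hc
  have h6 := Nat.one_le_two_pow (n := finrank (ZMod 2) F)
  have h7 := Nat.one_le_two_pow (n := e + h)
  exact Nat.pow_right_injective le_rfl
    (show 2 ^ finrank (ZMod 2) F = 2 ^ (e + h) by omega)

theorem finrank_radical {x : X} (hx : x ≠ 0) :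
    finrank (ZMod 2) (A.radical hspan e h he hh h2 x) + (e + h) = finrank (ZMod 2) X := by
  obtain ⟨F, hF, hle, hex⟩ := A.exists_functionals hspan e h he hh h2 hx
  have hZ : A.radical hspan e h he hh h2 x = A.swap.perp F := by
    ext z
    constructor
    · intro hz y hy
      change A.b z y = 0
      by_cases hy0 : y = 0
      · rw [hy0, map_zero]
      obtain ⟨u, hu, hu0, hyu⟩ := hex y hy hy0
      exact hyu z (hz u hu hu0)
    · intro hz u hu hu0
      exact A.mem_of_perp fun y hy => hz y (hle u hu hu0 hy)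
  have h1 := A.swap.finrank_add_perp F
  have hXY : finrank (ZMod 2) Y = finrank (ZMod 2) X := by
    rw [LinearEquiv.finrank_eq (LinearEquiv.ofBijective A.b.flip A.flip_bijective),
      Subspace.dual_finrank_eq]
  rw [← hZ, hF, hXY] at h1
  omega

theorem line_le {x y z : X} (hx : x ≠ 0) (hy : y ≠ 0) (hz : z ≠ 0)
    (hzl : z ∈ A.T x ⊔ A.T y) : A.E x ⊓ A.E y ≤ A.E z := by
  intro φ hφ
  by_cases hφ0 : φ = 0
  · rw [hφ0]; exact zero_mem _
  exact (A.mem_R_iff_mem_E hz hφ0).1 (sup_le (A.T_le_R hx hφ0 hφ.1) (A.T_le_R hy hφ0 hφ.2) hzl)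

/-- The lines of a part are closed. -/
theorem line_closed' {x y z : X} (hx : x ≠ 0) (hy : y ≠ 0) (hz : z ≠ 0)
    (hyx : y ∈ A.part hspan e h he hh h2 x) (hzl : z ∈ A.T x ⊔ A.T y) :
    A.T z ≤ A.T x ⊔ A.T y := by
  classical
  haveI : Fintype X := Fintype.ofFinite X
  haveI : Fintype Y := Fintype.ofFinite Y
  by_cases hyT : y ∈ A.T x
  · rw [A.T_eq hx hyT hy, sup_idem] at hzl ⊢
    exact le_of_eq (A.T_eq hx hzl hz)
  obtain ⟨F, hF, hle, -⟩ := A.exists_functionals hspan e h he hh h2 hx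
  set I := A.E x ⊓ A.E y with hI
  have hlev := fun u (hu : u ≠ 0) =>
    A.level_structure hspan hu (show finrank (ZMod 2) (A.T u) < finrank (ZMod 2) (A.E u) by
      rw [hh u hu, he u hu]; omega)
  have hK : ∀ u v, u ≠ 0 → v ≠ 0 → v ∉ A.T u → v ∈ A.part hspan e h he hh h2 u →
      finrank (ZMod 2) ↥(A.E u ⊓ A.E v) + h = e := by
    intro u v hu hv hvT hv'
    have h1 := (hlev u hu).1 v
      ((((A.mem_part hspan e h he hh h2 hu).1 hv').resolve_left hv).resolve_left hvT)
    rwa [hh u hu, he u hu] at h1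
  have hIr : finrank (ZMod 2) I + h = e := hK x y hx hy hyT hyx
  have hIne : I ≠ ⊥ := by
    intro h0
    rw [h0, finrank_bot] at hIr
    omega
  obtain ⟨φ₀, hφ₀, hφ₀0⟩ := Submodule.exists_mem_ne_zero_of_ne_bot hIne
  -- the points whose functionals contain the meet
  let L : Submodule (ZMod 2) X :=
    { carrier := {c | ∀ φ ∈ I, φ ≠ 0 → c ∈ A.R φ}
      zero_mem' := fun φ _ _ => zero_mem _
      add_mem' := fun hc hd φ hφ h0 => add_mem (hc φ hφ h0) (hd φ hφ h0)
      smul_mem' := fun c u hu φ hφ h0 => Submodule.smul_mem _ c (hu φ hφ h0) }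
  have hLP : ∀ c ∈ L, c ∈ A.part hspan e h he hh h2 x := fun c hc =>
    (A.mem_part hspan e h he hh h2 hx).2
      (A.mem_partSet_of_R hspan hx hφ₀0 hφ₀.1 (hc φ₀ hφ₀ hφ₀0))
  have hLE : ∀ c ∈ L, c ≠ 0 → I ≤ A.E c := fun c hc hc0 φ hφ => by
    by_cases hφ0 : φ = 0
    · rw [hφ0]; exact zero_mem _
    · exact (A.mem_R_iff_mem_E hc0 hφ0).1 (hc φ hφ hφ0)
  have hsub : A.T x ⊔ A.T y ≤ L := fun c hc φ hφ h0 =>
    sup_le (A.T_le_R hx h0 hφ.1) (A.T_le_R hy h0 hφ.2) hc
  have hTL : A.T z ≤ L := fun c hc φ hφ h0 =>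
    A.T_le_R hz h0 (hLE z (hsub hzl) hz hφ) hc
  -- it is no larger than the line
  have hLrk : finrank (ZMod 2) L ≤ 2 * h := by
    let Lf : Finset X := (Finset.univ.filter fun c => c ∈ L).erase 0
    let Ff : Finset Y := (Finset.univ.filter fun φ => φ ∈ F) \ (Finset.univ.filter fun φ => φ ∈ I)
    have hIF : I ≤ F := inf_le_left.trans
      (hle x ((A.mem_part hspan e h he hh h2 hx).2 (A.self_mem_partSet hspan e h he hh h2 hx)) hx)
    have hFc : Ff.card = 2 ^ (e + h) - 2 ^ finrank (ZMod 2) I := by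
      rw [Finset.card_sdiff_of_subset, card_filter_mem, card_filter_mem, hF]
      intro φ hφ
      simp only [Finset.mem_filter, Finset.mem_univ, true_and] at hφ ⊢
      exact hIF hφ
    have hc := Finset.sum_card_bipartiteAbove_eq_sum_card_bipartiteBelow (s := Lf) (t := Ff)
      (fun c φ => φ ∈ A.E c)
    have h1 : ∀ c ∈ Lf, 2 ^ e - 2 ^ finrank (ZMod 2) I ≤
        (Ff.bipartiteAbove (fun c φ => φ ∈ A.E c) c).card := by
      intro c hc'
      simp only [Lf, Finset.mem_erase, Finset.mem_filter, Finset.mem_univ, true_and] at hc'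
      have hs : Ff.bipartiteAbove (fun c φ => φ ∈ A.E c) c =
          (Finset.univ.filter fun φ => φ ∈ A.E c) \ (Finset.univ.filter fun φ => φ ∈ I) := by
        ext φ
        simp only [Ff, Finset.mem_bipartiteAbove, Finset.mem_sdiff, Finset.mem_filter,
          Finset.mem_univ, true_and]
        exact ⟨fun hφ => ⟨hφ.2, hφ.1.2⟩,
          fun hφ => ⟨⟨hle c (hLP c hc'.2) hc'.1 hφ.1, hφ.2⟩, hφ.1⟩⟩
      rw [hs, Finset.card_sdiff_of_subset, card_filter_mem, card_filter_mem, he c hc'.1]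
      intro φ hφ
      simp only [Finset.mem_filter, Finset.mem_univ, true_and] at hφ ⊢
      exact hLE c hc'.2 hc'.1 hφ
    have h3 : ∀ φ ∈ Ff, (Lf.bipartiteBelow (fun c φ => φ ∈ A.E c) φ).card ≤ 2 ^ h - 1 := by
      intro φ hφ
      simp only [Ff, Finset.mem_sdiff, Finset.mem_filter, Finset.mem_univ, true_and] at hφ
      rcases (Lf.bipartiteBelow (fun c φ => φ ∈ A.E c) φ).eq_empty_or_nonempty with h0 | ⟨c, hc'⟩
      · rw [h0, Finset.card_empty]; exact Nat.zero_le _
      simp only [Lf, Finset.mem_bipartiteBelow, Finset.mem_erase, Finset.mem_filter,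
        Finset.mem_univ, true_and] at hc'
      obtain ⟨⟨hc0, hcL⟩, hcφ⟩ := hc'
      have hsub' : Lf.bipartiteBelow (fun c φ => φ ∈ A.E c) φ ⊆
          (Finset.univ.filter fun d => d ∈ A.T c).erase 0 := by
        intro d hd
        simp only [Lf, Finset.mem_bipartiteBelow, Finset.mem_erase, Finset.mem_filter,
          Finset.mem_univ, true_and] at hd ⊢
        refine ⟨hd.1.1, ?_⟩
        by_contra hdT
        have hdc : d ∈ A.part hspan e h he hh h2 c := by
          rw [A.part_eq hspan e h he hh h2 hx hc0 (hLP c hcL)]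
          exact hLP d hd.1.2
        have hcd := hK c d hc0 hd.1.1 hdT hdc
        refine hφ.2 ?_
        rw [Submodule.eq_of_le_of_finrank_eq (le_inf (hLE c hcL hc0) (hLE d hd.1.2 hd.1.1))
          (by omega)]
        exact ⟨hcφ, hd.2⟩
      refine (Finset.card_le_card hsub').trans (le_of_eq ?_)
      rw [Finset.card_erase_of_mem (by simp), card_filter_mem, hh c hc0]
    have hLc : Lf.card = 2 ^ finrank (ZMod 2) L - 1 := by
      rw [Finset.card_erase_of_mem (by simp), card_filter_mem]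
    have h4 : Lf.card * (2 ^ e - 2 ^ finrank (ZMod 2) I) ≤ Ff.card * (2 ^ h - 1) := by
      calc Lf.card * (2 ^ e - 2 ^ finrank (ZMod 2) I)
          ≤ ∑ c ∈ Lf, (Ff.bipartiteAbove (fun c φ => φ ∈ A.E c) c).card := by
            rw [← smul_eq_mul]; exact Finset.card_nsmul_le_sum _ _ _ h1
        _ = ∑ φ ∈ Ff, (Lf.bipartiteBelow (fun c φ => φ ∈ A.E c) φ).card := hc
        _ ≤ Ff.card * (2 ^ h - 1) := by
            rw [← smul_eq_mul]; exact Finset.sum_le_card_nsmul _ _ _ h3
    rw [hLc, hFc, ← hIr] at h4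
    set i := finrank (ZMod 2) I
    have e1 : 2 ^ (i + h) - 2 ^ i = 2 ^ i * (2 ^ h - 1) := by
      rw [Nat.mul_sub, mul_one, pow_add]
    have e2 : 2 ^ (i + h + h) - 2 ^ i = 2 ^ i * (2 ^ (2 * h) - 1) := by
      rw [Nat.mul_sub, mul_one, ← pow_add]
      congr 2
      omega
    have hh1 : 1 ≤ h := by
      rw [← hh x hx, Nat.one_le_iff_ne_zero, ne_eq, Submodule.finrank_eq_zero]
      intro h0
      have hm := A.self_mem_T hx
      rw [h0, Submodule.mem_bot] at hm
      exact hx hm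
    rw [e1, e2] at h4
    have h5 : 2 ^ finrank (ZMod 2) L - 1 ≤ 2 ^ (2 * h) - 1 := by
      refine Nat.le_of_mul_le_mul_right (c := 2 ^ i * (2 ^ h - 1)) ?_ (Nat.mul_pos (Nat.two_pow_pos i) ?_)
      · calc _ ≤ 2 ^ i * (2 ^ (2 * h) - 1) * (2 ^ h - 1) := h4
          _ = _ := by ring
      · have := Nat.one_lt_two_pow (show h ≠ 0 by omega)
        omega
    have h6 := Nat.one_le_two_pow (n := finrank (ZMod 2) L)
    have h7 := Nat.one_le_two_pow (n := 2 * h)
    exact (Nat.pow_le_pow_iff_right (show 1 < 2 by norm_num)).1 (by omega)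
  have hbot : A.T x ⊓ A.T y = ⊥ := (Submodule.eq_bot_iff _).2 fun c hc => by_contra fun hc0 => hyT (by
    rw [← A.T_eq hx hc.1 hc0, A.T_eq hy hc.2 hc0]; exact A.self_mem_T hy)
  have h2h := Submodule.finrank_sup_add_finrank_inf_eq (A.T x) (A.T y)
  rw [hbot, finrank_bot, hh x hx, hh y hy] at h2h
  rw [Submodule.eq_of_le_of_finrank_eq hsub (by
    have := Submodule.finrank_mono hsub
    omega)]
  exact hTL

/-- The configuration of the parts. -/
noncomputable def yconf : YConf X (e + h) h where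
  T := A.T
  Y := A.part hspan e h he hh h2
  Z := A.radical hspan e h he hh h2
  S := A.S
  mem_T x hx := A.self_mem_T hx
  T_eq x y hx hy hyx := A.T_eq hx hyx hy
  finrank_T x hx := hh x hx
  T_le_Y x hx := A.T_le_part hspan e h he hh h2 hx
  Y_eq x y hx hy hyx := A.part_eq hspan e h he hh h2 hx hy hyx
  finrank_Y x hx := A.finrank_part hspan e h he hh h2 hx
  Z_eq x y hx hy hyx := by
    ext z
    simp only [radical, Submodule.mem_mk, AddSubmonoid.mem_mk, AddSubsemigroup.mem_mk,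
      Set.mem_setOf_eq, A.part_eq hspan e h he hh h2 hx hy hyx]
  finrank_Z x hx := A.finrank_radical hspan e h he hh h2 hx
  finrank_S x hx := by
    have h1 := A.finrank_radical hspan e h he hh h2 hx
    have h3 := A.finrank_S_add_E x
    rw [he x hx] at h3
    omega
  S_symm x w hx hw hwx := A.S_symm hx hwx
  S_eq x y hx hy hyx := ((A.mem_T hx).1 hyx).resolve_left hy
  Y_le_S x hx := A.part_le_S hspan e h he hh h2 hx
  Z_le_S x hx := fun z hz => hz x
    ((A.mem_part hspan e h he hh h2 hx).2 (A.self_mem_partSet hspan e h he hh h2 hx)) hx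
  mem_Z x w hx hw := hw
  exists_class x w hx hw := by
    obtain ⟨u, hu, hu0, hwu⟩ : ∃ u ∈ A.part hspan e h he hh h2 x, u ≠ 0 ∧ w ∉ A.S u := by
      by_contra hcon
      push Not at hcon
      exact hw hcon
    obtain ⟨v, hv, hvw, -⟩ := (A.level_structure hspan hu0
      (by rw [hh u hu0, he u hu0]; omega)).2.2 w hwu
    refine ⟨v, ?_, hv.1, A.S_symm (A.ne_zero_of_not_mem hwu) hvw⟩
    rw [← A.part_eq hspan e h he hh h2 hx hu0 hu]
    exact (A.mem_part hspan e h he hh h2 hu0).2 (Or.inr (Or.inr hv))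
  class_unique x w hx hw p hp p' hp' hp0 hp'0 hwp hwp' := by
    obtain ⟨u, hu, hu0, hwu⟩ : ∃ u ∈ A.part hspan e h he hh h2 x, u ≠ 0 ∧ w ∉ A.S u := by
      by_contra hcon
      push Not at hcon
      exact hw hcon
    obtain ⟨v, hv, -, huniq⟩ := (A.level_structure hspan hu0
      (by rw [hh u hu0, he u hu0]; omega)).2.2 w hwu
    have hmem : ∀ q ∈ A.part hspan e h he hh h2 x, q ≠ 0 → w ∈ A.S q → q ∈ A.T v := by
      intro q hq hq0 hwq
      refine huniq q ?_ (A.S_symm hq0 hwq)
      rw [← A.part_eq hspan e h he hh h2 hx hu0 hu, A.mem_part hspan e h he hh h2 hu0] at hq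
      refine (hq.resolve_left hq0).resolve_left fun hqT => hwu ?_
      rwa [← ((A.mem_T hu0).1 hqT).resolve_left hq0]
    have h1 := hmem p hp hp0 hwp
    have h3 := hmem p' hp' hp'0 hwp'
    rwa [A.T_eq hv.1 h1 hp0]
  line_closed x y z hx hy hz hyx hzl := A.line_closed' hspan e h he hh h2 hx hy hz hyx hzl
  line_S x y z hx hy hz hyx hzl := fun w hw => A.mem_of_perp fun φ hφ =>
    A.line_le hspan e h he hh h2 hx hy hz hzl
      ⟨fun a ha => hφ a (Submodule.mem_sup_left ha), fun a ha => hφ a (Submodule.mem_sup_right ha)⟩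
      w hw

omit he hh h2 in
/-- A class is not smaller than half of the flag subspace, unless it fills it. -/
theorem no_small_class {x : X} (hx : x ≠ 0)
    (hlt : finrank (ZMod 2) (A.T x) < finrank (ZMod 2) (A.E x))
    (h3 : 3 * finrank (ZMod 2) (A.T x) ≤ finrank (ZMod 2) (A.E x)) : False := by
  haveI : Nontrivial X := nontrivial_of_ne x 0 hx
  have hh1 : 1 ≤ finrank (ZMod 2) (A.T x) := by
    rw [Nat.one_le_iff_ne_zero, ne_eq, Submodule.finrank_eq_zero]
    intro h0
    have hm := A.self_mem_T hx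
    rw [h0, Submodule.mem_bot] at hm
    exact hx hm
  exact YConf.false (by omega) (A.yconf hspan (finrank (ZMod 2) (A.E x)) (finrank (ZMod 2) (A.T x))
    (fun u hu => A.finrank_E_eq hu hx) (fun u hu => A.finrank_T_eq hu hx) (by omega))

end AF

end Cfsg.Agent.TransLinTwo
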