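import Cfsg.Agent.Lib.Perm.TransLinTwo.Block
import Cfsg.Agent.Lib.Perm.TransLinTwo.BlockSpread
import Cfsg.Agent.Lib.Perm.TransLinTwo.YFromCount

/-!
# One induction step from its parts
-/

set_option autoImplicit false
set_option linter.unusedSectionVars false

namespace Cfsg.Agent.TransLinTwo

open Module

universe u

/-- No classes of half the dimension of the `E x`. -/
def NoHalfClass {G X Y : Type u} [Group G] [Finite G] [AddCommGroup X] [Module (ZMod 2) X] [Finite X]
    [AddCommGroup Y] [Module (ZMod 2) Y] [Finite Y] (A : AF G X Y) : Prop :=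
  (∀ x w : X, x ≠ 0 → w ∉ A.S x →
      finrank (ZMod 2) ↥(A.S x ⊓ A.S w) + finrank (ZMod 2) (A.E x) = finrank (ZMod 2) (A.S x) ∧
        A.E x ⊓ A.E w = ⊥) →
    ∀ x : X, x ≠ 0 → finrank (ZMod 2) (A.E x) = 2 * finrank (ZMod 2) (A.T x) →
      2 ≤ finrank (ZMod 2) (A.T x) → False

variable {V : Type u} [AddCommGroup V] [Module (ZMod 2) V] [Finite V]
  {H : Subgroup (V ≃ₗ[ZMod 2] V)} {i : ℕ}

/-- Classes smaller than the `E x` do not occur. -/
theorem no_small {W : Type u} [AddCommGroup W] [Module (ZMod 2) W] [Finite W]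
    (G : Subgroup (W ≃ₗ[ZMod 2] W)) (hG : AntiflagTrans G) (hbig : 2 ≤ finrank (ZMod 2) W)
    (hhalf : NoHalfClass (afOfAntiflag G hG hbig))
    (hspan : ∀ x w : W, x ≠ 0 → w ∉ (afOfAntiflag G hG hbig).S x →
      finrank (ZMod 2) ↥((afOfAntiflag G hG hbig).S x ⊓ (afOfAntiflag G hG hbig).S w) +
          finrank (ZMod 2) ((afOfAntiflag G hG hbig).E x) =
        finrank (ZMod 2) ((afOfAntiflag G hG hbig).S x) ∧
      (afOfAntiflag G hG hbig).E x ⊓ (afOfAntiflag G hG hbig).E w = ⊥)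
    (x : W) (hx : x ≠ 0) (he : 3 ≤ finrank (ZMod 2) ((afOfAntiflag G hG hbig).E x))
    (hlt : finrank (ZMod 2) ((afOfAntiflag G hG hbig).T x) <
      finrank (ZMod 2) ((afOfAntiflag G hG hbig).E x)) : False := by
  set A := afOfAntiflag G hG hbig
  have hT1 : 1 ≤ finrank (ZMod 2) (A.T x) := by
    rw [Nat.one_le_iff_ne_zero, ne_eq, Submodule.finrank_eq_zero]
    intro h0
    have hm := A.self_mem_T hx
    rw [h0, Submodule.mem_bot] at hm
    exact hx hm
  obtain ⟨k, hk⟩ := dvd_of_two_pow_sub_one_dvd hT1 (A.finrank_T_dvd hspan hx)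
  match k, hk with
  | 0, hk => omega
  | 1, hk => omega
  | 2, hk => exact hhalf hspan x hx (by omega) (by omega)
  | k + 3, hk =>
    refine A.no_small_class hspan hx hlt ?_
    rw [hk, mul_comm 3]
    exact Nat.mul_le_mul_left _ (by omega)

/-- The step, given the independence lemma and the excluded configurations. -/
theorem step_of_parts (hn5 : 5 ≤ finrank (ZMod 2) V) (hodd : Odd (finrank (ZMod 2) V))
    (hp : (2 ^ finrank (ZMod 2) V - 1).Prime) (hi2 : 2 ≤ i) (hi : i < finrank (ZMod 2) V)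
    (hT : TupleTrans H i) (hind : LiftIndep H i)
    (hhalf : ∀ (A : Submodule (ZMod 2) V) (hA : finrank (ZMod 2) A + 1 = i),
      NoHalfClass (levelAF hT hi2 hi A hA))
    (hspread : (∀ (A : Submodule (ZMod 2) V) (hA : finrank (ZMod 2) A + 1 = i),
        ∀ z, z ≠ 0 → ∀ w ∈ (levelAF hT hi2 hi A hA).S z, w ≠ 0 →
          (levelAF hT hi2 hi A hA).S w = (levelAF hT hi2 hi A hA).S z) →
      (∀ (A : Submodule (ZMod 2) V) (hA : finrank (ZMod 2) A + 1 = i) (z : V ⧸ A), z ≠ 0 →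
        2 * finrank (ZMod 2) ((levelAF hT hi2 hi A hA).S z) = finrank (ZMod 2) (V ⧸ A) ∧
          3 ≤ finrank (ZMod 2) ((levelAF hT hi2 hi A hA).S z)) → False)
    (hfour : (∀ (A : Submodule (ZMod 2) V) (hA : finrank (ZMod 2) A + 1 = i),
        GeomSpread (levelAF hT hi2 hi A hA).S 2) → False) :
    TupleTrans H (i + 1) := by
  refine tupleTrans_succ hi2 hn5 hi hT ?_
  obtain ⟨A₀, hA₀'⟩ : ∃ A : Submodule (ZMod 2) V, finrank (ZMod 2) A = i - 1 := by
    let b := finBasis (ZMod 2) V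
    have hle : i - 1 ≤ finrank (ZMod 2) V := by omega
    refine ⟨Submodule.span (ZMod 2) (Set.range fun k : Fin (i - 1) => b (Fin.castLE hle k)), ?_⟩
    exact (finrank_span_eq_card (b.linearIndependent.comp (Fin.castLE hle) (Fin.castLE_injective hle))).trans (Fintype.card_fin _)
  have hA₀ : finrank (ZMod 2) A₀ + 1 = i := by omega
  obtain ⟨b₀, hb₀⟩ : ∃ b, b ∉ A₀ := by
    by_contra hno
    push Not at hno
    have hle := Submodule.finrank_mono (show ⊤ ≤ A₀ from fun z _ => hno z)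
    rw [finrank_top] at hle
    omega
  have hb₀' : A₀.mkQ b₀ ≠ 0 := fun h => hb₀ ((Submodule.Quotient.mk_eq_zero A₀).1 h)
  by_cases hf : finrank (ZMod 2) ((levelAF hT hi2 hi A₀ hA₀).S (A₀.mkQ b₀)) = 1
  · exact flagTrans_of_line hT hi2 hi hA₀ hb₀ hf
  exfalso
  -- dimensions are the same at every level
  have hconst : ∀ (A : Submodule (ZMod 2) V) (hA : finrank (ZMod 2) A + 1 = i) (z : V ⧸ A), z ≠ 0 →
      finrank (ZMod 2) ((levelAF hT hi2 hi A hA).S z) =
        finrank (ZMod 2) ((levelAF hT hi2 hi A₀ hA₀).S (A₀.mkQ b₀)) ∧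
      finrank (ZMod 2) ((levelAF hT hi2 hi A hA).E z) =
        finrank (ZMod 2) ((levelAF hT hi2 hi A₀ hA₀).E (A₀.mkQ b₀)) ∧
      finrank (ZMod 2) (V ⧸ A) = finrank (ZMod 2) (V ⧸ A₀) := by
    intro A hA z hz
    obtain ⟨b, rfl⟩ := A.mkQ_surjective z
    have hb : b ∉ A := fun h => hz ((Submodule.Quotient.mk_eq_zero A).2 h)
    have h1 := (levelAF hT hi2 hi A hA).finrank_S_add_E (A.mkQ b)
    have h2 := (levelAF hT hi2 hi A₀ hA₀).finrank_S_add_E (A₀.mkQ b₀)
    have h3 := finrank_E_level_eq hT hi2 hi hA hA₀ hb hb₀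
    have h4 := finrank_quot_level hT hi2 hi hA
    have h5 := finrank_quot_level hT hi2 hi hA₀
    exact ⟨by omega, h3, by omega⟩
  have hS0 : 1 ≤ finrank (ZMod 2) ((levelAF hT hi2 hi A₀ hA₀).S (A₀.mkQ b₀)) := by
    rw [Nat.one_le_iff_ne_zero, ne_eq, Submodule.finrank_eq_zero]
    intro h0
    have hm := (levelAF hT hi2 hi A₀ hA₀).self_mem_S (A₀.mkQ b₀)
    rw [h0, Submodule.mem_bot] at hm
    exact hb₀' hm
  by_cases hE : finrank (ZMod 2) ((levelAF hT hi2 hi A₀ hA₀).E (A₀.mkQ b₀)) ≤ 2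
  · exact small_codim_false hT hi2 hi hind hp hodd hA₀ hb₀ hE (by omega)
  have hcase : ∀ (A : Submodule (ZMod 2) V) (hA : finrank (ZMod 2) A + 1 = i),
      ((∀ z, z ≠ 0 → ∀ w ∈ (levelAF hT hi2 hi A hA).S z, w ≠ 0 →
          (levelAF hT hi2 hi A hA).S w = (levelAF hT hi2 hi A hA).S z) ∧
        2 * finrank (ZMod 2) ((levelAF hT hi2 hi A₀ hA₀).S (A₀.mkQ b₀)) = finrank (ZMod 2) (V ⧸ A)) ∨
      GeomSpread (levelAF hT hi2 hi A hA).S 2 := by
    intro A hA
    obtain ⟨b, hb⟩ : ∃ b, b ∉ A := by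
      by_contra hno
      push Not at hno
      have hle := Submodule.finrank_mono (show ⊤ ≤ A from fun z _ => hno z)
      rw [finrank_top] at hle
      omega
    have hz : A.mkQ b ≠ 0 := fun h => hb ((Submodule.Quotient.mk_eq_zero A).1 h)
    have hbig : 2 ≤ finrank (ZMod 2) (V ⧸ A) := by
      have := finrank_quot_level hT hi2 hi hA
      omega
    obtain ⟨h1, h2, -⟩ := hconst A hA _ hz
    rcases w_level (quotStab H A) _ hbig
        (fun hs x hx he hlt => no_small (quotStab H A) _ hbig (hhalf A hA) hs x hx he hlt)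
        (x := A.mkQ b) hz with h | h | h | h
    · exact absurd (h2.symm.trans_le h) hE
    · exact absurd (h1.symm.trans h) hf
    · refine Or.inl ⟨h.1, ?_⟩
      rw [← h1]
      exact h.2
    · exact Or.inr h
  by_cases h2S : finrank (ZMod 2) ((levelAF hT hi2 hi A₀ hA₀).S (A₀.mkQ b₀)) = 2
  · refine hfour fun A hA => (hcase A hA).elim (fun h => ?_) id
    have h5 := (levelAF hT hi2 hi A₀ hA₀).finrank_S_add_E (A₀.mkQ b₀)
    have h6 := finrank_quot_level hT hi2 hi hA₀
    have h7 := finrank_quot_level hT hi2 hi hA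
    omega
  · have hhalf' : ∀ (A : Submodule (ZMod 2) V) (hA : finrank (ZMod 2) A + 1 = i),
        (∀ z, z ≠ 0 → ∀ w ∈ (levelAF hT hi2 hi A hA).S z, w ≠ 0 →
          (levelAF hT hi2 hi A hA).S w = (levelAF hT hi2 hi A hA).S z) ∧
        2 * finrank (ZMod 2) ((levelAF hT hi2 hi A₀ hA₀).S (A₀.mkQ b₀)) =
          finrank (ZMod 2) (V ⧸ A) := fun A hA =>
      (hcase A hA).resolve_right fun h => by
        obtain ⟨b, hb⟩ : ∃ b, b ∉ A := by
          by_contra hno
          push Not at hno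
          have hle := Submodule.finrank_mono (show ⊤ ≤ A from fun z _ => hno z)
          rw [finrank_top] at hle
          omega
        have hz : A.mkQ b ≠ 0 := fun h0 => hb ((Submodule.Quotient.mk_eq_zero A).1 h0)
        exact h2S ((hconst A hA _ hz).1.symm.trans (h.rank _ hz))
    refine hspread (fun A hA => (hhalf' A hA).1) fun A hA z hz => ?_
    obtain ⟨h1, -, -⟩ := hconst A hA z hz
    refine ⟨?_, by omega⟩
    rw [h1]
    exact (hhalf' A hA).2

/-- The step, given independence and the absence of half classes. -/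
theorem step_of_indep (hn5 : 5 ≤ finrank (ZMod 2) V) (hodd : Odd (finrank (ZMod 2) V))
    (hp : (2 ^ finrank (ZMod 2) V - 1).Prime) (hi2 : 2 ≤ i) (hi : i < finrank (ZMod 2) V)
    (hT : TupleTrans H i) (hind : LiftIndep H i)
    (hhalf : ∀ (A : Submodule (ZMod 2) V) (hA : finrank (ZMod 2) A + 1 = i),
      NoHalfClass (levelAF hT hi2 hi A hA)) : TupleTrans H (i + 1) := by
  refine step_of_parts hn5 hodd hp hi2 hi hT hind hhalf (fun hsp hrk => ?_)
    (fun hG => no_four_spread hT hi2 hi hind hG)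
  obtain ⟨A, hA'⟩ : ∃ A : Submodule (ZMod 2) V, finrank (ZMod 2) A = i - 1 := by
    have hle : i - 1 ≤ finrank (ZMod 2) V := by omega
    let b := finBasis (ZMod 2) V
    refine ⟨Submodule.span (ZMod 2) (Set.range fun k : Fin (i - 1) => b (Fin.castLE hle k)), ?_⟩
    exact (finrank_span_eq_card (b.linearIndependent.comp (Fin.castLE hle)
      (Fin.castLE_injective hle))).trans (Fintype.card_fin _)
  have hA : finrank (ZMod 2) A + 1 = i := by omega
  have hq := finrank_quot_level hT hi2 hi hA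
  haveI : Nontrivial (V ⧸ A) := finrank_pos_iff.mp (by omega : 0 < finrank (ZMod 2) (V ⧸ A))
  obtain ⟨z, hz⟩ := exists_ne (0 : V ⧸ A)
  obtain ⟨h1, h2⟩ := hrk A hA z hz
  refine no_half_spread hT hi2 hi hind (f := finrank (ZMod 2) ((levelAF hT hi2 hi A hA).S z))
    (by omega) hsp (fun A' hA' z' hz' => ?_) (by omega)
  have h3 := (hrk A' hA' z' hz').1
  have h4 := finrank_quot_level hT hi2 hi hA'
  omega

end Cfsg.Agent.TransLinTwo
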