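import Mathlib

/-!
# Antiflag transitive linear groups over the field with two elements

A group acting on two paired spaces `X`, `Y` over `ZMod 2`, transitively on the pairs with pairing
one (the antiflags).  A Sylow two-subgroup fixes exactly one point and exactly one hyperplane; this
gives for each point `x` a subspace `S x` outside of which the stabiliser of `x` is transitive.
Everything is symmetric in `X` and `Y` (`AF.swap`).
-/

set_option autoImplicit false
set_option linter.unusedSectionVars false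

namespace Cfsg.Agent.TransLinTwo

/-- If the power `p ^ k` divides an orbit length of a finite group, it divides the orbit length of
each Sylow `p`-subgroup at the same point. -/
theorem pow_dvd_card_sylow_orbit {G α : Type*} [Group G] [Finite G] [MulAction G α] {p : ℕ}
    [Fact p.Prime] (P : Sylow p G) (a : α) {k : ℕ}
    (h : p ^ k ∣ Nat.card (MulAction.orbit G a)) :
    p ^ k ∣ Nat.card (MulAction.orbit (P : Subgroup G) a) := by
  have eG : Nat.card (MulAction.orbit G a) * Nat.card (MulAction.stabilizer G a) = Nat.card G := by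
    rw [← Nat.card_prod]
    exact Nat.card_congr (MulAction.orbitProdStabilizerEquivGroup G a)
  have eP : Nat.card (MulAction.orbit (P : Subgroup G) a) *
      Nat.card (MulAction.stabilizer (P : Subgroup G) a) = Nat.card (P : Subgroup G) := by
    rw [← Nat.card_prod]
    exact Nat.card_congr (MulAction.orbitProdStabilizerEquivGroup (P : Subgroup G) a)
  have hle : Nat.card (MulAction.stabilizer (P : Subgroup G) a) ∣
      Nat.card (MulAction.stabilizer G a) := by
    let f : MulAction.stabilizer (P : Subgroup G) a →* MulAction.stabilizer G a :=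
      { toFun := fun g => ⟨((g : (P : Subgroup G)) : G), g.2⟩
        map_one' := rfl
        map_mul' := fun _ _ => rfl }
    refine Subgroup.card_dvd_of_injective f ?_
    intro g g' hgg
    exact Subtype.ext (Subtype.ext (congrArg (fun z : MulAction.stabilizer G a => (z : G)) hgg))
  have hd : p ^ k * Nat.card (MulAction.stabilizer (P : Subgroup G) a) ∣ Nat.card G := by
    rw [← eG]
    exact Nat.mul_dvd_mul h hle
  obtain ⟨m, hm⟩ := P.2.exists_card_eq
  obtain ⟨s, hs⟩ := (P.2.to_subgroup (MulAction.stabilizer (P : Subgroup G) a)).exists_card_eq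
  have h2 : p ^ (k + s) ∣ Nat.card G := by
    rw [pow_add, ← hs]
    exact hd
  have h3 : p ^ (k + s) ∣ Nat.card (P : Subgroup G) := by
    rw [Sylow.card_eq_multiplicity P]
    refine Nat.pow_dvd_pow p ?_
    exact ((Fact.out : p.Prime).pow_dvd_iff_le_factorization Nat.card_pos.ne').1 h2
  rw [← eP, pow_add, ← hs] at h3
  exact Nat.dvd_of_mul_dvd_mul_right Nat.card_pos h3

theorem zmod_two_cases (a : ZMod 2) : a = 0 ∨ a = 1 := by
  revert a
  decide

theorem zmod_two_eq_iff (a b : ZMod 2) : a = b ↔ (a = 1 ↔ b = 1) := by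
  revert a b
  decide

/-- The sign of an element of `ZMod 2`. -/
def sgn (a : ZMod 2) : ℤ := if a = 0 then 1 else -1

theorem sgn_add (a b : ZMod 2) : sgn (a + b) = sgn a * sgn b := by
  revert a b
  decide

theorem sgn_zero : sgn 0 = 1 := rfl

/-- The sign sum of a functional. -/
theorem sum_sgn {M : Type*} [AddCommGroup M] [Module (ZMod 2) M] [Fintype M]
    (f : M →ₗ[ZMod 2] ZMod 2) (hf : f ≠ 0) : ∑ z, sgn (f z) = 0 := by
  obtain ⟨u, hu⟩ : ∃ u, f u = 1 := by
    by_contra hno
    refine hf (LinearMap.ext fun u => ?_)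
    rcases zmod_two_cases (f u) with h | h
    · exact h
    · exact absurd ⟨u, h⟩ hno
  have h := Equiv.sum_comp (Equiv.addRight u) (fun z => sgn (f z))
  have h' : ∀ z, sgn (f (z + u)) = -sgn (f z) := by
    intro z
    rw [map_add, sgn_add, hu]
    simp [sgn]
  simp only [Equiv.coe_addRight, h', Finset.sum_neg_distrib] at h
  omega

/-- A group transitive on the antiflags of two paired spaces. -/
structure AF (G X Y : Type*) [Group G] [AddCommGroup X] [Module (ZMod 2) X] [AddCommGroup Y]
    [Module (ZMod 2) Y] where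
  /-- the action on points -/
  px : G →* (X ≃ₗ[ZMod 2] X)
  /-- the action on functionals -/
  py : G →* (Y ≃ₗ[ZMod 2] Y)
  /-- the pairing -/
  b : X →ₗ[ZMod 2] Y →ₗ[ZMod 2] ZMod 2
  inv : ∀ g x y, b (px g x) (py g y) = b x y
  sepX : ∀ x, (∀ y, b x y = 0) → x = 0
  sepY : ∀ y, (∀ x, b x y = 0) → y = 0
  trans : ∀ x y x' y', b x y = 1 → b x' y' = 1 → ∃ g, px g x = x' ∧ py g y = y'
  /-- the spaces are not lines -/
  big : ∃ x x' : X, x ≠ 0 ∧ x' ≠ 0 ∧ x ≠ x'

namespace AF

variable {G X Y : Type*} [Group G] [Finite G] [AddCommGroup X] [Module (ZMod 2) X] [Finite X]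
  [AddCommGroup Y] [Module (ZMod 2) Y] [Finite Y] (A : AF G X Y)

theorem exists_one {x : X} (hx : x ≠ 0) : ∃ y, A.b x y = 1 := by
  by_contra h
  refine hx (A.sepX x fun y => ?_)
  rcases zmod_two_cases (A.b x y) with h' | h'
  · exact h'
  · exact absurd ⟨y, h'⟩ h

theorem exists_one' {y : Y} (hy : y ≠ 0) : ∃ x, A.b x y = 1 := by
  by_contra h
  refine hy (A.sepY y fun x => ?_)
  rcases zmod_two_cases (A.b x y) with h' | h'
  · exact h'
  · exact absurd ⟨x, h'⟩ h

/-- Two different nonzero points are separated by a functional with any value on the first. -/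
theorem exists_one_zero {x x' : X} (hx : x ≠ 0) (hne : x ≠ x') :
    ∃ y, A.b x y = 1 ∧ A.b x' y = 0 := by
  obtain ⟨y, hy⟩ := A.exists_one hx
  obtain ⟨z, hz⟩ := A.exists_one (sub_ne_zero.2 hne)
  rw [map_sub, LinearMap.sub_apply] at hz
  rcases zmod_two_cases (A.b x' y) with h | h
  · exact ⟨y, hy, h⟩
  · rcases zmod_two_cases (A.b x z) with h' | h'
    · refine ⟨y + z, by rw [map_add, hy, h', add_zero], ?_⟩
      have h'' : A.b x' z = 1 := by
        rw [h'] at hz
        rcases zmod_two_cases (A.b x' z) with q | q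
        · rw [q] at hz
          simp at hz
        · exact q
      rw [map_add, h, h'']
      decide
    · refine ⟨z, h', ?_⟩
      rw [h'] at hz
      rcases zmod_two_cases (A.b x' z) with q | q
      · exact q
      · rw [q] at hz
        simp at hz

include A in
theorem exists_ne_of_big (y : Y) : ∃ y' : Y, y' ≠ 0 ∧ y' ≠ y := by
  obtain ⟨x, x', hx, hx', hne⟩ := A.big
  obtain ⟨a, ha, ha'⟩ := A.exists_one_zero hx hne
  obtain ⟨c, hc, hc'⟩ := A.exists_one_zero hx' (Ne.symm hne)
  by_cases h : a = y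
  · refine ⟨c, fun h0 => by simp [h0] at hc, fun h0 => ?_⟩
    subst h h0
    rw [hc] at ha'
    exact one_ne_zero ha'
  · exact ⟨a, fun h0 => by simp [h0] at ha, h⟩

/-- The same group with points and functionals exchanged. -/
def swap : AF G Y X where
  px := A.py
  py := A.px
  b := A.b.flip
  inv g y x := A.inv g x y
  sepX := A.sepY
  sepY := A.sepX
  trans y x y' x' h h' := by
    obtain ⟨g, h1, h2⟩ := A.trans x y x' y' h h'
    exact ⟨g, h2, h1⟩
  big := by
    obtain ⟨a, ha, -⟩ := A.exists_ne_of_big 0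
    obtain ⟨c, hc, hca⟩ := A.exists_ne_of_big a
    exact ⟨a, c, ha, hc, Ne.symm hca⟩

theorem swap_b (x : X) (y : Y) : A.swap.b y x = A.b x y := rfl

theorem swap_swap_b (x : X) (y : Y) : A.swap.swap.b x y = A.b x y := rfl

/-- The action on pairs. -/
@[reducible] def prodAction : MulAction G (X × Y) where
  smul g a := (A.px g a.1, A.py g a.2)
  one_smul a := by
    change (A.px 1 a.1, A.py 1 a.2) = a
    simp
  mul_smul g g' a := by
    change (A.px (g * g') a.1, A.py (g * g') a.2) = (A.px g (A.px g' a.1), A.py g (A.py g' a.2))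
    simp

theorem point_trans {x x' : X} (hx : x ≠ 0) (hx' : x' ≠ 0) : ∃ g, A.px g x = x' := by
  obtain ⟨y, hy⟩ := A.exists_one hx
  obtain ⟨y', hy'⟩ := A.exists_one hx'
  obtain ⟨g, hg, -⟩ := A.trans x y x' y' hy hy'
  exact ⟨g, hg⟩

theorem hom_inv_apply (ρ : G →* (X ≃ₗ[ZMod 2] X)) (g : G) (x : X) : ρ g⁻¹ (ρ g x) = x := by
  rw [← LinearEquiv.mul_apply, ← map_mul, inv_mul_cancel, map_one]
  rfl

theorem px_inv (g : G) (x : X) : A.px g⁻¹ (A.px g x) = x := hom_inv_apply A.px g x

theorem px_inv' (g : G) (x : X) : A.px g (A.px g⁻¹ x) = x := by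
  simpa using A.px_inv g⁻¹ x

/-- The fixed functionals of a subgroup with one value on a fixed point are all the functionals
with that value. -/
theorem sylow_trans {P : Sylow 2 G} {x : X} {y y' : Y} (hP : ∀ g ∈ P, A.px g x = x)
    (hy : A.b x y = 1) (hy' : A.b x y' = 1) : ∃ g ∈ P, A.py g y = y' := by
  letI := A.prodAction
  haveI : Fact (Nat.Prime 2) := ⟨Nat.prime_two⟩
  have hx : x ≠ 0 := fun h => by simp [h] at hy
  -- the antiflag orbit
  have horb : MulAction.orbit G (x, y) = {a : X × Y | A.b a.1 a.2 = 1} := by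
    ext a
    constructor
    · rintro ⟨g, rfl⟩
      change A.b (A.px g x) (A.py g y) = 1
      rw [A.inv, hy]
    · intro ha
      obtain ⟨g, h1, h2⟩ := A.trans x y a.1 a.2 hy ha
      exact ⟨g, Prod.ext h1 h2⟩
  let T : Set Y := {z | A.b x z = 1}
  have hfib : ∀ u : {u : X // u ≠ 0}, Nat.card {z : Y // A.b u.1 z = 1} = Nat.card T := by
    intro u
    obtain ⟨g, hg⟩ := A.point_trans hx u.2
    refine (Nat.card_congr ((A.py g).toEquiv.subtypeEquiv fun z => ?_)).symm
    change A.b x z = 1 ↔ A.b u.1 (A.py g z) = 1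
    rw [← hg, A.inv]
  have hcardO : Nat.card (MulAction.orbit G (x, y)) = Nat.card {u : X // u ≠ 0} * Nat.card T := by
    rw [horb]
    let e : ({a : X × Y | A.b a.1 a.2 = 1} : Set (X × Y)) ≃
        Σ u : {u : X // u ≠ 0}, {z : Y // A.b u.1 z = 1} :=
      { toFun := fun a => ⟨⟨a.1.1, fun h => by
            have h1 : A.b a.1.1 a.1.2 = 1 := a.2
            rw [h, map_zero, LinearMap.zero_apply] at h1
            exact zero_ne_one h1⟩, ⟨a.1.2, a.2⟩⟩
        invFun := fun s => ⟨(s.1.1, s.2.1), s.2.2⟩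
        left_inv := fun a => rfl
        right_inv := fun s => rfl }
    haveI : Fintype {u : X // u ≠ 0} := Fintype.ofFinite _
    rw [Nat.card_congr e, Nat.card_sigma, Finset.sum_congr rfl fun u _ => hfib u, Finset.sum_const,
      Finset.card_univ, ← Nat.card_eq_fintype_card, smul_eq_mul]
  -- the affine hyperplane has two-power size
  obtain ⟨m, hm⟩ : ∃ m, Nat.card T = 2 ^ m := by
    let K : Submodule (ZMod 2) Y := LinearMap.ker (A.b x)
    refine ⟨Module.finrank (ZMod 2) K, ?_⟩
    let e : T ≃ K :=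
      { toFun := fun z => ⟨z.1 + y, by
          rw [LinearMap.mem_ker, map_add, show A.b x z.1 = 1 from z.2, hy]
          rfl⟩
        invFun := fun w => ⟨w.1 + y, by
          change A.b x (w.1 + y) = 1
          rw [map_add, show A.b x w.1 = 0 from w.2, hy, zero_add]⟩
        left_inv := fun z => Subtype.ext (by
          change z.1 + y + y = z.1
          rw [add_assoc, ZModModule.add_self, add_zero])
        right_inv := fun w => Subtype.ext (by
          change w.1 + y + y = w.1
          rw [add_assoc, ZModModule.add_self, add_zero]) }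
    rw [Nat.card_congr e, Module.natCard_eq_pow_finrank (K := ZMod 2)]
    simp
  have hdiv := pow_dvd_card_sylow_orbit P (x, y) (k := m) (by
    rw [hcardO, hm]
    exact Nat.dvd_mul_left _ _)
  -- the orbit of the Sylow group fills the fibre
  let f : MulAction.orbit (P : Subgroup G) (x, y) → T := fun a => ⟨a.1.2, by
    obtain ⟨g, hg⟩ := a.2
    rw [← hg]
    change A.b x (A.py (g : G) y) = 1
    conv_lhs => rw [← hP (g : G) g.2]
    rw [A.inv, hy]⟩
  have hinj : Function.Injective f := by
    rintro ⟨a, g, rfl⟩ ⟨a', g', rfl⟩ hfa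
    refine Subtype.ext (Prod.ext ?_ (congrArg Subtype.val hfa))
    change A.px (g : G) x = A.px (g' : G) x
    rw [hP _ g.2, hP _ g'.2]
  haveI : Nonempty (MulAction.orbit (P : Subgroup G) (x, y)) := ⟨⟨_, MulAction.mem_orbit_self _⟩⟩
  have hbij : Function.Bijective f := by
    refine (Nat.bijective_iff_injective_and_card f).2 ⟨hinj, ?_⟩
    exact le_antisymm (Nat.card_le_card_of_injective f hinj)
      (hm ▸ Nat.le_of_dvd Nat.card_pos hdiv)
  obtain ⟨⟨a, g, rfl⟩, ha⟩ := hbij.2 ⟨y', hy'⟩
  exact ⟨g, g.2, congrArg Subtype.val ha⟩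

/-- A Sylow two-subgroup fixes at most one nonzero point. -/
theorem fixed_unique {P : Sylow 2 G} {x x' : X} (hx : x ≠ 0) (hx' : x' ≠ 0)
    (h : ∀ g ∈ P, A.px g x = x) (h' : ∀ g ∈ P, A.px g x' = x') : x = x' := by
  by_contra hne
  obtain ⟨y, hy, hy0⟩ := A.exists_one_zero hx hne
  obtain ⟨z, hz, hzx⟩ := A.exists_one_zero hx' (Ne.symm hne)
  obtain ⟨g, hg, hgy⟩ := A.sylow_trans h hy (y' := y + z) (by rw [map_add, hy, hzx, add_zero])
  have hv := A.inv g x' y
  rw [h' g hg, hgy, map_add, hy0, hz, zero_add] at hv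
  exact one_ne_zero hv

/-- A Sylow two-subgroup fixes a nonzero point. -/
theorem exists_fixed (P : Sylow 2 G) : ∃ x : X, x ≠ 0 ∧ ∀ g ∈ P, A.px g x = x := by
  letI : MulAction G X :=
    { smul := fun g x => A.px g x
      one_smul := fun x => by
        change A.px 1 x = x
        simp
      mul_smul := fun g g' x => by
        change A.px (g * g') x = A.px g (A.px g' x)
        simp }
  haveI : Fact (Nat.Prime 2) := ⟨Nat.prime_two⟩
  obtain ⟨a, -, ha, -⟩ := A.big
  have hne : 2 ∣ Nat.card X := by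
    rw [Module.natCard_eq_pow_finrank (K := ZMod 2), Nat.card_zmod]
    refine dvd_pow_self 2 ?_
    intro h0
    have hs : Subsingleton X := Module.finrank_zero_iff.1 h0
    exact ha (Subsingleton.elim _ _)
  have h0 : (0 : X) ∈ MulAction.fixedPoints (P : Subgroup G) X := fun g => by
    change A.px (g : G) 0 = 0
    exact map_zero _
  obtain ⟨x, hx, hx0⟩ := P.2.exists_fixed_point_of_prime_dvd_card_of_fixed_point X hne h0
  exact ⟨x, Ne.symm hx0, fun g hg => hx ⟨g, hg⟩⟩

/-- The flags: a point and a functional fixed by one Sylow two-subgroup. -/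
def I (x : X) (y : Y) : Prop :=
  x ≠ 0 ∧ y ≠ 0 ∧ ∃ P : Sylow 2 G, (∀ g ∈ P, A.px g x = x) ∧ ∀ g ∈ P, A.py g y = y

theorem swap_I {x : X} {y : Y} : A.swap.I y x ↔ A.I x y :=
  ⟨fun ⟨a, c, P, h, h'⟩ => ⟨c, a, P, h', h⟩, fun ⟨a, c, P, h, h'⟩ => ⟨c, a, P, h', h⟩⟩

theorem I_map (g : G) {x : X} {y : Y} (h : A.I x y) : A.I (A.px g x) (A.py g y) := by
  obtain ⟨hx, hy, P, hPx, hPy⟩ := h
  refine ⟨fun h => hx ((A.px g).map_eq_zero_iff.1 h), fun h => hy ((A.py g).map_eq_zero_iff.1 h),
    g • P, fun k hk => ?_, fun k hk => ?_⟩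
  all_goals
    rw [← SetLike.mem_coe, Sylow.coe_smul, Set.mem_smul_set] at hk
    obtain ⟨l, hl, rfl⟩ := hk
    change _ = _
  · have e : MulAut.conj g • l = g * l * g⁻¹ := rfl
    rw [e, map_mul, map_mul, LinearEquiv.mul_apply, LinearEquiv.mul_apply, A.px_inv,
      hPx l hl]
  · have e : MulAut.conj g • l = g * l * g⁻¹ := rfl
    rw [e, map_mul, map_mul, LinearEquiv.mul_apply, LinearEquiv.mul_apply,
      show A.py g⁻¹ (A.py g y) = y from A.swap.px_inv g y]
    exact congrArg (A.py g) (hPy l hl)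

theorem exists_I {x : X} (hx : x ≠ 0) : ∃ y, A.I x y := by
  haveI : Fact (Nat.Prime 2) := ⟨Nat.prime_two⟩
  obtain ⟨P⟩ := (inferInstance : Nonempty (Sylow 2 G))
  obtain ⟨x₀, hx₀, hfix⟩ := A.exists_fixed P
  obtain ⟨y₀, hy₀, hfix'⟩ := A.swap.exists_fixed P
  obtain ⟨g, rfl⟩ := A.point_trans hx₀ hx
  exact ⟨A.py g y₀, A.I_map g ⟨hx₀, hy₀, P, hfix, hfix'⟩⟩

theorem I_pair {x : X} {y : Y} (h : A.I x y) : A.b x y = 0 := by
  obtain ⟨hx, hy, P, hPx, hPy⟩ := h
  rcases zmod_two_cases (A.b x y) with h | h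
  · exact h
  obtain ⟨x', hx', hne⟩ := A.swap.exists_ne_of_big x
  obtain ⟨z, hz, hz'⟩ := A.exists_one_zero hx (Ne.symm hne)
  obtain ⟨w, hw, hw'⟩ := A.exists_one_zero hx' hne
  obtain ⟨y', hy', hyy⟩ : ∃ y', A.b x y' = 1 ∧ y' ≠ y := by
    by_cases q : z = y
    · refine ⟨z + w, by rw [map_add, hz, hw', add_zero], fun q' => ?_⟩
      subst q
      have hw0 : w = 0 := by simpa using q'
      simp [hw0] at hw
    · exact ⟨z, hz, q⟩
  obtain ⟨g, hg, hgy⟩ := A.sylow_trans hPx h hy'
  exact absurd ((hPy g hg).symm.trans hgy) (Ne.symm hyy)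

/-- The flags form one orbit. -/
theorem I_trans {x x' : X} {y y' : Y} (h : A.I x y) (h' : A.I x' y') :
    ∃ g, A.px g x = x' ∧ A.py g y = y' := by
  haveI : Fact (Nat.Prime 2) := ⟨Nat.prime_two⟩
  obtain ⟨hx, hy, P, hPx, hPy⟩ := h
  obtain ⟨hx', hy', Q, hQx, hQy⟩ := h'
  obtain ⟨g, rfl⟩ := MulAction.exists_smul_eq G P Q
  have hmem : ∀ l ∈ P, g * l * g⁻¹ ∈ g • P := by
    intro l hl
    rw [← SetLike.mem_coe, Sylow.coe_smul, Set.mem_smul_set]
    exact ⟨l, hl, rfl⟩
  refine ⟨g, A.fixed_unique (P := g • P) (fun h => hx ((A.px g).map_eq_zero_iff.1 h)) hx' ?_ hQx,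
    A.swap.fixed_unique (P := g • P) (fun h => hy ((A.py g).map_eq_zero_iff.1 h)) hy' ?_ hQy⟩
  all_goals
    intro k hk
    rw [← SetLike.mem_coe, Sylow.coe_smul, Set.mem_smul_set] at hk
    obtain ⟨l, hl, rfl⟩ := hk
    have e : MulAut.conj g • l = g * l * g⁻¹ := rfl
    rw [e, map_mul, map_mul, LinearEquiv.mul_apply, LinearEquiv.mul_apply]
  · rw [A.px_inv, hPx l hl]
  · change A.py g (A.py l (A.py g⁻¹ (A.py g y))) = A.py g y
    rw [show A.py g⁻¹ (A.py g y) = y from A.swap.px_inv g y, hPy l hl]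

/-- The subspace cut out by the flags at `x`. -/
def S (x : X) : Submodule (ZMod 2) X where
  carrier := {z | ∀ y, A.I x y → A.b z y = 0}
  zero_mem' := fun y _ => by simp
  add_mem' := fun ha hc y hy => by
    rw [map_add, LinearMap.add_apply, ha y hy, hc y hy, add_zero]
  smul_mem' := fun c z hz y hy => by rw [map_smul, LinearMap.smul_apply, hz y hy, smul_zero]

theorem mem_S {x z : X} : z ∈ A.S x ↔ ∀ y, A.I x y → A.b z y = 0 := Iff.rfl

/-- The functionals vanishing on `S x`. -/
def E (x : X) : Submodule (ZMod 2) Y where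
  carrier := {y | ∀ z ∈ A.S x, A.b z y = 0}
  zero_mem' := fun z _ => by simp
  add_mem' := fun ha hc z hz => by rw [map_add, ha z hz, hc z hz, add_zero]
  smul_mem' := fun c y hy z hz => by rw [map_smul, hy z hz, smul_zero]

theorem mem_E {x : X} {y : Y} : y ∈ A.E x ↔ ∀ z ∈ A.S x, A.b z y = 0 := Iff.rfl

theorem self_mem_S (x : X) : x ∈ A.S x := fun _ h => A.I_pair h

theorem I_fix {g : G} {x : X} {y : Y} (hg : A.px g x = x) (h : A.I x y) : A.I x (A.py g y) := by
  have := A.I_map g h
  rwa [hg] at this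

theorem S_map {g : G} {x z : X} : A.px g z ∈ A.S (A.px g x) ↔ z ∈ A.S x := by
  constructor
  · intro h y hy
    have := h _ (A.I_map g hy)
    rwa [A.inv] at this
  · intro h y hy
    have hI : A.I x (A.py g⁻¹ y) := by
      have := A.I_map g⁻¹ hy
      rwa [A.px_inv] at this
    have h2 := A.inv g z (A.py g⁻¹ y)
    rw [h _ hI] at h2
    rwa [show A.py g (A.py g⁻¹ y) = y from A.swap.px_inv' g y] at h2

/-- Outside `S x` the stabiliser of `x` is transitive. -/
theorem off_S_trans {x z z' : X} (hz : z ∉ A.S x) (hz' : z' ∉ A.S x) :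
    ∃ g, A.px g x = x ∧ A.px g z = z' := by
  rw [mem_S] at hz hz'
  push Not at hz hz'
  obtain ⟨y, hy, hy1⟩ := hz
  obtain ⟨y', hy', hy1'⟩ := hz'
  obtain ⟨k, hk, rfl⟩ := A.I_trans hy hy'
  have hkz : A.b (A.px k z) (A.py k y) = 1 := by
    rw [A.inv]
    exact (zmod_two_cases _).resolve_left hy1
  obtain ⟨-, -, P, hPx, hPy⟩ := hy'
  obtain ⟨g, hg, hgz⟩ := A.swap.sylow_trans (P := P) hPy (y := A.px k z) (y' := z')
    hkz ((zmod_two_cases _).resolve_left hy1')
  refine ⟨g * k, ?_, ?_⟩
  · rw [map_mul, LinearEquiv.mul_apply, hk]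
    exact hPx g hg
  · rw [map_mul, LinearEquiv.mul_apply]
    exact hgz

/-- The nonzero functionals vanishing on `S x` are exactly the flags at `x`. -/
theorem mem_E_iff {x : X} (hx : x ≠ 0) {y : Y} : y ∈ A.E x ↔ y = 0 ∨ A.I x y := by
  classical
  haveI : Fintype X := Fintype.ofFinite X
  haveI : Fintype Y := Fintype.ofFinite Y
  constructor
  · intro hy
    by_cases hy0 : y = 0
    · exact Or.inl hy0
    refine Or.inr ?_
    obtain ⟨y₀, hy₀⟩ := A.exists_I hx
    let O : Finset Y := Finset.univ.filter fun z => A.I x z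
    let F : X → ℤ := fun z => ∑ w ∈ O, sgn (A.b z w)
    have hFfix : ∀ g, A.px g x = x → ∀ z, F (A.px g z) = F z := by
      intro g hg z
      symm
      refine Finset.sum_bij' (fun w _ => A.py g w) (fun w _ => A.py g⁻¹ w) ?_ ?_ ?_ ?_ ?_
      · intro w hw
        simp only [O, Finset.mem_filter, Finset.mem_univ, true_and] at hw ⊢
        exact A.I_fix hg hw
      · intro w hw
        simp only [O, Finset.mem_filter, Finset.mem_univ, true_and] at hw ⊢
        refine A.I_fix ?_ hw
        conv_lhs => rw [← hg]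
        exact A.px_inv g x
      · intro w _
        exact A.swap.px_inv g w
      · intro w _
        exact A.swap.px_inv' g w
      · intro w _
        rw [A.inv]
    have horth : ∀ u v : Y, (∑ z, sgn (A.b z u) * sgn (A.b z v)) =
        if u = v then (Fintype.card X : ℤ) else 0 := by
      intro u v
      split_ifs with huv
      · subst huv
        rw [Finset.sum_congr rfl (fun z _ => show sgn (A.b z u) * sgn (A.b z u) = 1 by
          rw [← sgn_add, ZModModule.add_self, sgn_zero])]
        simp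
      · have hne : A.b.flip (u + v) ≠ 0 := by
          intro h0
          refine huv ?_
          have h1 := A.sepY (u + v) fun z => LinearMap.congr_fun h0 z
          have h2 : u + v = v + v := by rw [h1, ZModModule.add_self]
          exact add_right_cancel h2
        rw [← sum_sgn _ hne]
        refine Finset.sum_congr rfl fun z _ => ?_
        rw [← sgn_add, LinearMap.flip_apply, map_add]
    have hsum : ∀ u, (∑ z, F z * sgn (A.b z u)) = if u ∈ O then (Fintype.card X : ℤ) else 0 := by
      intro u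
      simp only [F, Finset.sum_mul]
      rw [Finset.sum_comm, Finset.sum_congr rfl fun w _ => horth w u, Finset.sum_ite_eq']
    have hval : ∀ u : Y, u ≠ 0 → u ∈ A.E x → ∀ s, s ∉ A.S x →
        (∑ z, F z * sgn (A.b z u)) = ∑ z with z ∈ A.S x, ((O.card : ℤ) - F s) := by
      intro u hu hu' s hs
      have hne : A.b.flip u ≠ 0 := fun h0 => hu (A.sepY u fun z => LinearMap.congr_fun h0 z)
      have hz0 := sum_sgn (A.b.flip u) hne
      simp only [LinearMap.flip_apply] at hz0
      have h1 : ∀ z, F z * sgn (A.b z u) =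
          F s * sgn (A.b z u) + (if z ∈ A.S x then (O.card : ℤ) - F s else 0) := by
        intro z
        by_cases hzS : z ∈ A.S x
        · rw [if_pos hzS, hu' z hzS, sgn_zero, mul_one, mul_one]
          have : F z = O.card := by
            simp only [F]
            rw [Finset.sum_congr rfl (fun w hw => show sgn (A.b z w) = 1 by
              simp only [O, Finset.mem_filter, Finset.mem_univ, true_and] at hw
              rw [hzS w hw, sgn_zero])]
            simp
          omega
        · obtain ⟨g, hg, rfl⟩ := A.off_S_trans hs hzS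
          rw [if_neg hzS, add_zero, hFfix g hg]
      rw [Finset.sum_congr rfl fun z _ => h1 z, Finset.sum_add_distrib, ← Finset.mul_sum, hz0,
        mul_zero, zero_add, Finset.sum_filter]
    obtain ⟨s, hs⟩ : ∃ s, s ∉ A.S x := by
      obtain ⟨s, hs⟩ := A.exists_one' hy₀.2.1
      exact ⟨s, fun h => one_ne_zero (hs.symm.trans (h y₀ hy₀))⟩
    have hy₀E : y₀ ∈ A.E x := fun z hz => hz y₀ hy₀
    have e1 := (hsum y).symm.trans (hval y hy0 hy s hs)
    have e2 := (hsum y₀).symm.trans (hval y₀ hy₀.2.1 hy₀E s hs)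
    rw [← e2, if_pos (show y₀ ∈ O by simp [O, hy₀])] at e1
    by_contra hyI
    rw [if_neg (show y ∉ O by simp [O, hyI])] at e1
    exact (by exact_mod_cast Fintype.card_ne_zero : (Fintype.card X : ℤ) ≠ 0) e1.symm
  · rintro (rfl | h)
    · exact zero_mem _
    · exact fun z hz => hz y h

/-- The points whose flags contain a given functional, as a subspace. -/
def R (y : Y) : Submodule (ZMod 2) X := A.swap.E y

theorem mem_R_iff {y : Y} (hy : y ≠ 0) {x : X} : x ∈ A.R y ↔ x = 0 ∨ A.I x y :=
  (A.swap.mem_E_iff hy).trans (or_congr_right A.swap_I)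

/-- The pairing identifies `Y` with the dual of `X`. -/
theorem flip_bijective : Function.Bijective A.b.flip := by
  have hi : Function.Injective A.b.flip := by
    rw [← LinearMap.ker_eq_bot, LinearMap.ker_eq_bot']
    exact fun y hy => A.sepY y fun x => LinearMap.congr_fun hy x
  have hi' : Function.Injective A.b := by
    rw [← LinearMap.ker_eq_bot, LinearMap.ker_eq_bot']
    exact fun x hx => A.sepX x fun y => LinearMap.congr_fun hx y
  have h1 := LinearMap.finrank_le_finrank_of_injective hi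
  have h2 := LinearMap.finrank_le_finrank_of_injective hi'
  rw [Subspace.dual_finrank_eq] at h1 h2
  refine ⟨hi, ?_⟩
  refine (LinearMap.injective_iff_surjective_of_finrank_eq_finrank ?_).1 hi
  rw [Subspace.dual_finrank_eq]
  omega

theorem finrank_S_add_E (x : X) :
    Module.finrank (ZMod 2) (A.S x) + Module.finrank (ZMod 2) (A.E x) =
      Module.finrank (ZMod 2) X := by
  rw [← Subspace.finrank_add_finrank_dualAnnihilator_eq (A.S x)]
  congr 1
  have hm : (A.E x).map A.b.flip = (A.S x).dualAnnihilator := by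
    ext f
    rw [Submodule.mem_map, Submodule.mem_dualAnnihilator]
    constructor
    · rintro ⟨y, hy, rfl⟩ z hz
      exact hy z hz
    · intro hf
      obtain ⟨y, rfl⟩ := A.flip_bijective.2 f
      exact ⟨y, fun z hz => hf z hz, rfl⟩
  rw [← hm]
  exact LinearEquiv.finrank_eq (Submodule.equivMapOfInjective _ A.flip_bijective.1 _)

theorem finrank_E_eq {x x' : X} (hx : x ≠ 0) (hx' : x' ≠ 0) :
    Module.finrank (ZMod 2) (A.E x) = Module.finrank (ZMod 2) (A.E x') := by
  obtain ⟨g, rfl⟩ := A.point_trans hx hx'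
  have hm : (A.E x).map (A.py g).toLinearMap = A.E (A.px g x) := by
    ext y
    rw [Submodule.mem_map]
    constructor
    · rintro ⟨w, hw, rfl⟩ z hz
      rw [← A.px_inv' g z] at hz ⊢
      rw [A.S_map] at hz
      change A.b _ (A.py g w) = 0
      rw [A.inv]
      exact hw _ hz
    · intro hy
      refine ⟨A.py g⁻¹ y, fun z hz => ?_, A.swap.px_inv' g y⟩
      have := hy _ ((A.S_map (g := g)).2 hz)
      rwa [← A.swap.px_inv' g y, show A.swap.px g (A.swap.px g⁻¹ y) = A.py g (A.py g⁻¹ y) from rfl,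
        A.inv] at this
  rw [← hm, LinearEquiv.finrank_map_eq]

theorem card_flags {x : X} (hx : x ≠ 0) :
    Nat.card {q : X × Y // A.I q.1 q.2} =
      Nat.card {a : X // a ≠ 0} * (2 ^ Module.finrank (ZMod 2) (A.E x) - 1) := by
  classical
  haveI : Fintype X := Fintype.ofFinite X
  haveI : Fintype Y := Fintype.ofFinite Y
  let q : {q : X × Y // A.I q.1 q.2} ≃ Σ a : {a : X // a ≠ 0}, {c : Y // A.I a.1 c} :=
    { toFun := fun q => ⟨⟨q.1.1, q.2.1⟩, ⟨q.1.2, q.2⟩⟩
      invFun := fun s => ⟨(s.1.1, s.2.1), s.2.2⟩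
      left_inv := fun _ => rfl
      right_inv := fun _ => rfl }
  rw [Nat.card_congr q, Nat.card_sigma]
  rw [Finset.sum_congr rfl fun (a' : {a : X // a ≠ 0}) _ => ?_, Finset.sum_const,
    Finset.card_univ, ← Nat.card_eq_fintype_card, smul_eq_mul]
  rw [← A.finrank_E_eq a'.2 hx]
  let w : {c : Y // A.I a'.1 c} ≃ {c : A.E a'.1 // c ≠ 0} :=
    { toFun := fun c => ⟨⟨c.1, (A.mem_E_iff a'.2).2 (Or.inr c.2)⟩,
        fun h => c.2.2.1 (congrArg Subtype.val h)⟩
      invFun := fun c => ⟨c.1.1, ((A.mem_E_iff a'.2).1 c.1.2).resolve_left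
        fun h => c.2 (Subtype.ext h)⟩
      left_inv := fun _ => rfl
      right_inv := fun _ => rfl }
  rw [Nat.card_congr w, Nat.card_eq_fintype_card, Fintype.card_subtype_compl,
    Fintype.card_subtype_eq, ← Nat.card_eq_fintype_card,
    Module.natCard_eq_pow_finrank (K := ZMod 2), Nat.card_zmod]

/-- Points and functionals see flag subspaces of equal dimension. -/
theorem finrank_R_eq_E {x : X} {y : Y} (hx : x ≠ 0) (hy : y ≠ 0) :
    Module.finrank (ZMod 2) (A.R y) = Module.finrank (ZMod 2) (A.E x) := by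
  classical
  haveI : Fintype X := Fintype.ofFinite X
  haveI : Fintype Y := Fintype.ofFinite Y
  let e := Module.finrank (ZMod 2) (A.E x)
  let r := Module.finrank (ZMod 2) (A.R y)
  have h1 := A.card_flags hx
  have h2 := A.swap.card_flags hy
  have h3 : Nat.card {q : X × Y // A.I q.1 q.2} = Nat.card {q : Y × X // A.swap.I q.1 q.2} :=
    Nat.card_congr ((Equiv.prodComm X Y).subtypeEquiv fun q => A.swap_I.symm)
  have hcard : Nat.card {a : X // a ≠ 0} = Nat.card {a : Y // a ≠ 0} := by
    have h4 := A.flip_bijective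
    have h5 : Nat.card X = Nat.card Y := by
      rw [Nat.card_eq_of_bijective _ h4, Module.natCard_eq_pow_finrank (K := ZMod 2),
        Module.natCard_eq_pow_finrank (K := ZMod 2) (V := Module.Dual (ZMod 2) X),
        Subspace.dual_finrank_eq]
    rw [Nat.card_eq_fintype_card, Nat.card_eq_fintype_card] at h5
    rw [Nat.card_eq_fintype_card, Nat.card_eq_fintype_card, Fintype.card_subtype_compl,
      Fintype.card_subtype_compl, Fintype.card_subtype_eq, Fintype.card_subtype_eq, h5]
  rw [h1, h2, hcard] at h3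
  have hpos : 0 < Nat.card {a : Y // a ≠ 0} :=
    Nat.card_pos_iff.2 ⟨⟨⟨y, hy⟩⟩, inferInstance⟩
  have h6 := Nat.eq_of_mul_eq_mul_left hpos h3
  have h7 : 1 ≤ 2 ^ Module.finrank (ZMod 2) (A.E x) := Nat.one_le_two_pow
  have h8 : 1 ≤ 2 ^ Module.finrank (ZMod 2) (A.swap.E y) := Nat.one_le_two_pow
  exact Nat.pow_right_injective le_rfl (show 2 ^ Module.finrank (ZMod 2) (A.swap.E y) =
    2 ^ Module.finrank (ZMod 2) (A.E x) by omega)

theorem two_mul_card_S_le {x : X} (hx : x ≠ 0) : 2 * Nat.card (A.S x) ≤ Nat.card X := by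
  obtain ⟨y, hy⟩ := A.exists_I hx
  have hE : A.E x ≠ ⊥ := fun h => hy.2.1 (by
    have := (A.mem_E_iff hx).2 (Or.inr hy)
    rwa [h, Submodule.mem_bot] at this)
  have h1 : 1 ≤ Module.finrank (ZMod 2) (A.E x) := by
    rw [Nat.one_le_iff_ne_zero]
    exact fun h0 => hE (Submodule.finrank_eq_zero.1 h0)
  have h2 := A.finrank_S_add_E x
  rw [Module.natCard_eq_pow_finrank (K := ZMod 2) (V := A.S x),
    Module.natCard_eq_pow_finrank (K := ZMod 2) (V := X), Nat.card_zmod, ← h2, pow_add, mul_comm]
  exact Nat.mul_le_mul_left _ (Nat.le_self_pow (by omega) 2)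

/-- The relation `z ∈ S x` is symmetric. -/
theorem S_symm {x z : X} (hx : x ≠ 0) (hz : z ∈ A.S x) : x ∈ A.S z := by
  classical
  haveI : Fintype X := Fintype.ofFinite X
  by_contra hxz
  have hz0 : z ≠ 0 := by
    rintro rfl
    refine hxz fun y hy => ?_
    exact absurd rfl hy.1
  -- no pair has its reverse generic
  have hdis : ∀ a c : X, a ≠ 0 → c ≠ 0 → c ∉ A.S a → a ∈ A.S c := by
    intro a c ha hc hca
    obtain ⟨g, hg⟩ := A.point_trans hz0 ha
    have hxg : A.px g x ∉ A.S a := fun h => hxz ((A.S_map (g := g)).1 (hg.symm ▸ h))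
    obtain ⟨k, hk, hkc⟩ := A.off_S_trans hxg hca
    have hzg : a ∈ A.S (A.px g x) := hg ▸ (A.S_map (g := g)).2 hz
    have := (A.S_map (g := k)).2 hzg
    rwa [hk, hkc] at this
  let N := Finset.univ.filter fun q : X × X => q.1 ≠ 0 ∧ q.2 ≠ 0 ∧ q.2 ∉ A.S q.1
  let M := Finset.univ.filter fun q : X × X => q.1 ≠ 0 ∧ q.2 ≠ 0 ∧ q.2 ∈ A.S q.1
  have hle : N.card ≤ M.card := by
    refine Finset.card_le_card_of_injOn Prod.swap ?_ Prod.swap_injective.injOn
    intro q hq
    simp only [N, M, Finset.coe_filter, Finset.mem_univ, true_and, Set.mem_setOf_eq] at hq ⊢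
    exact ⟨hq.2.1, hq.1, hdis _ _ hq.1 hq.2.1 hq.2.2⟩
  have hlt : M.card < N.card := by
    rw [Finset.card_eq_sum_card_fiberwise (f := Prod.fst) (t := Finset.univ.filter fun a : X => a ≠ 0)
        (fun q hq => by simp only [M, Finset.coe_filter, Finset.mem_univ, true_and, Set.mem_setOf_eq] at hq ⊢; exact hq.1),
      Finset.card_eq_sum_card_fiberwise (f := Prod.fst) (s := N)
        (t := Finset.univ.filter fun a : X => a ≠ 0)
        (fun q hq => by simp only [N, Finset.coe_filter, Finset.mem_univ, true_and, Set.mem_setOf_eq] at hq ⊢; exact hq.1)]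
    refine Finset.sum_lt_sum_of_nonempty ⟨x, by simp [hx]⟩ fun a ha => ?_
    simp only [Finset.mem_filter, Finset.mem_univ, true_and] at ha
    have hM : (M.filter fun q => q.1 = a).card ≤ Nat.card (A.S a) - 1 := by
      have : (M.filter fun q => q.1 = a).card ≤
          (Finset.univ.filter fun c : X => c ∈ A.S a ∧ c ≠ 0).card := by
        refine Finset.card_le_card_of_injOn Prod.snd ?_ ?_
        · intro q hq
          simp only [M, Finset.coe_filter, Finset.mem_filter, Finset.mem_univ, true_and,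
            Set.mem_setOf_eq] at hq ⊢
          exact ⟨hq.2 ▸ hq.1.2.2, hq.1.2.1⟩
        · intro q hq q' hq' e
          simp only [Finset.coe_filter, Set.mem_setOf_eq] at hq hq'
          exact Prod.ext (hq.2.trans hq'.2.symm) e
      refine this.trans ?_
      rw [← Finset.filter_filter, Finset.filter_ne', Finset.card_erase_of_mem (by simp)]
      rw [Nat.card_eq_fintype_card, Fintype.card_subtype]
    have hN : Nat.card X - Nat.card (A.S a) ≤ (N.filter fun q => q.1 = a).card := by
      have hc : Nat.card X - Nat.card (A.S a) = (Finset.univ.filter fun c : X => c ∉ A.S a).card := by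
        rw [Finset.filter_not, Finset.card_sdiff, Finset.inter_univ, Finset.card_univ,
          Nat.card_eq_fintype_card, Nat.card_eq_fintype_card, Fintype.card_subtype]
      rw [hc]
      refine Finset.card_le_card_of_injOn (fun c => (a, c)) ?_ fun c _ c' _ e => congrArg Prod.snd e
      intro c hc'
      simp only [N, Finset.coe_filter, Finset.mem_filter, Finset.mem_univ, true_and,
        Set.mem_setOf_eq] at hc' ⊢
      exact ⟨⟨ha, fun h => hc' (h.symm ▸ zero_mem (A.S a)), hc'⟩, trivial⟩
    have h2 := A.two_mul_card_S_le ha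
    have h3 : 0 < Nat.card (A.S a) := Nat.card_pos
    omega
  omega

/-- Subadditivity. -/
theorem mem_S_add {u v z : X} (hu : u ≠ 0) (hv : v ≠ 0) (h : z ∈ A.S u) (h' : z ∈ A.S v) :
    z ∈ A.S (u + v) := by
  rcases eq_or_ne (u + v) 0 with huv | huv
  · intro y hy
    exact absurd huv hy.1
  rcases eq_or_ne z 0 with rfl | hz
  · exact zero_mem _
  exact A.S_symm hz (add_mem (A.S_symm hu h) (A.S_symm hv h'))

end AF

end Cfsg.Agent.TransLinTwo
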