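import Cfsg.Agent.Lib.Perm.TransLinTwo.Count
import Cfsg.Agent.Lib.Perm.TransLinTwo.Duality
import Cfsg.Agent.Lib.Perm.TransLinTwo.SpreadField

/-!
# The quotient level

An antiflag transitive group on `W` gives an `AF` structure, and then: the stabiliser of a point is
transitive off a line, or `S x` has codimension at most two, or the `S x` form a spread of
half-dimensional subspaces or a geometric spread of lines over the field with four elements.
-/

set_option autoImplicit false
set_option linter.unusedSectionVars false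

namespace Cfsg.Agent.TransLinTwo

open Module

variable {W : Type*} [AddCommGroup W] [Module (ZMod 2) W] [Finite W]

/-- The action on the dual space by inverse transposes. -/
def dualHom (G : Subgroup (W ≃ₗ[ZMod 2] W)) : G →* (Dual (ZMod 2) W ≃ₗ[ZMod 2] Dual (ZMod 2) W) where
  toFun g := (g : W ≃ₗ[ZMod 2] W).symm.dualMap
  map_one' := by
    ext φ x
    rfl
  map_mul' g g' := by
    ext φ x
    rfl

theorem dualHom_apply (G : Subgroup (W ≃ₗ[ZMod 2] W)) (g : G) (φ : Dual (ZMod 2) W) (x : W) :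
    dualHom G g φ x = φ ((g : W ≃ₗ[ZMod 2] W).symm x) := rfl

/-- The paired spaces of an antiflag transitive group. -/
noncomputable def afOfAntiflag (G : Subgroup (W ≃ₗ[ZMod 2] W)) (hG : AntiflagTrans G)
    (hbig : 2 ≤ finrank (ZMod 2) W) : AF G W (Dual (ZMod 2) W) where
  px := G.subtype
  py := dualHom G
  b := Dual.eval (ZMod 2) W
  inv g x φ := by
    show φ ((g : W ≃ₗ[ZMod 2] W).symm ((g : W ≃ₗ[ZMod 2] W) x)) = φ x
    rw [LinearEquiv.symm_apply_apply]
  sepX x hx := by
    refine (Module.forall_dual_apply_eq_zero_iff (ZMod 2) x).1 fun φ => ?_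
    exact hx φ
  sepY φ hφ := LinearMap.ext hφ
  trans x φ x' φ' h h' := by
    obtain ⟨g, hg, hgx, hgφ⟩ := hG x x' φ φ' h h'
    refine ⟨⟨g, hg⟩, hgx, LinearMap.ext fun z => ?_⟩
    show φ (g.symm z) = φ' z
    rw [← hgφ, LinearEquiv.apply_symm_apply]
  big := by
    let b := finBasis (ZMod 2) W
    exact ⟨b ⟨0, by omega⟩, b ⟨1, by omega⟩, b.ne_zero _, b.ne_zero _,
      b.injective.ne (by simp [Fin.ext_iff])⟩

theorem afOfAntiflag_px (G : Subgroup (W ≃ₗ[ZMod 2] W)) (hG : AntiflagTrans G)
    (hbig : 2 ≤ finrank (ZMod 2) W) (g : G) (x : W) :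
    (afOfAntiflag G hG hbig).px g x = (g : W ≃ₗ[ZMod 2] W) x := rfl

theorem dvd_of_two_pow_sub_one_dvd {h e : ℕ} (hh : 1 ≤ h) (hd : 2 ^ h - 1 ∣ 2 ^ e - 1) : h ∣ e := by
  have h1 := Nat.pow_sub_one_gcd_pow_sub_one 2 h e
  rw [Nat.gcd_eq_left hd] at h1
  have h2 : 2 ^ h = 2 ^ Nat.gcd h e := by
    have := Nat.one_le_two_pow (n := h)
    have := Nat.one_le_two_pow (n := Nat.gcd h e)
    omega
  rw [Nat.pow_right_injective le_rfl h2]
  exact Nat.gcd_dvd_right h e

namespace AF

variable {G X Y : Type*} [Group G] [Finite G] [AddCommGroup X] [Module (ZMod 2) X] [Finite X]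
  [AddCommGroup Y] [Module (ZMod 2) Y] [Finite Y] (A : AF G X Y)

theorem S_eq_map {g : G} {x : X} : (A.S x).map (A.px g).toLinearMap = A.S (A.px g x) := by
  ext z
  rw [Submodule.mem_map]
  constructor
  · rintro ⟨u, hu, rfl⟩
    exact A.S_map.2 hu
  · intro hz
    refine ⟨A.px g⁻¹ z, ?_, A.px_inv' g z⟩
    rw [← A.S_map (g := g), A.px_inv']
    exact hz

end AF

/-- What the counting leaves at the quotient level, given that classes smaller than the `E x` do
not occur. -/
theorem w_level (G : Subgroup (W ≃ₗ[ZMod 2] W)) (hG : AntiflagTrans G)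
    (hbig : 2 ≤ finrank (ZMod 2) W)
    (hsmall : (∀ x w : W, x ≠ 0 → w ∉ (afOfAntiflag G hG hbig).S x →
        finrank (ZMod 2) ↥((afOfAntiflag G hG hbig).S x ⊓ (afOfAntiflag G hG hbig).S w) +
            finrank (ZMod 2) ((afOfAntiflag G hG hbig).E x) =
          finrank (ZMod 2) ((afOfAntiflag G hG hbig).S x) ∧
        (afOfAntiflag G hG hbig).E x ⊓ (afOfAntiflag G hG hbig).E w = ⊥) →
      ∀ x : W, x ≠ 0 → 3 ≤ finrank (ZMod 2) ((afOfAntiflag G hG hbig).E x) →
        finrank (ZMod 2) ((afOfAntiflag G hG hbig).T x) <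
          finrank (ZMod 2) ((afOfAntiflag G hG hbig).E x) → False)
    {x : W} (hx : x ≠ 0) :
    finrank (ZMod 2) ((afOfAntiflag G hG hbig).E x) ≤ 2 ∨
      finrank (ZMod 2) ((afOfAntiflag G hG hbig).S x) = 1 ∨
      ((∀ z, z ≠ 0 → ∀ u ∈ (afOfAntiflag G hG hbig).S z, u ≠ 0 →
          (afOfAntiflag G hG hbig).S u = (afOfAntiflag G hG hbig).S z) ∧
        2 * finrank (ZMod 2) ((afOfAntiflag G hG hbig).S x) = finrank (ZMod 2) W) ∨
      GeomSpread (afOfAntiflag G hG hbig).S 2 := by
  set A := afOfAntiflag G hG hbig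
  haveI : Finite G := inferInstance
  have hAF : ∀ (v v' : W) (φ φ' : Dual (ZMod 2) W), φ v = 1 → φ' v' = 1 →
      ∃ g ∈ G, g v = v' ∧ φ'.comp g.toLinearMap = φ := fun v v' φ φ' h h' => by
    obtain ⟨g, hg, hgv, hgφ⟩ := hG v v' φ φ' h h'
    exact ⟨g, hg, hgv, LinearMap.ext hgφ⟩
  have hfe := A.finrank_S_add_E x
  rcases Nat.lt_or_ge (finrank (ZMod 2) (A.E x)) 3 with he | he
  · exact Or.inl (by omega)
  rcases Nat.lt_or_ge (finrank (ZMod 2) (A.S x)) 2 with hf | hf
  · refine Or.inr (Or.inl ?_)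
    have h1 : finrank (ZMod 2) (A.S x) ≠ 0 := fun h0 => by
      rw [Submodule.finrank_eq_zero] at h0
      have hm := A.self_mem_S x
      rw [h0, Submodule.mem_bot] at hm
      exact hx hm
    omega
  right; right
  have hmove : ∀ a c : W, a ≠ 0 → c ≠ 0 → (∀ u ∈ A.S a, u ≠ 0 → A.S u = A.S a) →
      ∀ u ∈ A.S c, u ≠ 0 → A.S u = A.S c := by
    intro a c ha hc hsp u hu hu0
    obtain ⟨g, rfl⟩ := A.point_trans ha hc
    rw [← A.S_eq_map, Submodule.mem_map] at hu
    obtain ⟨v, hv, rfl⟩ := hu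
    show A.S (A.px g v) = _
    rw [← A.S_eq_map, hsp v hv (fun h => hu0 (by simp [h])), A.S_eq_map]
  by_cases hspr : ∀ u ∈ A.S x, u ≠ 0 → A.S u = A.S x
  · -- the spread case
    have hsp : ∀ z, z ≠ 0 → ∀ u ∈ A.S z, u ≠ 0 → A.S u = A.S z :=
      fun z hz => hmove x z hx hz hspr
    have hrank : ∀ z, z ≠ 0 → finrank (ZMod 2) (A.S z) = finrank (ZMod 2) (A.S x) :=
      fun z hz => A.finrank_S_eq hz hx
    have h2f : 2 * finrank (ZMod 2) (A.S x) ≤ finrank (ZMod 2) W := by
      obtain ⟨w, hw⟩ := A.exists_not_mem_S hx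
      have hinf : A.S x ⊓ A.S w = ⊥ := by
        rw [eq_bot_iff]
        intro v hv
        rw [Submodule.mem_bot]
        by_contra hv0
        refine hw ?_
        rw [← hsp x hx v hv.1 hv0, hsp w (A.ne_zero_of_not_mem hw) v hv.2 hv0]
        exact A.self_mem_S w
      have h1 := Submodule.finrank_sup_add_finrank_inf_eq (A.S x) (A.S w)
      rw [hinf, finrank_bot, hrank w (A.ne_zero_of_not_mem hw)] at h1
      have h2 := Submodule.finrank_le (A.S x ⊔ A.S w)
      omega
    rcases eq_or_lt_of_le h2f with h2f | h2f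
    · exact Or.inl ⟨hsp, h2f⟩
    refine Or.inr ?_
    have hGS : GeomSpread A.S (finrank (ZMod 2) (A.S x)) :=
      { mem := fun v _ => A.self_mem_S v
        rank := hrank
        eq_of_mem := fun v u hv hu huv => hsp v hv u huv hu
        geom := fun a c u ha hc hu h => A.spread_geom hsp ha hc hu h
        big := fun a c ha hc => by
          by_contra hno
          push Not at hno
          have htop : A.S a ⊔ A.S c = ⊤ := eq_top_iff.2 fun z _ => hno z
          have h1 := Submodule.finrank_add_le_finrank_add_finrank (A.S a) (A.S c)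
          rw [htop, finrank_top, hrank a ha, hrank c hc] at h1
          omega }
    have hle := hGS.galois_bound ⟨x, hx⟩ G (fun g hg v u hu => by
      have := (A.S_map (g := ⟨g, hg⟩)).2 hu
      exact this) hAF
    rwa [show finrank (ZMod 2) (A.S x) = 2 by omega] at hGS
  · -- the span case
    exfalso
    have hspan' : ∀ a w : W, a ≠ 0 → w ∉ A.S a →
        finrank (ZMod 2) ↥(A.S a ⊓ A.S w) + finrank (ZMod 2) (A.E a) =
          finrank (ZMod 2) (A.S a) ∧ A.E a ⊓ A.E w = ⊥ ∧
          2 * finrank (ZMod 2) (A.E a) < finrank (ZMod 2) W := by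
      intro a w ha hw
      rcases A.spread_or_span ha with h | h
      · exact absurd (hmove a x ha hx h) hspr
      · obtain ⟨h1, -, h3, h4⟩ := h w hw
        exact ⟨h1, h3, h4⟩
    have hspan : ∀ a w : W, a ≠ 0 → w ∉ A.S a →
        finrank (ZMod 2) ↥(A.S a ⊓ A.S w) + finrank (ZMod 2) (A.E a) =
          finrank (ZMod 2) (A.S a) ∧ A.E a ⊓ A.E w = ⊥ :=
      fun a w ha hw => ⟨(hspan' a w ha hw).1, (hspan' a w ha hw).2.1⟩
    rcases (A.finrank_T_le_E hspan hx).eq_or_lt with hT | hT
    · obtain ⟨w, hw⟩ := A.exists_not_mem_S hx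
      have hd := (hspan' x w hx hw).2.2
      have hTe : ∀ z, z ≠ 0 → finrank (ZMod 2) (A.T z) = finrank (ZMod 2) (A.E x) :=
        fun z hz => (A.finrank_T_eq hz hx).trans hT
      have hGS : GeomSpread A.T (finrank (ZMod 2) (A.E x)) :=
        { mem := fun v hv => A.self_mem_T hv
          rank := hTe
          eq_of_mem := fun v u hv hu huv => A.T_eq hv huv hu
          geom := fun a c u ha hc hu h =>
            A.class_geom hspan (fun z hz => (hTe z hz).trans (A.finrank_E_eq hx hz)) ha hc hu h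
          big := fun a c ha hc => by
            by_contra hno
            push Not at hno
            have htop : A.T a ⊔ A.T c = ⊤ := eq_top_iff.2 fun z _ => hno z
            have h1 := Submodule.finrank_add_le_finrank_add_finrank (A.T a) (A.T c)
            rw [htop, finrank_top, hTe a ha, hTe c hc] at h1
            omega }
      have hle := hGS.galois_bound ⟨x, hx⟩ G (fun g hg v u hu => by
        rcases eq_or_ne v 0 with rfl | hv
        · rcases hu with rfl | ⟨h, -⟩
          · simp
          · exact absurd rfl h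
        · have : A.px ⟨g, hg⟩ u ∈ (A.T v).map (A.px ⟨g, hg⟩).toLinearMap :=
            Submodule.mem_map_of_mem hu
          rw [A.T_map hv] at this
          exact this) hAF
      omega
    · exact hsmall hspan x hx he hT

end Cfsg.Agent.TransLinTwo
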